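import Cfsg.Agent.Lib.ChevBlocks.Lead
import Cfsg.Agent.Lib.ChevBN.Parabolic
import Cfsg.Agent.Lib.ChevBN.WeaklyClosed
import Cfsg.Agent.Lib.ChevBN.Subfield

/-!
# Weyl words on vectors, and triangularity facts

* `nw_act`, `nw_coord`, `entry_conj`: a Weyl word is monomial on the root vectors;
* `eq_one_of_mem_parabolic_neg`: `P_J` meets the opposite radical trivially;
* `mem_borel_of_conj_simple`: `g x_i(1) g⁻¹ ∈ U` for all simple roots forces `g ∈ B`.
-/

set_option autoImplicit false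

namespace Cfsg.Agent.ChevOvergroup

open Cfsg.Lie Cfsg.Lie.ChevalleyDatum Cfsg.Agent.Chev Cfsg.Agent.ChevSt Cfsg.Agent.ChevBN Cfsg.Agent.ChevFixed
  Cfsg.Agent.ChevBlocks
open scoped Matrix

variable {D : ChevalleyDatum} {M : List (List ℤ)} {d : ℤ} (hD : Good D) (hR : Roots D M d) {F : Type*} [Field F]

local notation "RR" => chevRGD hD hR F

/-- A Weyl word permutes the root vectors and root elements up to the same sign. -/
theorem nw_act (l : List (Fin D.rank)) (q : Fin D.nroots) :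
    ∃ η : F, η ≠ 0 ∧
      ((RR).nw l : Matrix D.Idx D.Idx F) *ᵥ ev D F q.val = η • ev D F ((RR).ww l q).val ∧
      ∀ t : F, (RR).nw l * xg hD F q.val t * ((RR).nw l)⁻¹ = xg hD F ((RR).ww l q).val (η * t) := by
  induction l with
  | nil => exact ⟨1, one_ne_zero, by simp, fun t => by simp⟩
  | cons i l ih =>
    obtain ⟨η, hη, h1, h2⟩ := ih
    set q' := (RR).ww l q with hq'
    have hn : (RR).n i = ng hD F (D.simple i.val) 1 := rfl
    refine ⟨(nSign D (D.simple i.val) q'.val : F) * η, mul_ne_zero ?_ hη, ?_, fun t => ?_⟩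
    · rcases (nSign_cases hD (hD.simple_lt i.val i.isLt) q'.isLt).1 with h | h <;> simp [h]
    · rw [RGD.RootData.nw_cons, Units.val_mul, ← Matrix.mulVec_mulVec, h1, Matrix.mulVec_smul, hn, coe_ng,
        hD.n_root (hD.simple_lt i.val i.isLt) q'.isLt one_ne_zero, one_zpow, mul_one, smul_smul, mul_comm η]
      rfl
    · rw [RGD.RootData.nw_cons, show (RR).n i * (RR).nw l * xg hD F q.val t * ((RR).n i * (RR).nw l)⁻¹ =
        (RR).n i * ((RR).nw l * xg hD F q.val t * ((RR).nw l)⁻¹) * ((RR).n i)⁻¹ by group, h2, hn,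
        ng_conj_xg hD i.isLt q'.isLt, mul_assoc]
      rfl

theorem nw_inl (l : List (Fin D.rank)) (v : D.Idx → F) (hv : ∀ q, v (Sum.inr q) = 0) (q : Fin D.nroots) :
    (((RR).nw l : Matrix D.Idx D.Idx F) *ᵥ v) (Sum.inr q) = 0 := by
  induction l generalizing q with
  | nil => simpa using hv q
  | cons i l ih =>
    rw [RGD.RootData.nw_cons, Units.val_mul, ← Matrix.mulVec_mulVec]
    set w := ((RR).nw l : Matrix D.Idx D.Idx F) *ᵥ v
    have hw : w = ∑ j : Fin D.rank, w (Sum.inl j) • Pi.single (Sum.inl j) 1 := by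
      ext a
      rcases a with j | u
      · simp [Pi.single_apply]
      · simp [ih u]
    rw [hw, Matrix.mulVec_sum, Finset.sum_apply]
    refine Finset.sum_eq_zero fun j _ => ?_
    rw [show (((RR).n i : GL D.Idx F) : Matrix D.Idx D.Idx F) = D.nMat F (D.simple i.val) 1 from coe_ng hD _ _,
      Matrix.mulVec_smul, hD.n_inl (hD.simple_lt i.val i.isLt) one_ne_zero]
    simp [hv, Chev.hv]

theorem eq_sum_ev (v : D.Idx → F) (hv : ∀ i, v (Sum.inl i) = 0) :
    v = ∑ q : Fin D.nroots, v (Sum.inr q) • ev D F q.val := by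
  ext a
  rcases a with i | u
  · simp [hv, ev]
  · simp [ev, Fin.val_inj]

theorem nw_rootPart (l : List (Fin D.rank)) (v : D.Idx → F) (hv : ∀ i, v (Sum.inl i) = 0) (i : Fin D.rank) :
    (((RR).nw l : Matrix D.Idx D.Idx F) *ᵥ v) (Sum.inl i) = 0 := by
  rw [eq_sum_ev v hv, Matrix.mulVec_sum, Finset.sum_apply]
  refine Finset.sum_eq_zero fun q _ => ?_
  obtain ⟨η, -, h1, -⟩ := nw_act hD hR (F := F) l q
  rw [Matrix.mulVec_smul, h1]
  simp [ev]

/-- The coordinate of `nw l v` at `w q`. -/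
theorem nw_coord (l : List (Fin D.rank)) (q : Fin D.nroots) :
    ∃ η : F, η ≠ 0 ∧ ∀ v : D.Idx → F,
      (((RR).nw l : Matrix D.Idx D.Idx F) *ᵥ v) (Sum.inr ((RR).ww l q)) = η * v (Sum.inr q) := by
  obtain ⟨η, hη, h1, -⟩ := nw_act hD hR (F := F) l q
  refine ⟨η, hη, fun v => ?_⟩
  set vh : D.Idx → F := Sum.elim (fun i => v (Sum.inl i)) fun _ => 0
  set vr : D.Idx → F := Sum.elim (fun _ => 0) fun u => v (Sum.inr u)
  have e : v = vh + vr := by ext a; rcases a with i | u <;> simp [vh, vr]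
  rw [e, Matrix.mulVec_add, Pi.add_apply, nw_inl hD hR l vh (fun _ => rfl), zero_add, eq_sum_ev vr (fun _ => rfl),
    Matrix.mulVec_sum, Finset.sum_apply, Finset.sum_eq_single q]
  · rw [Matrix.mulVec_smul, h1]
    simp [ev, vr, vh, mul_comm, Fin.val_inj]
  · intro u _ hu
    obtain ⟨η', -, h2, -⟩ := nw_act hD hR (F := F) l u
    rw [Matrix.mulVec_smul, h2]
    have hne : ((RR).ww l q).val ≠ ((RR).ww l u).val := fun h =>
      hu (by rw [← (RR).ww_reverse_ww l u, ← Fin.ext h, (RR).ww_reverse_ww])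
    simp [ev, hne]
  · simp

/-- A nonzero entry at `(h, -r)` of a conjugate by a Weyl word. -/
theorem entry_conj (l : List (Fin D.rank)) (Y : GL D.Idx F) (q : Fin D.nroots) (i : Fin D.rank)
    (h : (((RR).nw l * Y * ((RR).nw l)⁻¹ : GL D.Idx F) : Matrix D.Idx D.Idx F) (Sum.inl i)
      (Sum.inr ⟨D.neg ((RR).ww l q).val, hD.neg_lt _ (Fin.isLt _)⟩) ≠ 0) :
    ∃ j, (Y : Matrix D.Idx D.Idx F) (Sum.inl j) (Sum.inr ⟨D.neg q.val, hD.neg_lt _ q.isLt⟩) ≠ 0 := by
  by_contra hcon
  push Not at hcon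
  apply h
  set n := (RR).nw l
  obtain ⟨η, hη, h1, -⟩ := nw_act hD hR (F := F) l ⟨D.neg q.val, hD.neg_lt _ q.isLt⟩
  have hneg : ((RR).ww l ⟨D.neg q.val, hD.neg_lt _ q.isLt⟩).val = D.neg ((RR).ww l q).val :=
    congrArg Fin.val ((RR).ww_neg l q)
  rw [hneg] at h1
  have h2 : ((n⁻¹ : GL D.Idx F) : Matrix D.Idx D.Idx F) *ᵥ ev D F (D.neg ((RR).ww l q).val) =
      η⁻¹ • ev D F (D.neg q.val) := by
    have := congrArg (fun v => η⁻¹ • (((n⁻¹ : GL D.Idx F) : Matrix D.Idx D.Idx F) *ᵥ v)) h1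
    simp only [Matrix.mulVec_mulVec, Matrix.mulVec_smul, smul_smul, inv_mul_cancel₀ hη, one_smul] at this
    rw [← Units.val_mul, show n⁻¹ * (RR).nw l = 1 from inv_mul_cancel n, Units.val_one, Matrix.one_mulVec] at this
    exact this.symm
  have e : ∀ (A : Matrix D.Idx D.Idx F) (a : D.Idx) (b : ℕ) (hb : b < D.nroots),
      A a (Sum.inr ⟨b, hb⟩) = (A *ᵥ ev D F b) a := fun A a b hb => by
    rw [ev_of_lt D F hb, Matrix.mulVec_single_one]; rfl
  have e' := e ((n * Y * n⁻¹ : GL D.Idx F) : Matrix D.Idx D.Idx F) (Sum.inl i) _ (hD.neg_lt _ ((RR).ww l q).isLt)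
  refine e'.trans ?_
  rw [Units.val_mul, Units.val_mul, ← Matrix.mulVec_mulVec, ← Matrix.mulVec_mulVec, h2, Matrix.mulVec_smul,
    Matrix.mulVec_smul, Pi.smul_apply,
    nw_rootPart hD hR l _ (fun j => by rw [← e _ _ _ (hD.neg_lt _ q.isLt)]; exact hcon j), smul_zero]

include hD in
/-- A conjugate of `x_r` in `U` reaches `(h, -q)` only for `o r ≤ o q`. -/
theorem jump_conj {o : ℕ → ℤ} (ho : OrdOK D o) {a : GL D.Idx F} (ha : a ∈ D.posUnipotent F) {r : ℕ}
    (hr : D.IsPosRoot r) (t : F) (i : Fin D.rank) (q : Fin D.nroots)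
    (h : ((a * xg hD F r t * a⁻¹ : GL D.Idx F) : Matrix D.Idx D.Idx F) (Sum.inl i)
      (Sum.inr ⟨D.neg q.val, hD.neg_lt _ q.isLt⟩) ≠ 0) : o r ≤ o q.val := by
  have hlin : IsLin D o := ⟨ho.add, ho.neg⟩
  have hU : ∀ x ∈ D.posUnipotent F, UTri D o (x : Matrix D.Idx D.Idx F) := fun x hx => by
    refine uTri_closure hD hlin (Subgroup.closure_mono ?_ hx)
    rintro y ⟨s, u, hs, e⟩
    exact ⟨s, u, hs.1, (ho.pos_iff s hs.1).1 hs, e⟩
  set A := (a : Matrix D.Idx D.Idx F)
  set B := ((a⁻¹ : GL D.Idx F) : Matrix D.Idx D.Idx F)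
  have hAB : A * B = 1 := by rw [← Units.val_mul, mul_inv_cancel, Units.val_one]
  have hval : ((a * xg hD F r t * a⁻¹ : GL D.Idx F) : Matrix D.Idx D.Idx F) =
      1 + A * (xR D F r t - 1) * B := by
    rw [Units.val_mul, Units.val_mul, coe_xg, x_eq_xR D hr.1, mul_sub, mul_one, sub_mul, hAB, add_sub_cancel]
  rw [hval, Matrix.add_apply, Matrix.one_apply_ne (by simp), zero_add, Matrix.mul_apply] at h
  obtain ⟨c, -, hc⟩ := Finset.exists_ne_zero_of_sum_ne_zero h
  have h1 := left_ne_zero_of_mul hc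
  rw [Matrix.mul_apply] at h1
  obtain ⟨c', -, hc'⟩ := Finset.exists_ne_zero_of_sum_ne_zero h1
  have hA : wt D o c' ≤ 0 := by
    rcases (hU a ha).1 _ _ (left_ne_zero_of_mul hc') with e | e
    · rw [← e]; rfl
    · exact e.le
  have hB : -o q.val ≤ wt D o c := by
    rcases (hU a⁻¹ (inv_mem ha)).1 _ _ (right_ne_zero_of_mul hc) with e | e
    · rw [e]; simp [wt, ho.neg q.val q.isLt]
    · simp [wt, ho.neg q.val q.isLt] at e ⊢; omega
  have h2 := right_ne_zero_of_mul hc'
  rw [Matrix.sub_apply] at h2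
  by_cases hcc : c' = c
  · exfalso
    subst hcc
    have := (uTri_x hD (F := F) hlin hr.1 ((ho.pos_iff r hr.1).1 hr) t).2 c'
    rw [x_eq_xR D hr.1] at this
    simp [this] at h2
  rw [Matrix.one_apply_ne hcc, sub_zero] at h2
  rcases jump_x hD hlin hr.1 ((ho.pos_iff r hr.1).1 hr) t h2 with e | e
  · exact absurd e hcc
  · omega

include hD hR in
/-- `P_J` meets the span of the roots negative outside `J` trivially. -/
theorem eq_one_of_mem_parabolic_neg {J : Set ℕ} {g : GL D.Idx F} (hg : g ∈ D.parabolicSubgroup F J)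
    (hn : g ∈ Subgroup.closure {x : GL D.Idx F | ∃ (q : ℕ) (t : F), q < D.nroots ∧ outside D M J q < 0 ∧
      (x : Matrix D.Idx D.Idx F) = D.x F q t}) : g = 1 := by
  set f := outside D M J
  have hf := isLin_outside hD J (M := M)
  let W : Matrix D.Idx D.Idx F → Prop := fun A => ∀ a b, A a b ≠ 0 → wt D f b ≤ wt D f a
  have hmul : ∀ A B, W A → W B → W (A * B) := by
    intro A B hA hB a b hab
    rw [Matrix.mul_apply] at hab
    obtain ⟨c, -, hc⟩ := Finset.exists_ne_zero_of_sum_ne_zero hab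
    exact (hB c b (right_ne_zero_of_mul hc)).trans (hA a c (left_ne_zero_of_mul hc))
  have hgen : ∀ r t, (D.IsPosRoot r ∨ D.InRootSub J r) → W (D.x F r t) := by
    intro r t hr a b hab
    by_cases h0 : f r = 0
    · exact le_of_eq (homog_x hD hR hf (hr.elim (fun h => h.1) fun h => h.1) h0 t a b hab).symm
    · rcases hr with hr | hr
      · have : ¬ D.InRootSub J r := fun h => h0 (outside_eq_zero hD hR h)
        rcases (uTri_x hD hf hr.1 (outside_pos hD hR hr this) t).1 a b hab with e | e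
        · rw [e]
        · exact e.le
      · exact absurd (outside_eq_zero hD hR hr) h0
  have hU : UTri D (fun q => -1 * f q) (g : Matrix D.Idx D.Idx F) := by
    refine uTri_closure hD (hf.smul (-1)) (Subgroup.closure_mono ?_ hn)
    rintro x ⟨q, t, hq, hq', e⟩
    exact ⟨q, t, hq, by show 0 < -1 * f q; omega, e⟩
  have hW : W (g : Matrix D.Idx D.Idx F) := by
    suffices ∀ x ∈ D.parabolicSubgroup F J, W (x : Matrix D.Idx D.Idx F) ∧
        W ((x⁻¹ : GL D.Idx F) : Matrix D.Idx D.Idx F) from (this g hg).1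
    clear hU hn hg g
    intro g hg
    rw [parabolic_eq hD hR, Subgroup.sup_eq_closure] at hg
    induction hg using Subgroup.closure_induction with
    | mem x hx =>
      rcases hx with hx | hx
      · have hd : ∀ y ∈ D.diagonalSubgroup F, W (y : Matrix D.Idx D.Idx F) := fun y hy a b hab => by
          obtain ⟨χ, hχ, -⟩ := isToral_of_mem hD hy
          rw [hχ] at hab
          rcases tri_dg f χ a b hab with e | e
          · rw [e]
          · exact e.le
        exact ⟨hd x hx, hd _ (inv_mem hx)⟩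
      · induction hx using Subgroup.closure_induction with
        | mem y hy =>
          obtain ⟨r, t, hr, e⟩ := hy
          obtain rfl : y = xg hD F r t := Units.ext e
          exact ⟨hgen r t hr, by rw [xg_inv]; exact hgen r _ hr⟩
        | one =>
          refine ⟨fun a b h => ?_, fun a b h => ?_⟩ <;>
            (by_cases hab : a = b <;> [rw [hab]; simp [hab] at h])
        | mul y z _ _ hy hz =>
          exact ⟨by rw [Units.val_mul]; exact hmul _ _ hy.1 hz.1,
            by rw [_root_.mul_inv_rev, Units.val_mul]; exact hmul _ _ hz.2 hy.2⟩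
        | inv y _ hy => exact ⟨hy.2, by rw [inv_inv]; exact hy.1⟩
    | one =>
      refine ⟨fun a b h => ?_, fun a b h => ?_⟩ <;>
        (by_cases hab : a = b <;> [rw [hab]; simp [hab] at h])
    | mul y z _ _ hy hz =>
      exact ⟨by rw [Units.val_mul]; exact hmul _ _ hy.1 hz.1,
        by rw [_root_.mul_inv_rev, Units.val_mul]; exact hmul _ _ hz.2 hy.2⟩
    | inv y _ hy => exact ⟨hy.2, by rw [inv_inv]; exact hy.1⟩
  apply Units.ext
  ext a b
  by_cases hab : a = b
  · subst hab; rw [hU.2, Units.val_one, Matrix.one_apply_eq]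
  · rw [Units.val_one, Matrix.one_apply_ne hab]
    by_contra h
    rcases hU.1 a b h with e | e
    · exact hab e
    · have h' := hW a b h
      rcases a with i | x <;> rcases b with j | y <;> simp [wt] at e h' <;> omega

include hD hR in
theorem mem_borel_of_conj_simple (hC : CorootOK D) {g : GL D.Idx F} (hg : g ∈ D.group F)
    (h : ∀ i < D.rank, g * xg hD F (D.simple i) 1 * g⁻¹ ∈ D.posUnipotent F) : g ∈ D.borelSubgroup F := by
  rw [← chev_G hD hR] at hg
  obtain ⟨b, hb, l, u, hu, rfl⟩ := (RR).exists_normalForm hg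
  rw [← chev_B hD hR]
  have huB : u ∈ (RR).B := (RR).Upos_le_B ((RR).Uminus_le_Upos l hu)
  have huU : u ∈ D.posUnipotent F := chev_Upos hD hR (F := F) ▸ (RR).Uminus_le_Upos l hu
  obtain ⟨gl, hgl, egl⟩ := lin_comp hD hR F l (isLin_ht hD M)
  have hl : ∀ i : Fin D.rank, (RR).pos ((RR).ww l ((RR).simple i)) := by
    intro i
    have hb' : b ∈ D.borelSubgroup F := chev_B hD hR (F := F) ▸ hb
    have h1 : (RR).nw l * (u * xg hD F (D.simple i.val) 1 * u⁻¹) * ((RR).nw l)⁻¹ ∈ D.posUnipotent F := by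
      have := posUnipotent_conj hD hR (inv_mem hb') (h i.val i.isLt)
      convert this using 1
      group
    have key : ∀ y ∈ D.posUnipotent F, ((RR).nw l)⁻¹ * y * (RR).nw l ∈
        Subgroup.closure {x : GL D.Idx F | ∃ (q : ℕ) (t : F), q < D.nroots ∧ 0 < gl q ∧
          (x : Matrix D.Idx D.Idx F) = D.x F q t} := by
      intro y hy
      induction hy using Subgroup.closure_induction with
      | mem x hx =>
        obtain ⟨r, t, hr, e⟩ := hx
        obtain rfl : x = xg hD F r t := Units.ext e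
        set q := (RR).ww l.reverse ⟨r, hr.1⟩ with hq
        have hwq : (RR).ww l q = ⟨r, hr.1⟩ := (RR).ww_ww_reverse l _
        obtain ⟨η, hη, -, h2⟩ := nw_act hD hR (F := F) l q
        refine Subgroup.subset_closure ⟨q.val, η⁻¹ * t, q.isLt, ?_, ?_⟩
        · rw [egl q, hwq]; exact hR.ht_pos r hr.1 hr
        · have h3 := h2 (η⁻¹ * t)
          rw [hwq, ← mul_assoc, mul_inv_cancel₀ hη, one_mul] at h3
          simp only at h3
          rw [← h3, ← coe_xg hD]
          congr 1
          group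
      | one => simp [one_mem]
      | mul x y _ _ hx hy =>
        convert mul_mem hx hy using 1
        group
      | inv x _ hx =>
        convert inv_mem hx using 1
        group
    have h2 := key _ h1
    rw [show ((RR).nw l)⁻¹ * ((RR).nw l * (u * xg hD F (D.simple i.val) 1 * u⁻¹) * ((RR).nw l)⁻¹) * (RR).nw l =
      u * xg hD F (D.simple i.val) 1 * u⁻¹ by group] at h2
    have h3 := lead_pos hD hR hC huU (hR.pos_simple hD i.isLt) one_ne_zero hgl h2
    have h4 := egl ((RR).simple i)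
    change gl (D.simple i.val) = _ at h4
    by_contra hneg
    have h5 := hR.ht_pos _ (hD.neg_lt _ ((RR).ww l ((RR).simple i)).isLt)
      ((pos_or_neg hD ((RR).ww l ((RR).simple i)).isLt).2 hneg)
    rw [(isLin_ht hD M).neg _ ((RR).ww l ((RR).simple i)).isLt] at h5
    omega
  have hnH : (RR).nw l ∈ (RR).H := (RR).mem_H_of_pos fun r hr => by
    by_contra hneg
    have h1 : 0 < gl r.val := by
      have := lin_neg hD hR (g := fun q => -1 * gl q) (hgl.smul (-1)) (fun i hi => by
        have h2 := hR.ht_pos _ ((RR).ww l ((RR).simple ⟨i, hi⟩)).isLt (hl ⟨i, hi⟩)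
        have h3 := egl ((RR).simple ⟨i, hi⟩)
        change gl (D.simple i) = _ at h3
        show -1 * gl (D.simple i) < 0
        omega) r.isLt hr
      omega
    have h2 := hR.ht_pos _ (hD.neg_lt _ ((RR).ww l r).isLt) ((pos_or_neg hD ((RR).ww l r).isLt).2 hneg)
    rw [(isLin_ht hD M).neg _ ((RR).ww l r).isLt, ← egl r] at h2
    omega
  exact mul_mem (mul_mem hb ((RR).H_le_B hnH)) huB

end Cfsg.Agent.ChevOvergroup
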