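import Cfsg.Agent.Lib.ChevOvergroup.Upper
import Cfsg.Agent.Lib.Chev.All

/-!
# The centre of `U` in the seven tabulated groups

* `exists_central`: `Central D F sp` holds with `sp` the highest root, or with `sp` the highest short root
  in the special characteristic (3 for G₂, 2 for B₂ and F₄).
-/

set_option autoImplicit false
set_option maxRecDepth 100000
set_option synthInstance.maxSize 4000

namespace Cfsg.Agent.ChevOvergroup

open Cfsg.Lie Cfsg.Lie.ChevalleyDatum Cfsg.Agent.Chev Cfsg.Agent.ChevSt Cfsg.Agent.ChevBN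

/-- The gcd of the structure constants of a positive root with the other positive roots. -/
def coefGcd (D : ChevalleyDatum) (k : ℕ) : ℕ :=
  (D.posRoots.filter fun s => decide (s ≠ k)).foldr (fun s g => Int.gcd (D.chainM k s 1) g) 0

/-- The table condition. -/
def ZCheck (D : ChevalleyDatum) (s₀ p₀ : ℕ) : Prop :=
  (∀ k ∈ D.posRoots, k ≠ D.nroots - 1 → coefGcd D k = 1 ∨ (k = s₀ ∧ coefGcd D k = p₀)) ∧
    D.IsPosRoot s₀ ∧ ∀ s ∈ D.posRoots, s ≠ s₀ → ∀ τ ∈ D.commTerms s₀ s, (p₀ : ℤ) ∣ τ.2.1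

instance (D : ChevalleyDatum) (s₀ p₀ : ℕ) : Decidable (ZCheck D s₀ p₀) := by unfold ZCheck; infer_instance

theorem zG2 : ZCheck chevG2 9 3 := by decide +kernel
theorem zB2 : ZCheck chevB2 6 2 := by decide +kernel
theorem zD4 : ZCheck chevD4 23 1 := by decide +kernel
theorem zF4 : ZCheck chevF4 44 2 := by decide +kernel
theorem zE6 : ZCheck chevE6 71 1 := by decide +kernel
theorem zE7 : ZCheck chevE7 125 1 := by decide +kernel
theorem zE8 : ZCheck chevE8 239 1 := by decide +kernel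

theorem exists_of_foldr_gcd {F : Type*} [Field F] (f : ℕ → ℤ) :
    ∀ L : List ℕ, ((L.foldr (fun s g => Int.gcd (f s) g) 0 : ℕ) : F) ≠ 0 → ∃ s ∈ L, ((f s : ℤ) : F) ≠ 0
  | [], h => absurd Nat.cast_zero h
  | a :: L, h => by
    by_cases ha : ((f a : ℤ) : F) = 0
    · obtain ⟨s, hs, h'⟩ := exists_of_foldr_gcd f L fun h0 => h (by
        rw [List.foldr_cons]
        have e := congrArg (Int.cast : ℤ → F)
          (Int.gcd_eq_gcd_ab (f a) ((L.foldr (fun s g => Int.gcd (f s) g) 0 : ℕ) : ℤ))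
        push_cast at e
        rw [e, ha, h0, zero_mul, zero_mul, add_zero])
      exact ⟨s, List.mem_cons_of_mem _ hs, h'⟩
    · exact ⟨a, List.mem_cons_self, ha⟩

theorem central_of_check {D : ChevalleyDatum} (hD : Good D) {F : Type*} [Field F] {s₀ p₀ : ℕ}
    (h : ZCheck D s₀ p₀) :
    ∃ sp, Central D F sp ∧ (sp = D.nroots - 1 ∨ (sp = s₀ ∧ (p₀ : F) = 0)) := by
  obtain ⟨h1, h2, h3⟩ := h
  have hmem : ∀ k, D.IsPosRoot k → k ∈ D.posRoots := fun k hk => by simp [posRoots, hk, hk.1]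
  have hex : ∀ k, (coefGcd D k : F) ≠ 0 → ∃ s, D.IsPosRoot s ∧ s ≠ k ∧ ((D.chainM k s 1 : ℤ) : F) ≠ 0 := by
    intro k hk
    obtain ⟨s, hs, hne⟩ := exists_of_foldr_gcd (F := F) _ _ hk
    simp only [List.mem_filter, decide_eq_true_eq, posRoots] at hs
    exact ⟨s, hs.1.2, hs.2, hne⟩
  by_cases hp : (p₀ : F) = 0
  · refine ⟨s₀, ⟨h2, fun k hk hkθ hks => hex k ?_, fun s hs hne τ hτ => ?_⟩, Or.inr ⟨rfl, hp⟩⟩
    · rcases h1 k (hmem k hk) hkθ with e | e
      · rw [e]; simp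
      · exact absurd e.1 hks
    · obtain ⟨c, hc⟩ := h3 s (hmem s hs) hne τ hτ
      rw [hc, Int.cast_mul, Int.cast_natCast, hp, zero_mul]
  · obtain ⟨o, ho, hmax, hθ, -⟩ := highest_facts hD (Nat.lt_of_le_of_lt (Nat.zero_le _) h2.1)
    refine ⟨_, ⟨hθ, fun k hk hkθ _ => hex k ?_, fun s hs hne τ hτ => ?_⟩, Or.inl rfl⟩
    · rcases h1 k (hmem k hk) hkθ with e | e
      · rw [e]; simp
      · rw [e.2]; exact hp
    · exfalso
      obtain ⟨h4, h5⟩ := terms_above hD ho hθ.1 hs.1 hne ((ho.pos_iff _ hθ.1).1 hθ) ((ho.pos_iff s hs.1).1 hs) hτ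
      have := hmax _ h4
      have := (ho.pos_iff s hs.1).1 hs
      omega

end Cfsg.Agent.ChevOvergroup
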