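import Cfsg.Agent.Lib.ChevOvergroup.Embedded
import Cfsg.Agent.Lib.RGD.NormalForm

/-!
# Characteristic 2: all elements of `G₀` are fixed

* `eq_simple_of_conj`: if a conjugate of `x_θ(1)` lies in `U` outside `Udel i`, its root is the `i`-th simple root;
* `TwoOK`, `all_fixed_two`: otherwise a fixed and an unfixed involution would be conjugate.
-/

set_option autoImplicit false

namespace Cfsg.Agent.ChevOvergroup

open Cfsg.Lie Cfsg.Lie.ChevalleyDatum Cfsg.Agent.Chev Cfsg.Agent.ChevSt Cfsg.Agent.ChevSt.Sys Cfsg.Agent.ChevBN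
  Cfsg.Agent.ChevFixed Cfsg.Agent.ChevBlocks Cfsg.Agent.ChevOrder

/-- A simple root outside the orbit of `θ`, or two simple roots with commuting root subgroups. -/
def TwoOK (D : ChevalleyDatum) (θ : ℕ) : Prop :=
  (∃ i < D.rank, ∃ L : List ℕ, θ ∈ L ∧ D.simple i ∉ L ∧ ∀ q ∈ L, ∀ k < D.rank, wN D k q ∈ L) ∨
    ∃ i < D.rank, ∃ j < D.rank, i ≠ j ∧ D.commTerms (D.simple i) (D.simple j) = []

variable {D : ChevalleyDatum} {M : List (List ℤ)} {d : ℤ} {F : Type*} [Field F]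
variable (hD : Good D) (hR : Roots D M d)

local notation "RR" => chevRGD hD hR F

theorem xg_simple_notMem (i : Fin D.rank) : xg hD F (D.simple i.val) (1 : F) ∉ (RR).Udel i := by
  intro h
  have hx : xg hD F (D.simple i.val) (1 : F) ∈ (RR).U ((RR).simple i) := xg_mem_rootSubgroup hD _ _
  have h1 := (RR).n_conj_Udel i _ h
  have h2 := (RR).n_conj_U i _ _ hx
  have h3 : ¬ (RR).pos ((RR).w i ((RR).simple i)) := by
    rw [(RR).w_simple, (RR).pos_neg, not_not]; exact (RR).pos_simple i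
  have h4 : (RR).n i * xg hD F (D.simple i.val) (1 : F) * ((RR).n i)⁻¹ = 1 :=
    Subgroup.mem_bot.1 ((RR).B_inf_V.le
      ⟨(RR).Upos_le_B ((RR).span_mono (fun _ hs => hs.1) h1), (RR).U_le_Vneg h3 h2⟩)
  exact x_one_ne_one hD (hD.simple_lt i.val i.isLt) (conj_eq_one_iff.1 h4)

theorem conj_Udel_mem (i : Fin D.rank) {u y : GL D.Idx F} (hu : u ∈ (RR).Upos) (hy : y ∈ (RR).Udel i) :
    u * y * u⁻¹ ∈ (RR).Udel i := by
  obtain ⟨k, hk, a, ha, rfl⟩ := (RR).exists_Upos (i := i) hu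
  have h := (RR).U_conj_Udel i ha _ hy
  rw [show k * a * y * (k * a)⁻¹ = k * (a * y * a⁻¹) * k⁻¹ by group]
  exact mul_mem (mul_mem hk h) (inv_mem hk)

include hR in
/-- If a conjugate of `x_θ(1)` lies in `U`, it determines the simple roots `i` for which it is outside `Udel i`. -/
theorem eq_simple_of_conj {θ : Fin D.nroots}
    (hcent : ∀ q, D.IsPosRoot q → ∀ t u : F, xg hD F θ t * xg hD F q u = xg hD F q u * xg hD F θ t)
    {a : GL D.Idx F} (ha : a ∈ D.group F) (hU : a * xg hD F θ 1 * a⁻¹ ∈ D.posUnipotent F) :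
    ∃ l : List (Fin D.rank), ∀ i : Fin D.rank, a * xg hD F θ 1 * a⁻¹ ∉ (RR).Udel i →
      (RR).ww l θ = (RR).simple i := by
  rw [← chev_G hD hR] at ha
  obtain ⟨b, hb, l, u, hu, rfl⟩ := (RR).exists_normalForm ha
  refine ⟨l, fun i hi => ?_⟩
  have hux : u * xg hD F θ 1 * u⁻¹ = xg hD F θ 1 := by
    have hu' : u ∈ D.posUnipotent F := by rw [← chev_Upos hD hR]; exact (RR).Uminus_le_Upos l hu
    have : u ∈ Subgroup.centralizer ({xg hD F θ 1} : Set (GL D.Idx F)) := by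
      refine (Subgroup.closure_le _).2 ?_ hu'
      rintro x ⟨r, t, hr, e⟩
      obtain rfl : x = xg hD F r t := Units.ext e
      exact Subgroup.mem_centralizer_singleton_iff.2 (hcent r hr 1 t).symm
    rw [Subgroup.mem_centralizer_singleton_iff.1 this, mul_inv_cancel_right]
  set z := (RR).nw l * xg hD F θ 1 * ((RR).nw l)⁻¹ with hz
  have hzU : z ∈ (RR).U ((RR).ww l θ) := (RR).conj_U_mem ((RR).map_conj_U l θ) (xg_mem_rootSubgroup hD _ _)
  have e : b * (RR).nw l * u * xg hD F θ 1 * (b * (RR).nw l * u)⁻¹ = b * z * b⁻¹ := by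
    rw [show b * (RR).nw l * u * xg hD F θ 1 * (b * (RR).nw l * u)⁻¹ =
      b * ((RR).nw l * (u * xg hD F θ 1 * u⁻¹) * ((RR).nw l)⁻¹) * b⁻¹ by group, hux]
  rw [e] at hi hU
  have hpos : (RR).pos ((RR).ww l θ) := by
    by_contra hneg
    have hzB : z ∈ (RR).B := by
      have h := mul_mem (mul_mem (inv_mem hb) ((RR).Upos_le_B (by rwa [chev_Upos hD hR]))) hb
      simpa [mul_assoc] using h
    have h4 : z = 1 := Subgroup.mem_bot.1 ((RR).B_inf_V.le ⟨hzB, (RR).U_le_Vneg hneg hzU⟩)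
    exact x_one_ne_one hD θ.isLt (conj_eq_one_iff.1 h4)
  by_contra hne
  obtain ⟨v, hv, h, hh, rfl⟩ := (RR).exists_B hb
  apply hi
  rw [show v * h * z * (v * h)⁻¹ = v * (h * z * h⁻¹) * v⁻¹ by group]
  exact conj_Udel_mem hD hR i hv
    ((RR).U_le_span (A := {s | (RR).pos s ∧ s ≠ (RR).simple i}) ⟨hpos, hne⟩ ((RR).H_conj_U h hh _ _ hzU))

variable (hCo : CorootOK D) {σ : F →+* F} {G₀ : Subgroup (GL D.Idx F)} (hS : Setup hD σ G₀) [CharP F 2]
include hR hCo hS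

/-- In characteristic 2 all elements of `G₀` are fixed. -/
theorem all_fixed_two {θ : ℕ} (hθ : D.IsPosRoot θ)
    (hcent : ∀ q, D.IsPosRoot q → ∀ t u : F, xg hD F θ t * xg hD F q u = xg hD F q u * xg hD F θ t)
    (hok : TwoOK D θ) {g : GL D.Idx F} (hg : g ∈ G₀) : mapG D σ g = g := by
  by_contra hgf
  have : Fact (Nat.Prime 2) := ⟨Nat.prime_two⟩
  have hsq : ∀ r, xg hD F r (1 : F) ^ 2 = 1 := fun r => xg_one_pow hD 2 r
  have hinv : ∀ y : GL D.Idx F, y ^ 2 = 1 → y ≠ 1 → orderOf y = 2 := fun y h h1 => orderOf_eq_prime h h1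
  have hzG : g * xg hD F θ 1 * g⁻¹ ∈ G₀ :=
    mul_mem (mul_mem hg (hS.gen (xg_mem_fixedGen hD σ θ (map_one σ)))) (inv_mem hg)
  have hz2 : orderOf (g * xg hD F θ 1 * g⁻¹) = 2 :=
    hinv _ (by rw [conj_pow, hsq, mul_one, mul_inv_cancel]) fun h => x_one_ne_one hD hθ.1 (conj_eq_one_iff.1 h)
  have key : ∀ y ∈ fixedGen hD σ, y ∈ D.posUnipotent F → y ^ 2 = 1 → y ≠ 1 →
      ∃ l : List (Fin D.rank), ∀ i : Fin D.rank, y ∉ (RR).Udel i → (RR).ww l ⟨θ, hθ.1⟩ = (RR).simple i := by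
    intro y hy hyU hy2 hy1
    obtain ⟨a, ha, e⟩ := isConj_of_involution hD hR 2 hCo hS rfl (hS.gen hy) (fixedGen_fixed hD σ hy)
      (hinv y hy2 hy1) hzG (conj_not_fixed hD hR 2 hCo hS hθ hcent hg hgf) hz2
    have e' : (a⁻¹ * g) * xg hD F θ 1 * (a⁻¹ * g)⁻¹ = y := by
      rw [show a⁻¹ * g * xg hD F θ 1 * (a⁻¹ * g)⁻¹ = a⁻¹ * (g * xg hD F θ 1 * g⁻¹) * a by group, ← e]
      group
    obtain ⟨l, hl⟩ := eq_simple_of_conj hD hR (θ := ⟨θ, hθ.1⟩) hcent
      (mul_mem (inv_mem (hS.le ha)) (hS.le hg)) (by show _ ∈ _; rw [e']; exact hyU)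
    exact ⟨l, fun i hi => hl i (by show _ ∉ _; rw [e']; exact hi)⟩
  have hxU : ∀ i < D.rank, xg hD F (D.simple i) (1 : F) ∈ D.posUnipotent F := fun i hi =>
    Subgroup.subset_closure ⟨_, 1, hR.pos_simple hD hi, coe_xg hD _ _⟩
  rcases hok with ⟨i, hi, L, hθL, hiL, hL⟩ | ⟨i, hi, j, hj, hij, hcomm⟩
  · obtain ⟨l, hl⟩ := key _ (xg_mem_fixedGen hD σ _ (map_one σ)) (hxU i hi) (hsq _)
      (x_one_ne_one hD (hD.simple_lt i hi))
    have hmem : ∀ m : List (Fin D.rank), ((RR).ww m ⟨θ, hθ.1⟩).val ∈ L := fun m => by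
      induction m with
      | nil => exact hθL
      | cons k m ih => exact hL _ ih k.val k.isLt
    have h := hmem l
    rw [hl ⟨i, hi⟩ (xg_simple_notMem hD hR ⟨i, hi⟩)] at h
    exact hiL h
  · set a := xg hD F (D.simple i) (1 : F) with hadef
    set b := xg hD F (D.simple j) (1 : F) with hbdef
    have hsi := hD.simple_lt i hi
    have hsj := hD.simple_lt j hj
    have hne : D.simple j ≠ D.simple i := fun e => hij (hR.simple_inj hD hi hj e.symm)
    have hne' : D.simple j ≠ D.neg (D.simple i) := fun e =>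
      (pos_or_neg hD hsi).1 (e ▸ hR.pos_simple hD hj) (hR.pos_simple hD hi)
    have hab : Commute a b := by
      have e := (matSys D hD F).comm (D.simple i) (D.simple j) hsi hsj hne hne' 1 1
      simp only [ChevalleyDatum.commWord, hcomm, List.map_nil, List.prod_nil, mul_one] at e
      exact e.symm
    have hsub : ∀ k l : Fin D.rank, k ≠ l → xg hD F (D.simple k.val) (1 : F) ∈ (RR).Udel l := fun k l hkl =>
      (RR).U_le_span (A := {s | (RR).pos s ∧ s ≠ (RR).simple l})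
        (r := (RR).simple k) ⟨(RR).pos_simple k, fun e => hkl ((RR).simple_inj e)⟩ (xg_mem_rootSubgroup hD _ _)
    have hani : a * b ∉ (RR).Udel ⟨i, hi⟩ := fun h => xg_simple_notMem hD hR ⟨i, hi⟩
      ((Subgroup.mul_mem_cancel_right _ (hsub ⟨j, hj⟩ ⟨i, hi⟩ fun e => hij (congrArg Fin.val e).symm)).1 h)
    have hbnj : a * b ∉ (RR).Udel ⟨j, hj⟩ := fun h => xg_simple_notMem hD hR ⟨j, hj⟩
      ((Subgroup.mul_mem_cancel_left _ (hsub ⟨i, hi⟩ ⟨j, hj⟩ fun e => hij (congrArg Fin.val e))).1 h)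
    obtain ⟨l, hl⟩ := key (a * b)
      (mul_mem (xg_mem_fixedGen hD σ _ (map_one σ)) (xg_mem_fixedGen hD σ _ (map_one σ)))
      (mul_mem (hxU i hi) (hxU j hj))
      (by rw [hab.mul_pow, hadef, hbdef, hsq, hsq, mul_one])
      (fun h => hani (h.symm ▸ one_mem _))
    exact hij (congrArg Fin.val ((RR).simple_inj ((hl _ hani).symm.trans (hl _ hbnj))))

end Cfsg.Agent.ChevOvergroup
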