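import Cfsg.Agent.Lib.ChevOvergroup.Action
import Cfsg.Agent.Lib.RGD.NormalForm

/-!
# Coordinates of `x_i(t) v · e_{-θ}`

* `Hit`, `ChainAt`, `RowFix`, `RowOne`: decidable conditions on the structure table;
* `chain_coord`: the coordinate at a root of the string through `-θ` is `M (t + s) ^ (k + 1)`;
* `row_fix`, `row_one`: one row of a root element.
-/

set_option autoImplicit false

namespace Cfsg.Agent.ChevOvergroup

open Cfsg.Lie Cfsg.Lie.ChevalleyDatum Cfsg.Agent.Chev Cfsg.Agent.ChevSt Cfsg.Agent.ChevBN Cfsg.Agent.ChevBlocks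
open scoped Matrix

/-- The entries of the `r`-string through `s` at `u`. -/
def Hit (D : ChevalleyDatum) (r s u : ℕ) : List ((ℕ × ℤ) × ℕ) :=
  ((D.chainEntry r s).zipIdx 0).filter fun q => q.1.1 = u

/-- `τ = s + (k + 1) α_i`, with coefficient `M`. -/
def ChainAt (D : ChevalleyDatum) (i s τ k : ℕ) (M : ℤ) : Prop :=
  i < D.rank ∧ s < D.nroots ∧ τ < D.nroots ∧ τ ≠ s ∧ s ≠ D.simple i ∧ s ≠ D.neg (D.simple i) ∧
    M * M = 1 ∧ Hit D (D.simple i) s τ = [((τ, M), k)]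

/-- The row `u` of `x_r(t)` is that of the identity. -/
def RowFix (D : ChevalleyDatum) (r u : ℕ) : Prop :=
  r < D.nroots ∧ u < D.nroots ∧ u ≠ r ∧ ∀ s < D.nroots, s ≠ r → s ≠ D.neg r → Hit D r s u = []

/-- The row `u` of `x_r(t)` has one further entry, at `a`. -/
def RowOne (D : ChevalleyDatum) (r u a : ℕ) (M : ℤ) : Prop :=
  r < D.nroots ∧ u < D.nroots ∧ a < D.nroots ∧ u ≠ r ∧ a ≠ r ∧ a ≠ D.neg r ∧ a ≠ u ∧ M * M = 1 ∧
    Hit D r a u = [((u, M), 0)] ∧ ∀ s < D.nroots, s ≠ r → s ≠ D.neg r → s ≠ a → Hit D r s u = []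

instance (D : ChevalleyDatum) (i s τ k : ℕ) (M : ℤ) : Decidable (ChainAt D i s τ k M) := by
  unfold ChainAt; infer_instance
instance (D : ChevalleyDatum) (r u : ℕ) : Decidable (RowFix D r u) := by unfold RowFix; infer_instance
instance (D : ChevalleyDatum) (r u a : ℕ) (M : ℤ) : Decidable (RowOne D r u a M) := by
  unfold RowOne; infer_instance

variable {D : ChevalleyDatum} {M : List (List ℤ)} {d : ℤ} {F : Type*} [Field F]
variable (hD : Good D)
include hD

theorem entry_x {r : ℕ} (hr : r < D.nroots) (t : F) (a : D.Idx) (s : Fin D.nroots) :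
    D.x F r t a (Sum.inr s) = (xR D F r t *ᵥ ev D F s.val) a := by
  rw [x_eq_xR D hr, ev_of_lt D F s.isLt, Matrix.mulVec_single_one]
  rfl

theorem entry_gen {r : ℕ} (hr : r < D.nroots) (t : F) (u s : Fin D.nroots) (h₁ : s.val ≠ r)
    (h₂ : s.val ≠ D.neg r) : D.x F r t (Sum.inr u) (Sum.inr s) =
      (if u = s then 1 else 0) + ((Hit D r s.val u.val).map fun q => ((q.1.2 : ℤ) : F) * t ^ (q.2 + 1)).sum := by
  rw [entry_x hD hr, xR_gen D r t (hD.keys r hr) s.isLt h₁ h₂, Pi.add_apply, sumCol_apply_inr D F t u, Hit]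
  congr 1
  simp [ev, Fin.ext_iff, eq_comm]

theorem entry_row {r : ℕ} (hr : r < D.nroots) (t : F) (u : Fin D.nroots) (hu : u.val ≠ r) (b : D.Idx)
    (hb : ∀ s, b = Sum.inr s → s.val ≠ r → s.val ≠ D.neg r → Hit D r s.val u.val = []) :
    D.x F r t (Sum.inr u) b = if Sum.inr u = b then 1 else 0 := by
  rcases b with i | s
  · rw [x_eq_xR D hr, if_neg (by simp)]
    simp [xR, hu]
  · have hne := hD.neg_ne r hr
    by_cases h₁ : s.val = r
    · rw [entry_x hD hr, h₁, xR_self D r t hr]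
      simp [ev, hu, Fin.ext_iff, h₁]
    by_cases h₂ : s.val = D.neg r
    · rw [entry_x hD hr, h₂, xR_neg D r t (hD.neg_lt r hr) hne]
      simp [ev, hv, hu, Fin.ext_iff, h₂]
    · rw [entry_gen hD hr t u s h₁ h₂, hb s rfl h₁ h₂]
      simp

theorem row_fix {r u : ℕ} (h : RowFix D r u) (t : F) (w : D.Idx → F) :
    (((xg hD F r t : GL D.Idx F) : Matrix D.Idx D.Idx F) *ᵥ w) (Sum.inr ⟨u, h.2.1⟩) =
      w (Sum.inr ⟨u, h.2.1⟩) := by
  obtain ⟨hr, hu, hur, hhit⟩ := h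
  rw [coe_xg, Matrix.mulVec, dotProduct, Finset.sum_eq_single (Sum.inr ⟨u, hu⟩)]
  · rw [entry_row hD hr t ⟨u, hu⟩ hur _ fun s _ h1 h2 => hhit s.val s.isLt h1 h2]
    simp
  · intro b _ hb
    rw [entry_row hD hr t ⟨u, hu⟩ hur b fun s _ h1 h2 => hhit s.val s.isLt h1 h2, if_neg (Ne.symm hb), zero_mul]
  · simp

theorem row_one {r u a : ℕ} {m : ℤ} (h : RowOne D r u a m) (t : F) (w : D.Idx → F) :
    (((xg hD F r t : GL D.Idx F) : Matrix D.Idx D.Idx F) *ᵥ w) (Sum.inr ⟨u, h.2.1⟩) =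
      w (Sum.inr ⟨u, h.2.1⟩) + (m : F) * t * w (Sum.inr ⟨a, h.2.2.1⟩) := by
  obtain ⟨hr, hu, ha, hur, har, har', hau, -, hhit, hrest⟩ := h
  have hrow : ∀ b : D.Idx, b ≠ Sum.inr ⟨a, ha⟩ →
      D.x F r t (Sum.inr ⟨u, hu⟩) b = if Sum.inr ⟨u, hu⟩ = b then 1 else 0 := fun b hb =>
    entry_row hD hr t ⟨u, hu⟩ hur b fun s hs h1 h2 =>
      hrest s.val s.isLt h1 h2 fun e => hb (hs.trans (congrArg Sum.inr (Fin.ext e)))
  have hne : (Sum.inr ⟨u, hu⟩ : D.Idx) ≠ Sum.inr ⟨a, ha⟩ := by simp [Ne.symm hau]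
  rw [coe_xg, Matrix.mulVec, dotProduct, Finset.sum_eq_add (Sum.inr ⟨u, hu⟩) (Sum.inr ⟨a, ha⟩) hne]
  · rw [hrow _ hne, entry_gen hD hr t ⟨u, hu⟩ ⟨a, ha⟩ har har']
    simp [hhit, Ne.symm hau]
  · intro b _ hb
    rw [hrow b hb.2, if_neg (Ne.symm hb.1), zero_mul]
  · simp
  · simp

variable (hR : Roots D M d)
include hR

/-- A common shift `s` describes the coordinates along all `α_i`-strings through negative roots. -/
theorem chain_coord {i : Fin D.rank} {v : GL D.Idx F} (hv : v ∈ (chevRGD hD hR F).Upos) :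
    ∃ s : F, ∀ (b τ : Fin D.nroots) (k : ℕ) (m : ℤ), ChainAt D i.val b.val τ.val k m → ∀ t : F,
      ((((xg hD F (D.simple i.val) t * v : GL D.Idx F)) : Matrix D.Idx D.Idx F) *ᵥ ev D F b.val) (Sum.inr τ) =
        (m : F) * (t + s) ^ (k + 1) := by
  obtain ⟨k', hk', a, ha, rfl⟩ := (chevRGD hD hR F).exists_Upos (i := i) hv
  obtain ⟨s, rfl⟩ := (mem_rootSubgroup hD _).1 ha
  refine ⟨s, fun b τ k m ⟨_, _, _, hτb, hb1, hb2, hm, hhit⟩ t => ?_⟩
  have hk'' := (chevRGD hD hR F).U_conj_Udel i (inv_mem ha) _ hk'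
  set v'' := (xg hD F (D.simple i.val) s)⁻¹ * k' * ((xg hD F (D.simple i.val) s)⁻¹)⁻¹ with hv''
  have e : xg hD F (D.simple i.val) t * (k' * xg hD F (D.simple i.val) s) =
      xg hD F (D.simple i.val) (t + s) * v'' := by
    rw [hv'', ← xg_add hD (hD.simple_lt i.val i.isLt)]; group
  show (_ *ᵥ _) _ = _
  rw [show ((xg hD F (D.simple i.val) t * (k' * xg hD F ((chevRGD hD hR F).simple i).val s) : GL D.Idx F)) = _ from e]
  set f := outside D M {i.val}
  have hf : IsLin D f := isLin_outside hD _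
  have hf0 : f (D.simple i.val) = 0 :=
    outside_eq_zero hD hR ((inRootSub_iff hD hR (hD.simple_lt i.val i.isLt)).2 fun k hk hki => by
      rw [hR.dual k hk i.val i.isLt, if_neg fun e => hki (by simp [e])])
  have hU : UTri D f (v'' : Matrix D.Idx D.Idx F) := by
    refine uTri_closure hD hf ?_
    refine (?_ : (chevRGD hD hR F).Udel i ≤ _) hk''
    refine (chevRGD hD hR F).span_le fun r hr x hx => ?_
    obtain ⟨u, rfl⟩ := (mem_rootSubgroup hD _).1 hx
    refine Subgroup.subset_closure ⟨r.val, u, r.isLt, outside_pos hD hR hr.1 fun h => ?_, coe_xg hD _ _⟩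
    obtain ⟨k, hk, hki, hpos⟩ := hR.exists_other hD r.isLt hr.1 i.isLt fun e => hr.2 (Fin.ext e)
    rw [(inRootSub_iff hD hR r.isLt).1 h k hk (by simp [hki])] at hpos
    exact lt_irrefl _ hpos
  have hent : ∀ u : F, D.x F (D.simple i.val) u (Sum.inr τ) (Sum.inr b) = (m : F) * u ^ (k + 1) := fun u => by
    rw [entry_gen hD (hD.simple_lt i.val i.isLt) u τ b hb1 hb2, hhit, if_neg fun e => hτb (congrArg Fin.val e)]
    simp
  have hm0 : (m : F) ≠ 0 := fun h => by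
    have := congrArg (fun z : ℤ => (z : F)) hm
    simp [h] at this
  have hfe : f τ.val = f b.val :=
    homog_x hD hR hf (hD.simple_lt i.val i.isLt) hf0 (1 : F) (Sum.inr τ) (Sum.inr b) (by rw [hent]; simpa using hm0)
  rw [Units.val_mul, ← Matrix.mulVec_mulVec, coe_xg, Matrix.mulVec, dotProduct,
    Finset.sum_eq_single (Sum.inr b : D.Idx)]
  · rw [hent, ev_of_lt D F b.isLt, Matrix.mulVec_single_one]
    simp [hU.2]
  · intro c _ hc
    by_contra h
    have h1 := left_ne_zero_of_mul h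
    have h2 := right_ne_zero_of_mul h
    rw [ev_of_lt D F b.isLt, Matrix.mulVec_single_one] at h2
    have h3 := homog_x hD hR hf (hD.simple_lt i.val i.isLt) hf0 (t + s) _ _ h1
    rcases hU.1 c (Sum.inr b) h2 with e | e
    · exact hc e
    · simp [wt] at h3 e
      omega
  · simp

end Cfsg.Agent.ChevOvergroup
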