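import Cfsg.Agent.Lib.ChevOvergroup.Parabolic
import Cfsg.Agent.Lib.Chev.BorelTits

/-!
# The Borel–Tits parabolic of a group of fixed points is defined over the fixed field

* `min_unique`: two minimisers for `Q` differ by an element of the parabolic subgroup;
* `exists_fixed_rep`: a coset `g P_J` mapped to itself by `σ` meets the fixed root element group;
* `borelTits_fixed`: for fixed `Q` the parabolic subgroup can be conjugated by such an element.
-/

set_option autoImplicit false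

namespace Cfsg.Agent.ChevOvergroup

open Cfsg.Lie Cfsg.Lie.ChevalleyDatum Cfsg.Agent.Chev Cfsg.Agent.ChevSt Cfsg.Agent.ChevBN Cfsg.Agent.ChevFixed
  Cfsg.Agent.Chev.BT

variable {D : ChevalleyDatum} {M : List (List ℤ)} {d : ℤ} {F : Type*} [Field F] (hD : Good D) (hR : Roots D M d)

local notation "RR" => chevRGD hD hR F

include hD hR

/-- The fundamental roots where `v` vanishes form a proper set when `Q` is nontrivial. -/
theorem zeros_proper {Q : Subgroup (GL D.Idx F)} (hne : Q ≠ ⊥) {v : Fin D.nroots → ℝ} (hv : RLin D M d v)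
    {g : GL D.Idx F} (hg : ∀ y ∈ Q, g⁻¹ * y * g ∈ ⨆ s ∈ Aset v, D.rootSubgroup F s.val) :
    ∃ i, i < D.rank ∧ i ∉ {j | val v (D.simple j) = 0} := by
  by_contra hall
  push Not at hall
  refine hne ((Subgroup.eq_bot_iff_forall _).2 fun y hy => ?_)
  have hA : Aset v = ∅ := by
    ext r
    simp only [Set.mem_empty_iff_false, iff_false]
    intro hr
    change 1 ≤ v r at hr
    have h0 : val v r.val = 0 := by
      refine mul_left_cancel₀ (d_ne hR) ?_
      rw [hv.eq r.isLt, mul_zero]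
      exact Finset.sum_eq_zero fun k _ => by rw [show val v (D.simple k.val) = 0 from hall k.val k.isLt, mul_zero]
    rw [← val_of_lt v r, h0] at hr
    linarith
  have := hg y hy
  rw [hA] at this
  simp only [Set.mem_empty_iff_false, iSup_false, iSup_bot, Subgroup.mem_bot] at this
  have h2 := congrArg (fun z => g * z * g⁻¹) this
  simpa [mul_assoc] using h2

/-- Two minimisers for the same `v` differ by an element of the parabolic subgroup. -/
theorem min_unique {Q : Subgroup (GL D.Idx F)} {v : Fin D.nroots → ℝ} (hv : RLin D M d v) (hdom : Dom v)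
    (hmin : ∀ w ∈ Adm D M d Q, sqn v ≤ sqn w) {g g' : GL D.Idx F} (hgG : g ∈ D.group F) (hg'G : g' ∈ D.group F)
    (hg : ∀ y ∈ Q, g⁻¹ * y * g ∈ ⨆ s ∈ Aset v, D.rootSubgroup F s.val)
    (hg' : ∀ y ∈ Q, g'⁻¹ * y * g' ∈ ⨆ s ∈ Aset v, D.rootSubgroup F s.val) :
    g⁻¹ * g' ∈ D.parabolicSubgroup F {j | val v (D.simple j) = 0} := by
  set R := chevRGD hD hR F
  obtain ⟨b, hb, m, hm, u, hu, e⟩ := (normal_form hD hR).1 (g⁻¹ * g')
    ((D.group F).mul_mem ((D.group F).inv_mem hgG) hg'G)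
  rw [← chev_N hD hR] at hm
  obtain ⟨k, hk, l, rfl⟩ := R.mem_N_iff.1 hm
  have huU : u ∈ D.borelSubgroup F := Subgroup.mem_sup_left
    ((Subgroup.closure_mono (by rintro x ⟨r, t, hr, -, e⟩; exact ⟨r, t, hr, e⟩) hu : u ∈ D.posUnipotent F))
  have hbk : b * k ∈ D.borelSubgroup F := mul_mem hb (Subgroup.mem_sup_right hk)
  set h := g * (b * k) with hh
  have hhG : h ∈ D.group F := mul_mem hgG (borel_le_group hD hR hbk)
  set v' : Fin D.nroots → ℝ := fun q => v (R.ww l.reverse q)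
  have hv' : RLin D M d v' := rlin_ww hD hR (F := F) l.reverse hv
  set v3 : Fin D.nroots → ℝ := fun q => (v q + v' q) / 2 with hv3
  have hlin3 : RLin D M d v3 := by
    intro q
    have hh : ∀ r, val v3 r = (val v r + val v' r) / 2 := by
      intro r; simp only [val, hv3]; split <;> simp
    simp only [hh, ← mul_div_assoc, mul_add, add_div, Finset.sum_add_distrib]
    rw [← Finset.sum_div, ← Finset.sum_div, ← hv q, ← hv' q]
    simp only [hv3]
    ring
  have hQ1 : ∀ y ∈ Q, h⁻¹ * y * h ∈ ⨆ s ∈ Aset v, D.rootSubgroup F s.val := by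
    intro y hy
    have := borel_conj_span hD hR hv hdom ((D.borelSubgroup F).inv_mem hbk) (hg y hy)
    rw [inv_inv] at this
    simpa [hh, _root_.mul_inv_rev, mul_assoc] using this
  have hQ2 : ∀ y ∈ Q, h⁻¹ * y * h ∈ ⨆ s ∈ Aset v', D.rootSubgroup F s.val := by
    intro y hy
    have h2 := conj_nw_span hD hR l (v := v) (v' := v')
      (fun q => by show v (R.ww l.reverse (R.ww l q)) = v q; rw [R.ww_reverse_ww])
      (borel_conj_span hD hR hv hdom huU (hg' y hy))
    convert h2 using 1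
    have en : g' = g * (b * (k * R.nw l) * u) := by rw [← e]; group
    rw [hh, en]
    show _ = R.nw l * _ * (R.nw l)⁻¹
    group
  have hQ3 : ∀ y ∈ Q, h⁻¹ * y * h ∈ ⨆ s ∈ Aset v3, D.rootSubgroup F s.val := by
    intro y hy
    refine mem_span_of_rt hD hR hlin3 (span_le_pos hD hR hv hdom (hQ1 y hy)) ?_
    intro a c hac
    rcases rt_of_mem_span hD hR hv (hQ1 y hy) a c hac with e1 | e1
    · exact Or.inl e1
    rcases rt_of_mem_span hD hR hv' (hQ2 y hy) a c hac with e2 | e2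
    · exact Or.inl e2
    refine Or.inr ?_
    have hw : ∀ x : D.Idx, wtR v3 x = (wtR v x + wtR v' x) / 2 := by
      intro x; rcases x with i | q <;> simp [wtR, hv3]
    rw [hw, hw]
    linarith
  obtain ⟨l3, hl3⟩ := exists_dominant hD hR (F := F) hlin3
  set v4 : Fin D.nroots → ℝ := fun q => v3 (R.ww l3 q) with hv4
  have hadm : v4 ∈ Adm D M d Q := by
    refine ⟨rlin_ww hD hR (F := F) l3 hlin3, hl3, h * R.nw l3, mul_mem hhG ?_, fun y hy => ?_⟩
    · rw [← chev_G hD hR]; exact R.N_le_G (R.nw_mem_N l3)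
    · obtain ⟨c, hc, ec⟩ := R.exists_nw_inv l3
      have h1 := conj_nw_span hD hR l3.reverse (v := v3) (v' := v4)
        (fun q => by show v3 (R.ww l3 (R.ww l3.reverse q)) = v3 q; rw [R.ww_ww_reverse]) (hQ3 y hy)
      have h2 := R.H_conj_span (Aset v4) hc _ h1
      have e' : (h * R.nw l3)⁻¹ * y * (h * R.nw l3) =
          c * ((chevRGD hD hR F).nw l3.reverse * (h⁻¹ * y * h) * ((chevRGD hD hR F).nw l3.reverse)⁻¹) * c⁻¹ := by
        rw [show (chevRGD hD hR F).nw l3.reverse = c⁻¹ * (R.nw l3)⁻¹ by rw [ec]; group; rfl]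
        group
      rw [e']
      exact h2
  have hm4 := hmin v4 hadm
  have hs4 : sqn v4 = sqn v3 := sqn_ww hD hR (F := F) l3 v3
  have hs' : sqn v' = sqn v := sqn_ww hD hR (F := F) l.reverse v
  have hid : sqn v3 = (sqn v + sqn v') / 2 - (∑ q, (v q - v' q) ^ 2) / 4 := by
    simp only [sqn, hv3, ← Finset.sum_add_distrib, Finset.sum_div, ← Finset.sum_sub_distrib]
    exact Finset.sum_congr rfl fun q _ => by ring
  have hzero' : ∑ q, (v q - v' q) ^ 2 = 0 :=
    le_antisymm (by linarith) (Finset.sum_nonneg fun q _ => sq_nonneg _)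
  have heq : ∀ q, v (R.ww l q) = v q := by
    intro q
    have h1 := (Finset.sum_eq_zero_iff_of_nonneg fun q _ => sq_nonneg _).1 hzero' (R.ww l q) (Finset.mem_univ _)
    have h2 : v' (R.ww l q) = v q := by show v (R.ww l.reverse (R.ww l q)) = v q; rw [R.ww_reverse_ww]
    rw [h2] at h1
    nlinarith [sq_nonneg (v (R.ww l q) - v q)]
  rw [e]
  exact mul_mem (mul_mem (Subgroup.mem_sup_left hb)
    (mul_mem (Subgroup.mem_sup_left (Subgroup.mem_sup_right hk)) (nw_mem_parabolic hD hR hv hdom l heq)))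
    (Subgroup.mem_sup_left huU)

/-- A coset of `P_J` mapped to itself by `σ` contains an element generated by fixed root elements. -/
theorem exists_fixed_rep (σ : F →+* F) (J : Set ℕ) {g : GL D.Idx F} (hg : g ∈ D.group F)
    (h : g⁻¹ * mapG D σ g ∈ D.parabolicSubgroup F J) :
    ∃ e ∈ fixedGen hD σ, e⁻¹ * g ∈ D.parabolicSubgroup F J := by
  classical
  set R := chevRGD hD hR F
  set P := D.parabolicSubgroup F J
  have hBP : R.B ≤ P := by rw [chev_B hD hR]; exact le_sup_left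
  have hHP : R.H ≤ P := R.H_le_B.trans hBP
  have hex : ∃ n, ∃ l : List (Fin D.rank), l.length = n ∧ ∃ v ∈ R.Upos, (v * R.nw l)⁻¹ * g ∈ P := by
    rw [← chev_G hD hR] at hg
    obtain ⟨b, hb, l, u, hu, e⟩ := R.exists_normalForm hg
    obtain ⟨v, hv, k, hk, rfl⟩ := R.exists_B hb
    refine ⟨_, l, rfl, v, hv, ?_⟩
    rw [e, show (v * R.nw l)⁻¹ * (v * k * R.nw l * u) = ((R.nw l)⁻¹ * k * R.nw l) * u by group]
    exact mul_mem (hHP (R.nw_conj_H' l hk)) (hBP (R.Upos_le_B (R.Uminus_le_Upos l hu)))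
  obtain ⟨l, hl, v, hv, hvP⟩ := Nat.find_spec hex
  -- the word makes no root of `J` negative
  have hJpos : ∀ j : Fin D.rank, j.val ∈ J → R.pos (R.ww l (R.simple j)) := by
    intro j hj
    by_contra hneg
    obtain ⟨l', hlen, k, hk, ek⟩ := R.exists_shorter hneg
    have hnj : R.n j ∈ P := Subgroup.mem_sup_right (Subgroup.subset_closure ⟨j.val, hj, j.isLt, coe_ng hD _ _⟩)
    refine Nat.find_min hex (m := l'.length) (by omega) ⟨l', rfl, v, hv, ?_⟩
    set w := R.nw (l ++ [j]) with hw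
    have e1 : (v * R.nw l')⁻¹ * g = (w⁻¹ * k * w) * ((R.n j)⁻¹ * ((v * R.nw l)⁻¹ * g)) := by
      rw [show R.nw l' = k⁻¹ * w by rw [ek]; group, hw, R.nw_append, R.nw_cons, R.nw_nil, mul_one]
      group
    rw [e1]
    exact mul_mem (hHP (R.nw_conj_H' _ hk)) (mul_mem (inv_mem hnj) hvP)
  obtain ⟨fl, hfl, efl⟩ := lin_comp hD hR F l (isLin_ht hD M)
  have hkeep : ∀ q : Fin D.nroots, D.IsPosRoot q.val → D.InRootSub J q.val → R.pos (R.ww l q) := by
    intro q hq hqJ
    have h1 := BT.sum_co hD hR hfl q.isLt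
    have h2 : 0 ≤ d * fl q.val := by
      rw [h1]
      refine Finset.sum_nonneg fun i _ => ?_
      by_cases hiJ : i.val ∈ J
      · refine mul_nonneg ((hR.sgn q.val q.isLt).1 hq i.val i.isLt) ?_
        have h3 := efl (R.simple i)
        change fl (D.simple i.val) = _ at h3
        rw [h3]
        exact (hR.ht_pos _ (R.ww l (R.simple i)).isLt (hJpos i hiJ)).le
      · rw [(inRootSub_iff hD hR q.isLt).1 hqJ i.val i.isLt hiJ, zero_mul]
    by_contra hneg
    have h4 := hR.ht_pos _ (hD.neg_lt _ (R.ww l q).isLt) ((pos_or_neg hD (R.ww l q).isLt).2 hneg)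
    rw [(isLin_ht hD M).neg _ (R.ww l q).isLt, ← efl q] at h4
    have := mul_neg_of_pos_of_neg hR.d_pos (show fl q.val < 0 by omega)
    omega
  obtain ⟨p, -, hp', m, hm, epm⟩ := R.exists_split l.reverse (inv_mem hv)
  obtain ⟨c, hc, ec⟩ := R.exists_nw_inv l
  have hpP : (R.nw l)⁻¹ * p * R.nw l ∈ P := by
    refine hBP (R.Upos_le_B ?_)
    have e : (R.nw l)⁻¹ * p * R.nw l = c * (R.nw l.reverse * p * (R.nw l.reverse)⁻¹) * c⁻¹ := by
      rw [show R.nw l.reverse = c⁻¹ * (R.nw l)⁻¹ by rw [ec]; group]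
      group
    rw [e]
    exact R.H_conj_span _ hc _ hp'
  obtain ⟨v₁, hv1⟩ : ∃ v₁, v₁ = m⁻¹ := ⟨_, rfl⟩
  set p₀ := (v₁ * R.nw l)⁻¹ * g with hp0
  have hp0P : p₀ ∈ P := by
    rw [hp0, show (v₁ * R.nw l)⁻¹ * g = ((R.nw l)⁻¹ * p⁻¹ * R.nw l) * ((v * R.nw l)⁻¹ * g) by
      rw [hv1, _root_.mul_inv_rev, _root_.mul_inv_rev, epm]; group]
    refine mul_mem ?_ hvP
    convert inv_mem hpP using 1
    group
  have hn := nw_mem_fixedGen hD hR σ l
  set z := (R.nw l)⁻¹ * (v₁⁻¹ * mapG D σ v₁) * R.nw l with hzdef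
  have hzP : z ∈ P := by
    have e1 : z = p₀ * (g⁻¹ * mapG D σ g) * (mapG D σ p₀)⁻¹ := by
      rw [hzdef, hp0, map_mul, map_inv, map_mul, fixedGen_fixed hD σ hn]
      group
      all_goals rfl
    rw [e1]
    exact mul_mem (mul_mem hp0P h) (inv_mem (mapG_parabolic hD σ J hp0P))
  have hv1U : v₁ ∈ R.Uminus l.reverse := hv1 ▸ inv_mem hm
  have hzneg : z ∈ Subgroup.closure {x : GL D.Idx F | ∃ (q : ℕ) (t : F), q < D.nroots ∧
      outside D M J q < 0 ∧ (x : Matrix D.Idx D.Idx F) = D.x F q t} := by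
    have hy : v₁⁻¹ * mapG D σ v₁ ∈ R.Uminus l.reverse := mul_mem (inv_mem hv1U) (mapG_span_le hD hR σ _ hv1U)
    set K := Subgroup.closure {x : GL D.Idx F | ∃ (q : ℕ) (t : F), q < D.nroots ∧
      outside D M J q < 0 ∧ (x : Matrix D.Idx D.Idx F) = D.x F q t}
    have hle : R.Uminus l.reverse ≤ K.comap (MulAut.conj (R.nw l)⁻¹).toMonoidHom := by
      refine R.span_le fun r hr y hy => ?_
      obtain ⟨t, rfl⟩ := (mem_rootSubgroup hD _).1 hy
      set q := R.ww l.reverse r with hq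
      have hwq : R.ww l q = r := R.ww_ww_reverse l r
      obtain ⟨η, hη, -, h2⟩ := nw_act hD hR (F := F) l q
      have h3 := h2 (η⁻¹ * t)
      rw [hwq, ← mul_assoc η, mul_inv_cancel₀ hη, one_mul] at h3
      show (R.nw l)⁻¹ * xg hD F r.val t * ((R.nw l)⁻¹)⁻¹ ∈ K
      rw [← h3, show (R.nw l)⁻¹ * (R.nw l * xg hD F q.val (η⁻¹ * t) * (R.nw l)⁻¹) * ((R.nw l)⁻¹)⁻¹ =
        xg hD F q.val (η⁻¹ * t) by group]
      refine Subgroup.subset_closure ⟨q.val, _, q.isLt, ?_, coe_xg hD _ _⟩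
      have hnq : D.IsPosRoot (R.neg q).val := (R.pos_neg q).2 hr.2
      have hnJ : ¬ D.InRootSub J (R.neg q).val := fun hJ' => by
        have h5 := hkeep (R.neg q) hnq hJ'
        rw [R.ww_neg, R.pos_neg, hwq] at h5
        exact h5 hr.1
      have h6 := outside_pos hD hR hnq hnJ
      change 0 < outside D M J (D.neg q.val) at h6
      rw [(isLin_outside hD J).neg q.val q.isLt] at h6
      omega
    have := hle hy
    change (R.nw l)⁻¹ * _ * ((R.nw l)⁻¹)⁻¹ ∈ K at this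
    rwa [inv_inv] at this
  have hz1 := eq_one_of_mem_parabolic_neg hD hR hzP hzneg
  have hv1fix : mapG D σ v₁ = v₁ := by
    have : v₁⁻¹ * mapG D σ v₁ = 1 := by
      calc v₁⁻¹ * mapG D σ v₁ = R.nw l * z * (R.nw l)⁻¹ := by rw [hzdef]; group
        _ = 1 := by rw [hz1]; group
    exact (inv_mul_eq_one.1 this).symm
  refine ⟨v₁ * R.nw l, mul_mem (fixed_pos_mem hD σ ?_ hv1fix) hn, hp0P⟩
  rw [← chev_Upos hD hR]
  exact R.Uminus_le_Upos _ hv1U

/-- For a nontrivial fixed `Q` the normaliser lies in a parabolic subgroup conjugated by a fixed element. -/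
theorem borelTits_fixed (σ : F →+* F) {Q : Subgroup (GL D.Idx F)} (hne : Q ≠ ⊥)
    (hfix : ∀ y ∈ Q, mapG D σ y = y) (hQ : ∃ g ∈ D.group F, ∀ y ∈ Q, g⁻¹ * y * g ∈ D.posUnipotent F) :
    ∃ e ∈ fixedGen hD σ, ∃ J : Set ℕ, (∃ i, i < D.rank ∧ i ∉ J) ∧
      ∀ n ∈ D.group F, n ∈ Subgroup.normalizer (Q : Set (GL D.Idx F)) → e⁻¹ * n * e ∈ D.parabolicSubgroup F J := by
  have hne' : (Adm D M d Q).Nonempty := by
    refine ⟨fun q => (ht D M q.val : ℝ), rlin_of_isLin hD hR (isLin_ht hD M),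
      fun q hq => (Int.cast_nonneg (R := ℝ) (hR.ht_pos q.val q.isLt hq).le), ?_⟩
    obtain ⟨g, hg, h⟩ := hQ
    refine ⟨g, hg, fun y hy => ?_⟩
    refine (?_ : D.posUnipotent F ≤ _) (h y hy)
    rw [← span_pos_eq]
    refine biSup_mono fun q hq => ?_
    have : (1 : ℤ) ≤ ht D M q.val := hR.ht_pos q.val q.isLt hq
    show (1 : ℝ) ≤ (ht D M q.val : ℝ)
    exact_mod_cast this
  obtain ⟨v, ⟨hv, hdom, g, hgG, hg⟩, hmin⟩ := exists_min Q hne'
  have hσG : mapG D σ g ∈ D.group F := mapG_group_le hD σ ⟨g, hgG, rfl⟩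
  have h1 := min_unique hD hR hv hdom hmin hgG hσG hg (fun y hy => by
    have h := mapG_span_le hD hR σ (Aset v) (hg y hy)
    rwa [map_mul, map_mul, map_inv, hfix y hy] at h)
  obtain ⟨e, he, hep⟩ := exists_fixed_rep hD hR σ _ hgG h1
  refine ⟨e, he, _, zeros_proper hD hR hne hv hg, fun n hnG hn => ?_⟩
  have h2 : g⁻¹ * (n * g) ∈ D.parabolicSubgroup F {j | val v (D.simple j) = 0} :=
    min_unique hD hR hv hdom hmin hgG (mul_mem hnG hgG) hg fun y hy => by
      have h3 : n⁻¹ * y * n ∈ Q := by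
        have := (Subgroup.mem_normalizer_iff.1 ((Subgroup.normalizer _).inv_mem hn) y).1 hy
        simpa using this
      have := hg _ h3
      rw [show (n * g)⁻¹ * y * (n * g) = g⁻¹ * (n⁻¹ * y * n) * g by group]
      exact this
  have h4 := mul_mem (mul_mem hep h2) (inv_mem hep)
  rwa [show e⁻¹ * g * (g⁻¹ * (n * g)) * (e⁻¹ * g)⁻¹ = e⁻¹ * n * e by group] at h4

end Cfsg.Agent.ChevOvergroup
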