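import Cfsg.Agent.Lib.ChevOvergroup.Descent
import Cfsg.Agent.Lib.ChevBN.HighestPair
import Cfsg.Agent.Lib.Involution.Basic
import Mathlib.GroupTheory.Sylow
import Mathlib.GroupTheory.Nilpotent
import Mathlib.GroupTheory.GroupAction.ConjAct

/-!
# The fixed part of `G₀` is strongly `p`-embedded

* `Setup`: `G₀` is finite, contains the fixed root elements, and its elements in `U`, `B`, proper parabolics
  are fixed;
* `exists_conj_pos`: `p`-subgroups are conjugate into `U`;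
* `cent_fixed`: the centraliser of a fixed nontrivial `p`-element is fixed;
* `conj_not_fixed`, `not_pgroup`, `isConj_of_involution`.
-/

set_option autoImplicit false

namespace Cfsg.Agent.ChevOvergroup

open Cfsg.Lie Cfsg.Lie.ChevalleyDatum Cfsg.Agent.Chev Cfsg.Agent.ChevSt Cfsg.Agent.ChevBN Cfsg.Agent.ChevFixed
  Cfsg.Agent.ChevBlocks

variable {D : ChevalleyDatum} {M : List (List ℤ)} {d : ℤ} {F : Type*} [Field F]

/-- The properties of the fixed part used below. -/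
structure Setup (hD : Good D) (σ : F →+* F) (G₀ : Subgroup (GL D.Idx F)) : Prop where
  fin : Finite ↥G₀
  le : G₀ ≤ D.group F
  gen : fixedGen hD σ ≤ G₀
  pos : ∀ u ∈ G₀, u ∈ D.posUnipotent F → mapG D σ u = u
  borel : ∀ b ∈ G₀, b ∈ D.borelSubgroup F → mapG D σ b = b
  parabolic : ∀ J : Set ℕ, (∃ i, i < D.rank ∧ i ∉ J) → ∀ g ∈ G₀, g ∈ D.parabolicSubgroup F J → mapG D σ g = g

variable (hD : Good D) (hR : Roots D M d) (p : ℕ) [hp : Fact p.Prime] [CharP F p]

include hD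

theorem xg_pow (r : ℕ) (t : F) : ∀ n : ℕ, xg hD F r t ^ n = xg hD F r ((n : F) * t)
  | 0 => by simp [xg_zero hD]
  | n + 1 => by
    rw [pow_succ, xg_pow r t n]
    by_cases hr : r < D.nroots
    · rw [xg_add hD hr]; congr 1; push_cast; ring
    · simp [xg_out hD hr]

theorem xg_one_pow (r : ℕ) : xg hD F r (1 : F) ^ p = 1 := by
  rw [xg_pow hD r, CharP.cast_eq_zero, zero_mul, xg_zero]

include hR

theorem isPGroup_pos : IsPGroup p ↥(D.posUnipotent F) := by
  refine isPGroup_of_pos hD p (isLin_ht hD M) (Subgroup.closure_mono ?_)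
  rintro g ⟨r, t, hr, e⟩
  exact ⟨r, t, hr.1, hR.ht_pos r hr.1 hr, e⟩

/-- A `p`-element of `B` lies in `U`. -/
theorem mem_pos_of_pow {x : GL D.Idx F} (hx : x ∈ D.borelSubgroup F) {k : ℕ} (hk : x ^ p ^ k = 1) :
    x ∈ D.posUnipotent F := by
  rw [← chev_B hD hR] at hx
  obtain ⟨u, hu, h, hh, rfl⟩ := (chevRGD hD hR F).exists_B hx
  set R := chevRGD hD hR F
  rw [← chev_Upos hD hR]
  have key : ∀ n : ℕ, ∃ v ∈ R.Upos, (u * h) ^ n = v * h ^ n := by
    intro n
    induction n with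
    | zero => exact ⟨1, one_mem _, by simp⟩
    | succ n ih =>
      obtain ⟨v, hv, e⟩ := ih
      refine ⟨v * (h ^ n * u * (h ^ n)⁻¹), mul_mem hv (R.H_conj_span _ (pow_mem hh n) u hu), ?_⟩
      rw [pow_succ, e, pow_succ]; group
  obtain ⟨v, hv, e⟩ := key (p ^ k)
  rw [hk] at e
  have h1 : h ^ p ^ k = 1 := by
    have h2 : h ^ p ^ k ∈ R.Upos ⊓ R.H := Subgroup.mem_inf.2
      ⟨by rw [eq_inv_of_mul_eq_one_right e.symm]; exact Subgroup.inv_mem _ hv, pow_mem hh _⟩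
    rwa [show R.Upos ⊓ R.H = ⊥ from R.U_inf_H, Subgroup.mem_bot] at h2
  suffices h = 1 by rw [this, mul_one]; exact hu
  obtain ⟨χ, hχ, -⟩ := isToral_of_mem hD (show h ∈ D.diagonalSubgroup F from hh)
  have h2 := congrArg (fun g : GL D.Idx F => (g : Matrix D.Idx D.Idx F)) h1
  simp only [Units.val_pow_eq_pow_val, Units.val_one, hχ, dg, Matrix.diagonal_pow] at h2
  apply Units.ext
  rw [hχ, Units.val_one, dg, ← Matrix.diagonal_one]
  congr 1
  ext a
  rcases a with i | q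
  · rfl
  · have h3 := congrFun (congrFun h2 (Sum.inr q)) (Sum.inr q)
    simp only [Matrix.diagonal_apply_eq, Pi.pow_apply, Sum.elim_inr, Matrix.one_apply_eq] at h3
    have h4 : ((χ q.val : F) - 1) ^ p ^ k = 0 := by
      rw [sub_pow_char_pow, h3, one_pow, sub_self]
    exact sub_eq_zero.1 ((pow_eq_zero_iff (pow_ne_zero _ hp.out.ne_zero)).1 h4)

variable (hCo : CorootOK D) {σ : F →+* F} {G₀ : Subgroup (GL D.Idx F)} (hS : Setup hD σ G₀)
include hCo hS p

/-- `p`-subgroups of a subgroup containing the fixed root elements are conjugate into `U`. -/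
theorem exists_conj_pos {K : Subgroup (GL D.Idx F)} (hK : K ≤ G₀) (hgen : fixedGen hD σ ≤ K)
    {Q : Subgroup (GL D.Idx F)} (hQ : Q ≤ K) (hQp : IsPGroup p ↥Q) :
    ∃ m ∈ K, ∀ y ∈ Q, m⁻¹ * y * m ∈ D.posUnipotent F := by
  have := hS.fin
  have : Finite ↥K := Finite.of_injective (Subgroup.inclusion hK) (Subgroup.inclusion_injective hK)
  set S : Subgroup ↥K := (D.posUnipotent F).subgroupOf K with hSdef
  have hSp : IsPGroup p ↥S := by
    have h := (isPGroup_pos hD hR p (F := F)).comap_of_injective K.subtype Subtype.val_injective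
    exact h
  obtain ⟨P, hSP⟩ := hSp.exists_le_sylow
  have hPS : (P : Subgroup ↥K) ≤ S := by
    by_contra hne
    have : Finite ↥(P : Subgroup ↥K) := inferInstance
    have hnil : Group.IsNilpotent ↥(P : Subgroup ↥K) := P.isPGroup'.isNilpotent
    have hlt : S.subgroupOf (P : Subgroup ↥K) < ⊤ := lt_top_iff_ne_top.2 fun h => hne fun x hx => by
      have h2 : (⟨x, hx⟩ : ↥(P : Subgroup ↥K)) ∈ S.subgroupOf (P : Subgroup ↥K) := h.ge (Subgroup.mem_top _)
      exact h2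
    obtain ⟨n, hn, hnS⟩ := SetLike.exists_of_lt (Group.normalizerCondition_of_isNilpotent _ hlt)
    have hnB : ((n : ↥K) : GL D.Idx F) ∈ D.borelSubgroup F := by
      refine mem_borel_of_conj_simple hD hR hCo (hS.le (hK (n : ↥K).2)) fun i hi => ?_
      have hxK : xg hD F (D.simple i) 1 ∈ K := hgen (xg_mem_fixedGen hD σ _ (map_one σ))
      have hxU : xg hD F (D.simple i) 1 ∈ D.posUnipotent F :=
        Subgroup.subset_closure ⟨_, 1, hR.pos_simple hD hi, coe_xg hD _ _⟩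
      have hxS : (⟨_, hxK⟩ : ↥K) ∈ S := hxU
      exact (Subgroup.mem_normalizer_iff.1 hn ⟨⟨_, hxK⟩, hSP hxS⟩).1 hxS
    obtain ⟨k, hk⟩ := P.isPGroup' n
    refine hnS (mem_pos_of_pow hD hR p hnB (k := k) ?_)
    simpa using congrArg (fun z : ↥(P : Subgroup ↥K) => ((z : ↥K) : GL D.Idx F)) hk
  obtain ⟨P', hQP'⟩ := ((hQp.comap_of_injective K.subtype Subtype.val_injective :
    IsPGroup p ↥(Q.subgroupOf K))).exists_le_sylow
  obtain ⟨m, hm⟩ := MulAction.exists_smul_eq ↥K P P'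
  refine ⟨(m : GL D.Idx F), m.2, fun y hy => ?_⟩
  have hyP : (⟨y, hQ hy⟩ : ↥K) ∈ P' := hQP' hy
  rw [← hm] at hyP
  obtain ⟨z, hz, e⟩ : ∃ z ∈ (P : Subgroup ↥K), m * z * m⁻¹ = ⟨y, hQ hy⟩ := by
    obtain ⟨z, hz, e⟩ := hyP
    exact ⟨z, hz, e⟩
  have e' := congrArg Subtype.val e
  simp only [Subgroup.coe_mul, InvMemClass.coe_inv] at e'
  rw [show (m : GL D.Idx F)⁻¹ * y * m = (z : GL D.Idx F) by rw [← e']; group]
  exact hPS hz

/-- The centraliser of a fixed nontrivial `p`-element consists of fixed elements. -/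
theorem cent_fixed {y n : GL D.Idx F} (hy : y ∈ G₀) (hfix : mapG D σ y = y) (hne : y ≠ 1)
    (hyp : ∃ k, y ^ p ^ k = 1) (hn : n ∈ G₀) (hc : n * y = y * n) : mapG D σ n = n := by
  set Q := Subgroup.zpowers y
  have hQle : Q ≤ G₀ := Subgroup.zpowers_le.2 hy
  have hQp : IsPGroup p ↥Q := by
    obtain ⟨k, hk⟩ := hyp
    rintro ⟨x, hx⟩
    refine ⟨k, Subtype.ext ?_⟩
    obtain ⟨j, rfl⟩ := Subgroup.mem_zpowers_iff.1 hx
    show (y ^ j) ^ p ^ k = 1
    rw [← zpow_natCast (y ^ j), ← zpow_mul, mul_comm j, zpow_mul, zpow_natCast, hk, one_zpow]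
  obtain ⟨m, hm, hmU⟩ := exists_conj_pos hD hR p hCo hS le_rfl hS.gen hQle hQp
  obtain ⟨e, he, J, hJ, hP⟩ := borelTits_fixed hD hR σ (Q := Q)
    (fun h => hne (Subgroup.zpowers_eq_bot.1 h))
    (fun x hx => by obtain ⟨j, rfl⟩ := Subgroup.mem_zpowers_iff.1 hx; rw [map_zpow, hfix])
    ⟨m, hS.le hm, hmU⟩
  have hnN : n ∈ Subgroup.normalizer (Q : Set (GL D.Idx F)) := by
    have hj : ∀ x ∈ Q, n * x * n⁻¹ = x := fun x hx => by
      obtain ⟨j, rfl⟩ := Subgroup.mem_zpowers_iff.1 hx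
      rw [((show Commute n y from hc).zpow_right j).eq, mul_inv_cancel_right]
    rw [Subgroup.mem_normalizer_iff]
    intro x
    refine ⟨fun hx => (hj x hx).symm ▸ hx, fun hx => ?_⟩
    have h2 := hj _ hx
    have h3 : n * x * n⁻¹ = x := mul_left_cancel (mul_right_cancel h2)
    rwa [h3] at hx
  have h := hS.parabolic J hJ _ (mul_mem (mul_mem (inv_mem (hS.gen he)) hn) (hS.gen he)) (hP n (hS.le hn) hnN)
  rw [map_mul, map_mul, map_inv, fixedGen_fixed hD σ he] at h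
  exact mul_left_cancel (mul_right_cancel h)

/-- A conjugate of `x_θ(1)` by an unfixed element is unfixed. -/
theorem conj_not_fixed {θ : ℕ} (hθ : D.IsPosRoot θ)
    (hcent : ∀ q, D.IsPosRoot q → ∀ t u : F, xg hD F θ t * xg hD F q u = xg hD F q u * xg hD F θ t)
    {g : GL D.Idx F} (hg : g ∈ G₀) (hgf : mapG D σ g ≠ g) :
    mapG D σ (g * xg hD F θ 1 * g⁻¹) ≠ g * xg hD F θ 1 * g⁻¹ := by
  intro hz
  apply hgf
  set z := g * xg hD F θ 1 * g⁻¹
  have hzM : z ∈ G₀ := mul_mem (mul_mem hg (hS.gen (xg_mem_fixedGen hD σ θ (map_one σ)))) (inv_mem hg)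
  have hzne : z ≠ 1 := fun h => x_one_ne_one hD hθ.1 (conj_eq_one_iff.1 h)
  have hzp : ∃ k, z ^ p ^ k = 1 := ⟨1, by rw [pow_one, conj_pow, xg_one_pow hD p, mul_one, mul_inv_cancel]⟩
  set K := G₀ ⊓ MonoidHom.eqLocus (mapG D σ) (MonoidHom.id _)
  have hKgen : fixedGen hD σ ≤ K := fun e he => ⟨hS.gen he, fixedGen_fixed hD σ he⟩
  set U₀ := G₀ ⊓ D.posUnipotent F
  have hQK : U₀.map (MulAut.conj g).toMonoidHom ≤ K := by
    rintro _ ⟨u, ⟨hu, huU⟩, rfl⟩
    have hgu : g * u * g⁻¹ ∈ G₀ := mul_mem (mul_mem hg hu) (inv_mem hg)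
    refine ⟨hgu, cent_fixed hD hR p hCo hS hzM hz hzne hzp hgu ?_⟩
    have huz : u * xg hD F θ 1 = xg hD F θ 1 * u := by
      clear hu hgu
      induction huU using Subgroup.closure_induction with
      | mem x hx =>
        obtain ⟨r, t, hr, e⟩ := hx
        obtain rfl : x = xg hD F r t := Units.ext e
        exact (hcent r hr 1 t).symm
      | one => simp
      | mul x y _ _ hx hy => rw [mul_assoc, hy, ← mul_assoc, hx, mul_assoc]
      | inv x _ hx =>
        calc x⁻¹ * xg hD F θ 1 = x⁻¹ * (xg hD F θ 1 * x) * x⁻¹ := by group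
          _ = _ := by rw [← hx]; group
    calc g * u * g⁻¹ * z = g * (u * xg hD F θ 1) * g⁻¹ := by simp only [z]; group
      _ = _ := by rw [huz]; simp only [z, MulEquiv.coe_toMonoidHom, MulAut.conj_apply]; group
  obtain ⟨m, hm, hmU⟩ := exists_conj_pos hD hR p hCo hS (inf_le_left : K ≤ G₀) hKgen hQK
    (((isPGroup_pos hD hR p (F := F)).to_le inf_le_right).map _)
  have hb : m⁻¹ * g ∈ G₀ := mul_mem (inv_mem hm.1) hg
  have hbB : m⁻¹ * g ∈ D.borelSubgroup F := by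
    refine mem_borel_of_conj_simple hD hR hCo (hS.le hb) fun i hi => ?_
    have := hmU _ ⟨xg hD F (D.simple i) 1, ⟨hS.gen (xg_mem_fixedGen hD σ _ (map_one σ)),
      Subgroup.subset_closure ⟨_, 1, hR.pos_simple hD hi, coe_xg hD _ _⟩⟩, rfl⟩
    convert this using 1
    show _ = m⁻¹ * (g * xg hD F (D.simple i) 1 * g⁻¹) * m
    group
  have h := hS.borel _ hb hbB
  rw [map_mul, map_inv, show mapG D σ m = m from hm.2] at h
  exact mul_left_cancel h

/-- A fixed nontrivial `p`-element and an unfixed one generate no `p`-group. -/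
theorem not_pgroup {y z : GL D.Idx F} (hy : y ∈ G₀) (hfix : mapG D σ y = y) (hne : y ≠ 1) (hz : z ∈ G₀)
    (hzf : mapG D σ z ≠ z) : ¬ IsPGroup p ↥(Subgroup.closure ({y, z} : Set (GL D.Idx F))) := by
  intro hQ
  set Q := Subgroup.closure ({y, z} : Set (GL D.Idx F))
  have := hS.fin
  have hQle : Q ≤ G₀ := (Subgroup.closure_le _).2 (by rintro x (rfl | rfl) <;> assumption)
  have hyQ : y ∈ Q := Subgroup.subset_closure (Or.inl rfl)
  have hzQ : z ∈ Q := Subgroup.subset_closure (Or.inr rfl)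
  have : Finite ↥Q := Finite.of_injective (Subgroup.inclusion hQle) (Subgroup.inclusion_injective hQle)
  have : Nontrivial ↥Q := ⟨⟨⟨y, hyQ⟩, 1, fun h => hne (congrArg Subtype.val h)⟩⟩
  have := hQ.center_nontrivial
  obtain ⟨w, hw⟩ := exists_ne (1 : ↥(Subgroup.center ↥Q))
  have hwz : ∀ x (hx : x ∈ Q), ((w : ↥Q) : GL D.Idx F) * x = x * ((w : ↥Q) : GL D.Idx F) := fun x hx =>
    (congrArg Subtype.val (Subgroup.mem_center_iff.1 w.2 ⟨x, hx⟩)).symm
  obtain ⟨k, hk⟩ := hQ (w : ↥Q)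
  obtain ⟨ky, hky⟩ := hQ ⟨y, hyQ⟩
  have hwf := cent_fixed hD hR p hCo hS hy hfix hne ⟨ky, congrArg Subtype.val hky⟩ (hQle (w : ↥Q).2)
    (hwz y hyQ)
  exact hzf (cent_fixed hD hR p hCo hS (hQle (w : ↥Q).2) hwf
    (fun h => hw (Subtype.ext (Subtype.ext h))) ⟨k, congrArg Subtype.val hk⟩ hz (hwz z hzQ).symm)

/-- For `p = 2`, fixed and unfixed involutions are conjugate. -/
theorem isConj_of_involution (h2 : p = 2) {y z : GL D.Idx F} (hy : y ∈ G₀) (hfix : mapG D σ y = y)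
    (hy2 : orderOf y = 2) (hz : z ∈ G₀) (hzf : mapG D σ z ≠ z) (hz2 : orderOf z = 2) :
    ∃ g ∈ G₀, g * y * g⁻¹ = z := by
  subst h2
  have := hS.fin
  have hy' : orderOf (⟨y, hy⟩ : ↥G₀) = 2 := by
    rw [← hy2]; exact (orderOf_injective G₀.subtype Subtype.val_injective ⟨y, hy⟩).symm
  have hz' : orderOf (⟨z, hz⟩ : ↥G₀) = 2 := by
    rw [← hz2]; exact (orderOf_injective G₀.subtype Subtype.val_injective ⟨z, hz⟩).symm
  rcases Nat.even_or_odd (orderOf ((⟨y, hy⟩ : ↥G₀) * ⟨z, hz⟩)) with h | h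
  · exfalso
    obtain ⟨w, hw2, hwy, hwz, -⟩ := Involution.exists_commuting_involution hy' hz' h
    have hwp : ∃ k, (w : GL D.Idx F) ^ 2 ^ k = 1 := ⟨1, by
      have := congrArg Subtype.val (show w ^ 2 = 1 by rw [← hw2]; exact pow_orderOf_eq_one w)
      simpa using this⟩
    have hyp : ∃ k, y ^ 2 ^ k = 1 := ⟨1, by rw [pow_one, ← hy2]; exact pow_orderOf_eq_one y⟩
    have hy1 : y ≠ 1 := Involution.ne_one hy2
    have hwf := cent_fixed hD hR 2 hCo hS hy hfix hy1 hyp w.2 (congrArg Subtype.val hwy.eq)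
    exact hzf (cent_fixed hD hR 2 hCo hS w.2 hwf
      (fun e => Involution.ne_one hw2 (Subtype.ext e)) hwp hz (congrArg Subtype.val hwz.eq).symm)
  · obtain ⟨g, -, hg⟩ := Involution.exists_conj_of_odd hy' hz' h
    exact ⟨g, g.2, congrArg Subtype.val hg⟩

end Cfsg.Agent.ChevOvergroup
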