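import Cfsg.Agent.Lib.ChevOvergroup.Params
import Cfsg.Agent.Lib.Chev.All
import Cfsg.Agent.Lib.ChevBN.RootTables

/-!
# The field of a finite subgroup containing all `x_r(1)`

* `Decided`: the parameters of all root elements form one finite subfield `k₀`, and (in the special
  characteristic) so do the two parameters of the elements of `Z(U)`;
* `decided`: this holds for the seven tabulated groups.
-/

set_option autoImplicit false
set_option maxRecDepth 100000
set_option synthInstance.maxSize 4000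

namespace Cfsg.Agent.ChevOvergroup

open Cfsg.Lie Cfsg.Lie.ChevalleyDatum Cfsg.Agent.Chev Cfsg.Agent.ChevSt Cfsg.Agent.ChevBN

/-- The special root and characteristic (the highest root and 1 when there is none). -/
def Decided {D : ChevalleyDatum} (hD : Good D) {F : Type*} [Field F] (G₀ : Subgroup (GL D.Idx F)) (s₀ p₀ : ℕ) :
    Prop :=
  ∃ k₀ : Subfield F, (k₀ : Set F).Finite ∧ (∀ r < D.nroots, ∀ t, xg hD F r t ∈ G₀ ↔ t ∈ k₀) ∧
    ((p₀ : F) = 0 → ∀ a b, xg hD F s₀ a * xg hD F (D.nroots - 1) b ∈ G₀ → a ∈ k₀ ∧ b ∈ k₀)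

/-- Every simple root is reached from the highest root or from `s₀`. -/
def WordsOK (D : ChevalleyDatum) (s₀ : ℕ) (W : List (ℕ × List ℕ)) : Prop :=
  ∀ i < D.rank, ((W.getD i (0, [])).1 = D.nroots - 1 ∨ (W.getD i (0, [])).1 = s₀) ∧
    ((W.getD i (0, [])).1 < D.nroots ∧ (∀ j ∈ (W.getD i (0, [])).2, j < D.rank) ∧
      (W.getD i (0, [])).2.foldr (wN D) (W.getD i (0, [])).1 = D.simple i)

instance (D : ChevalleyDatum) (s₀ : ℕ) (W : List (ℕ × List ℕ)) : Decidable (WordsOK D s₀ W) := by
  unfold WordsOK; infer_instance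

theorem wordsG2 : WordsOK chevG2 9 [(9, [1, 0]), (11, [0, 1])] := by decide +kernel
theorem wordsB2 : WordsOK chevB2 6 [(6, [1]), (7, [0])] := by decide +kernel
theorem wordsD4 : WordsOK chevD4 23 [(23, [1, 3, 2, 1]), (23, [3, 2, 0, 1]), (23, [1, 3, 0, 1]),
    (23, [1, 2, 0, 1])] := by decide +kernel
theorem wordsF4 : WordsOK chevF4 44 [(44, [1, 2, 3, 1, 2, 1, 0]), (44, [2, 3, 0, 1, 2, 1, 0]),
    (47, [3, 1, 2, 0, 1, 2, 3]), (47, [2, 1, 2, 0, 1, 2, 3])] := by decide +kernel
theorem wordsE6 : WordsOK chevE6 71 [(71, [2, 3, 4, 5, 1, 3, 4, 2, 3, 1]), (71, [3, 4, 5, 2, 3, 4, 0, 2, 3, 1]),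
    (71, [3, 4, 5, 1, 3, 4, 0, 2, 3, 1]), (71, [4, 5, 2, 1, 3, 4, 0, 2, 3, 1]),
    (71, [5, 3, 2, 1, 3, 4, 0, 2, 3, 1]), (71, [4, 3, 2, 1, 3, 4, 0, 2, 3, 1])] := by decide +kernel
theorem wordsE7 : WordsOK chevE7 125 [(125, [2, 3, 4, 5, 6, 1, 3, 4, 5, 2, 3, 4, 1, 3, 2, 0]),
    (125, [3, 4, 5, 6, 2, 3, 4, 5, 0, 2, 3, 4, 1, 3, 2, 0]), (125, [3, 4, 5, 6, 1, 3, 4, 5, 0, 2, 3, 4, 1, 3, 2, 0]),
    (125, [4, 5, 6, 2, 1, 3, 4, 5, 0, 2, 3, 4, 1, 3, 2, 0]), (125, [5, 6, 3, 2, 1, 3, 4, 5, 0, 2, 3, 4, 1, 3, 2, 0]),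
    (125, [6, 4, 3, 2, 1, 3, 4, 5, 0, 2, 3, 4, 1, 3, 2, 0]),
    (125, [5, 4, 3, 2, 1, 3, 4, 5, 0, 2, 3, 4, 1, 3, 2, 0])] := by decide +kernel
theorem wordsE8 : WordsOK chevE8 239 [
    (239, [2, 3, 4, 5, 6, 7, 1, 3, 4, 5, 6, 2, 3, 4, 5, 1, 3, 4, 2, 3, 0, 2, 1, 3, 4, 5, 6, 7]),
    (239, [3, 4, 5, 6, 7, 2, 3, 4, 5, 6, 0, 2, 3, 4, 5, 1, 3, 4, 2, 3, 0, 2, 1, 3, 4, 5, 6, 7]),
    (239, [3, 4, 5, 6, 7, 1, 3, 4, 5, 6, 0, 2, 3, 4, 5, 1, 3, 4, 2, 3, 0, 2, 1, 3, 4, 5, 6, 7]),
    (239, [4, 5, 6, 7, 2, 1, 3, 4, 5, 6, 0, 2, 3, 4, 5, 1, 3, 4, 2, 3, 0, 2, 1, 3, 4, 5, 6, 7]),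
    (239, [5, 6, 7, 3, 2, 1, 3, 4, 5, 6, 0, 2, 3, 4, 5, 1, 3, 4, 2, 3, 0, 2, 1, 3, 4, 5, 6, 7]),
    (239, [6, 7, 4, 3, 2, 1, 3, 4, 5, 6, 0, 2, 3, 4, 5, 1, 3, 4, 2, 3, 0, 2, 1, 3, 4, 5, 6, 7]),
    (239, [7, 5, 4, 3, 2, 1, 3, 4, 5, 6, 0, 2, 3, 4, 5, 1, 3, 4, 2, 3, 0, 2, 1, 3, 4, 5, 6, 7]),
    (239, [6, 5, 4, 3, 2, 1, 3, 4, 5, 6, 0, 2, 3, 4, 5, 1, 3, 4, 2, 3, 0, 2, 1, 3, 4, 5, 6, 7])] := by
  decide +kernel

variable {F : Type*} [Field F]

section General

variable {D : ChevalleyDatum} (hD : Good D) {M : List (List ℤ)} {d : ℤ} (hR : Roots D M d)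
  {G₀ : Subgroup (GL D.Idx F)} (hone : ∀ r, xg hD F r 1 ∈ G₀)
include hone

/-- Parameters of an A₂ pair in one class are closed under products. -/
theorem mul_of_pair {r s τ : ℕ} (h : r < D.nroots ∧ s < D.nroots ∧ s ≠ r ∧ s ≠ D.neg r)
    (hT : D.commTerms r s = [(τ, 1, 1, 1)]) {A : AddSubgroup F} (hr : params hD G₀ r = A)
    (hs : params hD G₀ s = A) (hτ : params hD G₀ τ = A) : ∀ x ∈ A, ∀ y ∈ A, x * y ∈ A := by
  intro x hx y hy
  have := word_mem hD h (hr.symm ▸ hx) (hs.symm ▸ hy)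
  simp only [ChevalleyDatum.commWord, hT, List.map_cons, List.map_nil, List.prod_cons, List.prod_nil,
    mul_one, Int.cast_one, one_mul, pow_one] at this
  have h2 : -x * y ∈ A := hτ ▸ (show -x * y ∈ params hD G₀ τ from this)
  simpa [neg_mul] using A.neg_mem h2

include hR

theorem cases_of_words {s₀ : ℕ} {W : List (ℕ × List ℕ)} (hW : WordsOK D s₀ W) {r : ℕ} (hr : r < D.nroots) :
    params hD G₀ r = params hD G₀ (D.nroots - 1) ∨ params hD G₀ r = params hD G₀ s₀ := by
  refine params_cases hD hone hR (fun i hi => ?_) hr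
  obtain ⟨h1, h2⟩ := hW i hi
  have e := params_eq_of_word hD hone _ h2
  rcases h1 with h1 | h1
  · exact Or.inl (h1 ▸ e)
  · exact Or.inr (h1 ▸ e)

/-- One class: the simply laced case. -/
theorem decided_single [Finite ↥G₀] {W : List (ℕ × List ℕ)} (hW : WordsOK D (D.nroots - 1) W) {r s i : ℕ}
    (h : r < D.nroots ∧ s < D.nroots ∧ s ≠ r ∧ s ≠ D.neg r)
    (hT : D.commTerms r s = [(D.nroots - 1, 1, 1, 1)]) (hi : i < D.rank) :
    Decided hD G₀ (D.nroots - 1) 1 := by
  set A := params hD G₀ (D.nroots - 1)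
  have hall : ∀ q < D.nroots, params hD G₀ q = A := fun q hq => (cases_of_words hD hR hone hW hq).elim id id
  have hθ : D.nroots - 1 < D.nroots := by omega
  refine ⟨subfieldOf A (finite_params hD hθ) (one_mem_params hD hone _)
    (mul_of_pair hD hone h hT (hall r h.1) (hall s h.2.1) rfl), finite_params hD hθ, fun q hq t => ?_, fun h0 => ?_⟩
  · rw [← mem_params hD, hall q hq]; rfl
  · exact absurd h0 (by simp)

end General

/-! ### The type G₂ -/

section G2

variable {G₀ : Subgroup (GL chevG2.Idx F)} (hone : ∀ r, xg DataG2.good F r 1 ∈ G₀)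
include hone

theorem g2_extract {Y Z : GL chevG2.Idx F} {c : F}
    (hY : Commute Y (xg DataG2.good F 6 1)) (hZ : Commute Z (xg DataG2.good F 6 1))
    (hY' : Commute Y (xg DataG2.good F 11 (-c))) (h : Y * xg DataG2.good F 10 c * Z ∈ G₀)
    (hZ' : Commute Z (xg DataG2.good F 11 (-c))) : c ∈ params DataG2.good G₀ 11 := by
  set hD := DataG2.good
  have e := (ChevOrder.matSys chevG2 hD F).comm 10 6 (by decide) (by decide) (by decide) (by decide) c 1
  change xg hD F 6 1 * xg hD F 10 c = xg hD F 10 c * xg hD F 6 1 * _ at e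
  simp only [ChevalleyDatum.commWord, show chevG2.commTerms 10 6 = [(11, -1, 1, 1)] by decide +kernel,
    List.map_cons, List.map_nil, List.prod_cons, List.prod_nil, mul_one, pow_one, Int.cast_neg, Int.cast_one,
    neg_mul, one_mul, _root_.neg_neg] at e
  change xg hD F 6 1 * xg hD F 10 c = xg hD F 10 c * xg hD F 6 1 * xg hD F 11 c at e
  set W := Y * xg hD F 10 c * Z
  have e2 : W * xg hD F 6 1 = xg hD F 6 1 * W * xg hD F 11 (-c) := by
    calc W * xg hD F 6 1 = Y * (xg hD F 10 c * xg hD F 6 1) * Z := by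
          simp only [W, mul_assoc, hZ.eq]
      _ = Y * (xg hD F 6 1 * xg hD F 10 c * xg hD F 11 (-c)) * Z := by
          rw [e, mul_assoc (xg hD F 10 c * xg hD F 6 1), xg_add hD (by decide), add_neg_cancel, xg_zero, mul_one]
      _ = _ := by
          simp only [W, ← mul_assoc, hY.eq]
          simp only [mul_assoc, hZ'.eq]
  rw [mem_params, show xg hD F 11 c = (xg hD F 11 (-c))⁻¹ by rw [xg_inv, _root_.neg_neg],
    show xg hD F 11 (-c) = W⁻¹ * (xg hD F 6 1)⁻¹ * (W * xg hD F 6 1) by rw [e2]; group]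
  exact inv_mem (mul_mem (mul_mem (inv_mem h) (inv_mem (hone 6))) (mul_mem h (hone 6)))

theorem decided_G2 [Finite ↥G₀] : Decided DataG2.good G₀ 9 3 := by
  set hD := DataG2.good
  have hcases := fun {r} (hr : r < chevG2.nroots) => cases_of_words hD rootsG2 hone wordsG2 hr
  have n11 : (11 : ℕ) < chevG2.nroots := by decide
  have n9 : (9 : ℕ) < chevG2.nroots := by decide
  set L := params hD G₀ 11 with hL
  set S := params hD G₀ 9 with hS
  have a6 : params hD G₀ 6 = L := params_eq_of_word hD hone (src := 11) [0, 1] (by decide +kernel)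
  have a10 : params hD G₀ 10 = L := params_eq_of_word hD hone (src := 11) [1] (by decide +kernel)
  have a7 : params hD G₀ 7 = S := params_eq_of_word hD hone (src := 9) [1, 0] (by decide +kernel)
  have a8 : params hD G₀ 8 = S := params_eq_of_word hD hone (src := 9) [0] (by decide +kernel)
  have hmul := mul_of_pair hD hone (r := 6) (s := 10) (τ := 11) (by decide) (by decide +kernel) a6 a10 rfl
  let k₀ := subfieldOf L (finite_params hD n11) (one_mem_params hD hone _) hmul
  have hLS : L ≤ S := fun c hc => torus_mem hD hone n9 n11 (by decide +kernel) hc (by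
    rw [params_neg hD hone rootsG2 n11]
    exact L.neg_mem (k₀.inv_mem hc))
  have hcomm : ∀ q, q = 8 ∨ q = 9 ∨ q = 11 → ∀ t v : F,
      Commute (xg hD F q t) (xg hD F 6 v) ∧ Commute (xg hD F q t) (xg hD F 11 v) := by
    intro q hq t v
    rcases hq with rfl | rfl | rfl
    · exact ⟨commute_of_terms hD (by decide) (by decide +kernel) t v,
        commute_of_terms hD (by decide) (by decide +kernel) t v⟩
    · exact ⟨commute_of_terms hD (by decide) (by decide +kernel) t v,
        commute_of_terms hD (by decide) (by decide +kernel) t v⟩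
    · refine ⟨commute_of_terms hD (by decide) (by decide +kernel) t v, ?_⟩
      show _ * _ = _ * _
      rw [xg_add hD n11, xg_add hD n11, add_comm]
  have hthree : ∀ t ∈ S, (3 : F) * t ∈ L := by
    intro t ht
    have := word_mem hD (r := 8) (s := 7) (by decide) (a8.symm ▸ ht) (one_mem_params hD hone 7)
    simp only [ChevalleyDatum.commWord,
      show chevG2.commTerms 8 7 = [(9, 2, 1, 1), (11, 3, 2, 1), (10, -3, 1, 2)] by decide +kernel,
      List.map_cons, List.map_nil, List.prod_cons, List.prod_nil, mul_one, one_pow, pow_one] at this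
    push_cast at this
    rw [← mul_assoc, show (-3 : F) * -t = 3 * t by ring] at this
    refine g2_extract hone (Y := xg hD F 9 ((2 : F) * -t) * xg hD F 11 ((3 : F) * (-t) ^ 2)) (Z := 1) ?_
      (Commute.one_left _) ?_ (by simpa using this) (Commute.one_left _)
    · exact (hcomm 9 (by simp) _ _).1.mul_left (hcomm 11 (by simp) _ _).1
    · exact (hcomm 9 (by simp) _ _).2.mul_left (hcomm 11 (by simp) _ _).2
  have hcube : ∀ t ∈ S, t ^ 3 ∈ L := by
    intro t ht
    have := word_mem hD (r := 7) (s := 6) (by decide) (a7.symm ▸ ht) (one_mem_params hD hone 6)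
    simp only [ChevalleyDatum.commWord,
      show chevG2.commTerms 7 6 = [(8, -1, 1, 1), (9, 1, 2, 1), (10, 1, 3, 1), (11, 1, 3, 2)] by decide +kernel,
      List.map_cons, List.map_nil, List.prod_cons, List.prod_nil, mul_one, one_pow, pow_one] at this
    push_cast at this
    rw [one_mul, one_mul, ← mul_assoc, ← mul_assoc] at this
    have h2 := g2_extract hone (c := (-t) ^ 3) ((hcomm 8 (by simp) _ _).1.mul_left (hcomm 9 (by simp) _ _).1)
      (hcomm 11 (by simp) _ _).1 ((hcomm 8 (by simp) _ _).2.mul_left (hcomm 9 (by simp) _ _).2) this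
      (hcomm 11 (by simp) _ _).2
    rw [show (-t) ^ 3 = -(t ^ 3) by ring] at h2
    exact neg_mem_iff.1 h2
  have hSL : L = S := by
    by_cases h3 : (3 : F) = 0
    · refine eq_of_maps (finite_params hD n9) (finite_params hD n11) hLS (fun t => t ^ 3) hcube fun a b e => ?_
      have e' : a ^ 3 = b ^ 3 := e
      have h : (a - b) ^ 3 = 0 := by linear_combination e' + (a * b ^ 2 - a ^ 2 * b) * h3
      exact sub_eq_zero.1 ((pow_eq_zero_iff three_ne_zero).1 h)
    · refine le_antisymm hLS fun t ht => ?_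
      have h3L : (3 : F) ∈ k₀ := natCast_mem k₀ 3
      have := k₀.mul_mem (k₀.inv_mem h3L) (show (3 : F) * t ∈ k₀ from hthree t ht)
      rwa [← mul_assoc, inv_mul_cancel₀ h3, one_mul] at this
  have hall : ∀ q < chevG2.nroots, params hD G₀ q = L := fun q hq => (hcases hq).elim id fun e => e.trans hSL.symm
  refine ⟨k₀, finite_params hD n11, fun q hq t => ?_, fun h0 a b hab => ?_⟩
  · rw [← mem_params hD, hall q hq]; rfl
  push_cast at h0
  have ha : a ∈ L := by
    have e := (ChevOrder.matSys chevG2 hD F).comm 9 4 (by decide) (by decide) (by decide) (by decide) a 1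
    change xg hD F 4 1 * xg hD F 9 a = xg hD F 9 a * xg hD F 4 1 * _ at e
    simp only [ChevalleyDatum.commWord,
      show chevG2.commTerms 9 4 = [(8, 2, 1, 1), (11, -3, 2, 1), (6, 3, 1, 2)] by decide +kernel,
      List.map_cons, List.map_nil, List.prod_cons, List.prod_nil, mul_one, one_pow, pow_one] at e
    push_cast at e
    rw [h0, show (2 : F) * -a = a by linear_combination -a * h0, zero_mul, neg_zero, zero_mul] at e
    change xg hD F 4 1 * xg hD F 9 a = xg hD F 9 a * xg hD F 4 1 *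
      (xg hD F 8 a * (xg hD F 11 0 * xg hD F 6 0)) at e
    rw [xg_zero, xg_zero, mul_one, mul_one] at e
    have hc : Commute (xg hD F 11 b) (xg hD F 4 1) := commute_of_terms hD (by decide) (by decide +kernel) _ _
    set W := xg hD F 9 a * xg hD F (chevG2.nroots - 1) b
    have hW : W = xg hD F 9 a * xg hD F 11 b := rfl
    have h8 : xg hD F 8 a ∈ G₀ := by
      have e2 : xg hD F 4 1 * W = xg hD F 9 a * xg hD F 4 1 * xg hD F 8 a * xg hD F 11 b := by
        rw [hW, ← mul_assoc, e]
      have hc8 : Commute (xg hD F 8 a) (xg hD F 11 b) := commute_of_terms hD (by decide) (by decide +kernel) _ _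
      have e3 : xg hD F 4 1 * W = W * xg hD F 4 1 * xg hD F 8 a := by
        rw [e2, hW]
        simp only [mul_assoc, hc8.eq, hc.left_comm]
      rw [show xg hD F 8 a = (W * xg hD F 4 1)⁻¹ * (xg hD F 4 1 * W) by rw [e3]; group]
      exact mul_mem (inv_mem (mul_mem hab (hone 4))) (mul_mem (hone 4) hab)
    rw [← hall 8 (by decide)]
    exact h8
  refine ⟨ha, ?_⟩
  have h9 : xg hD F 9 a ∈ G₀ := by
    have : a ∈ params hD G₀ 9 := by rw [← hS, ← hSL]; exact ha
    exact this
  exact (Subgroup.mul_mem_cancel_left _ h9).1 hab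

end G2

/-! ### The type F₄ -/

section F4

variable {G₀ : Subgroup (GL chevF4.Idx F)} (hone : ∀ r, xg DataF4.good F r 1 ∈ G₀)
include hone

theorem decided_F4 [Finite ↥G₀] : Decided DataF4.good G₀ 44 2 := by
  set hD := DataF4.good
  have n47 : (47 : ℕ) < chevF4.nroots := by decide
  have n44 : (44 : ℕ) < chevF4.nroots := by decide
  set L := params hD G₀ 47 with hL
  set S := params hD G₀ 44 with hS
  have a24 : params hD G₀ 24 = L := params_eq_of_word hD hone (src := 47) [2, 1, 2, 0, 1, 2, 3] (by decide +kernel)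
  have a46 : params hD G₀ 46 = L := params_eq_of_word hD hone (src := 47) [3] (by decide +kernel)
  have a45 : params hD G₀ 45 = L := params_eq_of_word hD hone (src := 47) [2, 3] (by decide +kernel)
  have a4 : params hD G₀ 4 = L :=
    params_eq_of_word hD hone (src := 47) [2, 0, 1, 2, 3, 2, 1, 2, 0, 1, 2, 3] (by decide +kernel)
  have a27 : params hD G₀ 27 = S := params_eq_of_word hD hone (src := 44) [2, 3, 0, 1, 2, 1, 0] (by decide +kernel)
  have a36 : params hD G₀ 36 = S := params_eq_of_word hD hone (src := 44) [1, 2, 1, 0] (by decide +kernel)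
  have hmul := mul_of_pair hD hone (r := 24) (s := 46) (τ := 47) (by decide) (by decide +kernel) a24 a46 rfl
  let k₀ := subfieldOf L (finite_params hD n47) (one_mem_params hD hone _) hmul
  have hLS : L ≤ S := fun c hc => torus_mem hD hone n44 n47 (by decide +kernel) hc (by
    rw [params_neg hD hone rootsF4 n47]
    exact L.neg_mem (k₀.inv_mem hc))
  have hsq : ∀ t ∈ S, t ^ 2 ∈ L := by
    intro t ht
    have := word_mem hD (r := 44) (s := 4) (by decide) ht (one_mem_params hD hone 4)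
    simp only [ChevalleyDatum.commWord,
      show chevF4.commTerms 44 4 = [(27, 1, 1, 1), (45, -1, 2, 1)] by decide +kernel,
      List.map_cons, List.map_nil, List.prod_cons, List.prod_nil, mul_one, one_pow, pow_one] at this
    push_cast at this
    have h27 : xg hD F 27 (1 * -t) ∈ G₀ := by
      have h : (1 : F) * -t ∈ params hD G₀ 27 := by rw [one_mul, a27]; exact neg_mem ht
      exact h
    have h45 : (-1 : F) * (-t) ^ 2 ∈ params hD G₀ 45 := (Subgroup.mul_mem_cancel_left _ h27).1 this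
    rw [a45, show (-1 : F) * (-t) ^ 2 = -(t ^ 2) by ring] at h45
    exact neg_mem_iff.1 h45
  have hSL : L = S :=
    eq_of_sq (finite_params hD n44) (finite_params hD n47) hLS (one_mem_params hD hone _) hmul hsq
  have hall : ∀ q < chevF4.nroots, params hD G₀ q = L := fun q hq =>
    (cases_of_words hD rootsF4 hone wordsF4 hq).elim id fun e => e.trans hSL.symm
  refine ⟨k₀, finite_params hD n47, fun q hq t => ?_, fun _ a b hab => ?_⟩
  · rw [← mem_params hD, hall q hq]; rfl
  have ha : a ∈ L := by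
    have e := (ChevOrder.matSys chevF4 hD F).comm 44 10 (by decide) (by decide) (by decide) (by decide) a 1
    change xg hD F 10 1 * xg hD F 44 a = xg hD F 44 a * xg hD F 10 1 * _ at e
    simp only [ChevalleyDatum.commWord, show chevF4.commTerms 44 10 = [(36, 1, 1, 1)] by decide +kernel,
      List.map_cons, List.map_nil, List.prod_cons, List.prod_nil, mul_one, one_pow, pow_one, Int.cast_one,
      one_mul] at e
    change xg hD F 10 1 * xg hD F 44 a = xg hD F 44 a * xg hD F 10 1 * xg hD F 36 (-a) at e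
    have hc : Commute (xg hD F 47 b) (xg hD F 10 1) := commute_of_terms hD (by decide) (by decide +kernel) _ _
    have hc36 : Commute (xg hD F 36 (-a)) (xg hD F 47 b) :=
      commute_of_terms hD (by decide) (by decide +kernel) _ _
    set W := xg hD F 44 a * xg hD F (chevF4.nroots - 1) b
    have hW : W = xg hD F 44 a * xg hD F 47 b := rfl
    have e3 : xg hD F 10 1 * W = W * xg hD F 10 1 * xg hD F 36 (-a) := by
      rw [hW, ← mul_assoc, e]
      simp only [mul_assoc, hc36.eq, hc.left_comm]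
    have h36 : -a ∈ params hD G₀ 36 := by
      rw [mem_params, show xg hD F 36 (-a) = (W * xg hD F 10 1)⁻¹ * (xg hD F 10 1 * W) by rw [e3]; group]
      exact mul_mem (inv_mem (mul_mem hab (hone 10))) (mul_mem (hone 10) hab)
    rw [a36, ← hSL] at h36
    exact neg_mem_iff.1 h36
  refine ⟨ha, ?_⟩
  have h44 : a ∈ params hD G₀ 44 := by rw [← hS, ← hSL]; exact ha
  exact (Subgroup.mul_mem_cancel_left _ (show xg hD F 44 a ∈ G₀ from h44)).1 hab

end F4

/-! ### The type B₂ -/

section B2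

variable {G₀ : Subgroup (GL chevB2.Idx F)} (hone : ∀ r, xg DataB2.good F r 1 ∈ G₀)
include hone

theorem b2_odd [Finite ↥G₀] (h2 : (2 : F) ≠ 0) :
    params DataB2.good G₀ 6 = params DataB2.good G₀ 7 ∧
      ∀ x ∈ params DataB2.good G₀ 7, ∀ y ∈ params DataB2.good G₀ 7, x * y ∈ params DataB2.good G₀ 7 := by
  set hD := DataB2.good
  set L := params hD G₀ 7 with hL
  set S := params hD G₀ 6 with hS
  have a5 : params hD G₀ 5 = S := params_eq_of_word hD hone (src := 6) [1] (by decide +kernel)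
  have a4 : params hD G₀ 4 = L := params_eq_of_word hD hone (src := 7) [0] (by decide +kernel)
  have half : ∀ {A : AddSubgroup F}, (A : Set F).Finite → ∀ x, 2 * x ∈ A → x ∈ A := by
    intro A hA x hx
    have hmaps : Set.MapsTo (fun y => 2 * y) (A : Set F) A := fun y hy => by
      show 2 * y ∈ A; rw [two_mul]; exact add_mem hy hy
    obtain ⟨y, hy, e⟩ := ((hA.injOn_iff_bijOn_of_mapsTo hmaps).1 fun a _ b _ e => mul_left_cancel₀ h2 e).surjOn hx
    exact mul_left_cancel₀ h2 e ▸ hy
  have f6 := finite_params hD (G₀ := G₀) (r := 6) (by decide)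
  have f7 := finite_params hD (G₀ := G₀) (r := 7) (by decide)
  have hSS : ∀ x ∈ S, ∀ y ∈ S, x * y ∈ L := by
    intro x hx y hy
    have := word_mem hD (r := 6) (s := 5) (by decide) hx (a5.symm ▸ hy)
    simp only [ChevalleyDatum.commWord, show chevB2.commTerms 6 5 = [(7, -2, 1, 1)] by decide +kernel,
      List.map_cons, List.map_nil, List.prod_cons, List.prod_nil, mul_one, pow_one] at this
    push_cast at this
    refine half f7 _ ?_
    have e : (-2 : F) * -x * y ∈ L := this
    rwa [show (-2 : F) * -x * y = 2 * (x * y) by ring] at e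
  have hh : hg hD F 7 (-1) ∈ G₀ := by
    rw [hg, ← ng_inv]
    exact mul_mem (inv_mem (ng_one_mem hD hone 7)) (inv_mem (ng_one_mem hD hone 7))
  have hLS : L ≤ S := by
    intro u hu
    have hz := word_mem hD (r := 5) (s := 4) (by decide) (one_mem_params hD hone 5) (a4.symm ▸ hu)
    simp only [ChevalleyDatum.commWord,
      show chevB2.commTerms 5 4 = [(6, -1, 1, 1), (7, -1, 2, 1)] by decide +kernel,
      List.map_cons, List.map_nil, List.prod_cons, List.prod_nil, mul_one, pow_one] at hz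
    push_cast at hz
    have hz' : xg hD F 6 u * xg hD F 7 (-u) ∈ G₀ := by
      rw [show (-1 : F) * -1 * u = u by ring, show (-1 : F) * (-1) ^ 2 * u = -u by ring] at hz
      exact hz
    have hconj : hg hD F 7 (-1) * (xg hD F 6 u * xg hD F 7 (-u)) * (hg hD F 7 (-1))⁻¹ =
        xg hD F 6 (-u) * xg hD F 7 (-u) := by
      rw [← mul_assoc, hg_conj hD (by decide) (by simp : (-1 : F) ≠ 0), mul_assoc (xg hD F 6 _),
        hg_conj hD (by decide) (by simp : (-1 : F) ≠ 0), show chevB2.pairing 7 6 = 1 by decide +kernel,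
        show chevB2.pairing 7 7 = 2 by decide +kernel, zpow_one, neg_one_mul,
        show ((-1 : F)) ^ (2 : ℤ) = 1 by norm_num, one_mul, ← mul_assoc, mul_inv_cancel_right]
    have h6 : xg hD F 6 (u + u) ∈ G₀ := by
      have := mul_mem hz' (inv_mem (mul_mem (mul_mem hh hz') (inv_mem hh)))
      rw [hconj, _root_.mul_inv_rev, ← mul_assoc, mul_inv_cancel_right, xg_inv, _root_.neg_neg,
        xg_add hD (by decide)] at this
      exact this
    refine half f6 u ?_
    rw [two_mul]
    exact h6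
  have hSL : S = L := le_antisymm (fun t ht => by simpa using hSS t ht 1 (one_mem_params hD hone _)) hLS
  exact ⟨hSL, fun x hx y hy => hSS x (hSL ▸ hx) y (hSL ▸ hy)⟩

theorem b2_two [Finite ↥G₀] (h2 : (2 : F) = 0) :
    params DataB2.good G₀ 6 = params DataB2.good G₀ 7 ∧
      (∀ x ∈ params DataB2.good G₀ 7, ∀ y ∈ params DataB2.good G₀ 7, x * y ∈ params DataB2.good G₀ 7) ∧
      ∀ a b, xg DataB2.good F 6 a * xg DataB2.good F 7 b ∈ G₀ →
        a ∈ params DataB2.good G₀ 7 ∧ b ∈ params DataB2.good G₀ 7 := by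
  set hD := DataB2.good
  set L := params hD G₀ 7 with hL
  set S := params hD G₀ 6 with hS
  have hneg : ∀ x : F, -x = x := fun x => by linear_combination -x * h2
  have hsgn : ∀ n : ℤ, n = 1 ∨ n = -1 → (n : F) = 1 := by
    rintro n (rfl | rfl)
    · simp
    · push_cast; exact hneg 1
  have c67 : ∀ a b : F, Commute (xg hD F 6 a) (xg hD F 7 b) := fun a b =>
    commute_of_terms hD (by decide) (by decide +kernel) a b
  have c47 : ∀ a b : F, Commute (xg hD F 4 a) (xg hD F 7 b) := fun a b =>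
    commute_of_terms hD (by decide) (by decide +kernel) a b
  have c57 : ∀ a b : F, Commute (xg hD F 5 a) (xg hD F 7 b) := fun a b =>
    commute_of_terms hD (by decide) (by decide +kernel) a b
  have c46 : ∀ a b : F, Commute (xg hD F 4 a) (xg hD F 6 b) := fun a b =>
    commute_of_terms hD (by decide) (by decide +kernel) a b
  have c56 : ∀ a b : F, Commute (xg hD F 5 a) (xg hD F 6 b) := fun a b => by
    have e := (ChevOrder.matSys chevB2 hD F).comm 6 5 (by decide) (by decide) (by decide) (by decide) b a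
    change xg hD F 5 a * xg hD F 6 b = xg hD F 6 b * xg hD F 5 a * _ at e
    simp only [ChevalleyDatum.commWord, show chevB2.commTerms 6 5 = [(7, -2, 1, 1)] by decide +kernel,
      List.map_cons, List.map_nil, List.prod_cons, List.prod_nil, mul_one, pow_one] at e
    push_cast at e
    rw [h2, neg_zero, zero_mul, zero_mul] at e
    change xg hD F 5 a * xg hD F 6 b = xg hD F 6 b * xg hD F 5 a * xg hD F 7 0 at e
    rw [xg_zero, mul_one] at e
    exact e
  -- `x_5(u) x_4(t)`
  have c54 : ∀ u t : F, xg hD F 5 u * xg hD F 4 t =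
      xg hD F 4 t * xg hD F 5 u * (xg hD F 6 (t * u) * xg hD F 7 (t * u ^ 2)) := fun u t => by
    have e := (ChevOrder.matSys chevB2 hD F).comm 4 5 (by decide) (by decide) (by decide) (by decide) t u
    change xg hD F 5 u * xg hD F 4 t = xg hD F 4 t * xg hD F 5 u * _ at e
    simp only [ChevalleyDatum.commWord,
      show chevB2.commTerms 4 5 = [(6, 1, 1, 1), (7, -1, 1, 2)] by decide +kernel,
      List.map_cons, List.map_nil, List.prod_cons, List.prod_nil, mul_one, pow_one] at e
    push_cast at e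
    rw [hneg t, hneg 1, one_mul] at e
    exact e
  let P : F → F → Prop := fun a b => xg hD F 6 a * xg hD F 7 b ∈ G₀
  have padd : ∀ a b a' b', P a b → P a' b' → P (a + a') (b + b') := fun a b a' b' h h' => by
    have := mul_mem h h'
    rw [mul_assoc, ← mul_assoc (xg hD F 7 b), ← (c67 a' b).eq, mul_assoc, xg_add hD (by decide), ← mul_assoc,
      xg_add hD (by decide)] at this
    exact this
  have na : ∀ s : ℕ, s < chevB2.nroots → ∀ u : F, ng hD F (chevB2.simple 0) 1 * xg hD F s u *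
      (ng hD F (chevB2.simple 0) 1)⁻¹ = xg hD F (wN chevB2 0 s) u := fun s hs u => by
    rw [ng_conj_xg hD (by decide) hs, hsgn _ (nSign_cases hD (by decide) hs).1, one_mul]
  have nb : ∀ s : ℕ, s < chevB2.nroots → ∀ u : F, ng hD F (chevB2.simple 1) 1 * xg hD F s u *
      (ng hD F (chevB2.simple 1) 1)⁻¹ = xg hD F (wN chevB2 1 s) u := fun s hs u => by
    rw [ng_conj_xg hD (by decide) hs, hsgn _ (nSign_cases hD (by decide) hs).1, one_mul]
  have conj2 : ∀ (n x y : GL chevB2.Idx F), n * (x * y) * n⁻¹ = n * x * n⁻¹ * (n * y * n⁻¹) :=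
    fun n x y => by group
  have rA : ∀ a b, P a b → xg hD F 6 a * xg hD F 4 b ∈ G₀ := fun a b h => by
    have := mul_mem (mul_mem (ng_one_mem hD hone (chevB2.simple 0)) h)
      (inv_mem (ng_one_mem hD hone (chevB2.simple 0)))
    rw [conj2, na 6 (by decide), na 7 (by decide), show wN chevB2 0 6 = 6 by decide +kernel,
      show wN chevB2 0 7 = 4 by decide +kernel] at this
    exact this
  have rB : ∀ a b, P a b → xg hD F 5 a * xg hD F 7 b ∈ G₀ := fun a b h => by
    have := mul_mem (mul_mem (ng_one_mem hD hone (chevB2.simple 1)) h)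
      (inv_mem (ng_one_mem hD hone (chevB2.simple 1)))
    rw [conj2, nb 6 (by decide), nb 7 (by decide), show wN chevB2 1 6 = 5 by decide +kernel,
      show wN chevB2 1 7 = 7 by decide +kernel] at this
    exact this
  -- commutators
  have comm : ∀ a b c e : F, xg hD F 5 a * xg hD F 7 b ∈ G₀ → xg hD F 6 e * xg hD F 4 c ∈ G₀ →
      P (c * a) (c * a ^ 2) := fun a b c e h h' => by
    set X := xg hD F 5 a * xg hD F 7 b
    set Y := xg hD F 6 e * xg hD F 4 c
    set W := xg hD F 6 (c * a) * xg hD F 7 (c * a ^ 2)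
    have hW : Commute (xg hD F 7 b) W := ((c67 _ b).symm.mul_right (by
      show _ * _ = _ * _
      rw [xg_add hD (by decide), xg_add hD (by decide), add_comm]))
    have e1 : X * Y = Y * X * W := by
      calc X * Y = xg hD F 5 a * xg hD F 6 e * (xg hD F 7 b * xg hD F 4 c) := by
            simp only [X, Y, mul_assoc, (c67 e b).symm.left_comm]
        _ = xg hD F 6 e * (xg hD F 5 a * xg hD F 4 c) * xg hD F 7 b := by
            rw [(c56 a e).eq, ← (c47 c b).eq]; simp only [mul_assoc]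
        _ = _ := by
            rw [c54]
            change xg hD F 6 e * (xg hD F 4 c * xg hD F 5 a * W) * xg hD F 7 b = _
            simp only [X, Y, mul_assoc]
            rw [hW.eq]
    show W ∈ G₀
    rw [show W = (Y * X)⁻¹ * (X * Y) by rw [e1]; group]
    exact mul_mem (inv_mem (mul_mem h' h)) (mul_mem h h')
  have pbb : ∀ a b, P a b → P b b := fun a b h => by
    have := comm 1 0 b a (by rw [xg_zero, mul_one]; exact hone 5) (rA a b h)
    simpa using this
  have paa : ∀ a b, P a b → P a (a ^ 2) := fun a b h => by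
    have := comm a b 1 0 (rB a b h) (by rw [xg_zero, one_mul]; exact hone 4)
    simpa using this
  have hL' : ∀ b, b ∈ L ↔ P 0 b := fun b => by
    show xg hD F 7 b ∈ G₀ ↔ xg hD F 6 0 * xg hD F 7 b ∈ G₀
    rw [xg_zero, one_mul]
  have hS' : ∀ a, a ∈ S ↔ P a 0 := fun a => by
    show xg hD F 6 a ∈ G₀ ↔ xg hD F 6 a * xg hD F 7 0 ∈ G₀
    rw [xg_zero, mul_one]
  have pneg : ∀ a b, P a b → P (-a) (-b) := fun a b h => by rw [hneg, hneg]; exact h
  let C : AddSubgroup F :=
    { carrier := {a | ∃ b, P a b}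
      zero_mem' := ⟨0, (hL' 0).1 L.zero_mem⟩
      add_mem' := fun {x y} ⟨b, h⟩ ⟨b', h'⟩ => ⟨b + b', padd _ _ _ _ h h'⟩
      neg_mem' := fun {x} ⟨b, h⟩ => ⟨-b, pneg _ _ h⟩ }
  have hdd : ∀ a, a ∈ C → P a (a ^ 2) := fun a ⟨b, h⟩ => paa a b h
  have hsnd : ∀ a b, P a b → b ∈ C := fun a b h => ⟨b, pbb a b h⟩
  have hfin : (C : Set F).Finite := by
    let f : ↥(C : Set F) → ↥G₀ := fun a => ⟨xg hD F 6 a.1 * xg hD F 7 (a.1 ^ 2), hdd _ a.2⟩
    have : Finite ↥(C : Set F) := Finite.of_injective f fun x y e => by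
      have e' : xg hD F 6 x.1 * xg hD F 7 (x.1 ^ 2) = xg hD F 6 y.1 * xg hD F 7 (y.1 ^ 2) := congrArg Subtype.val e
      have e2 : xg hD F 6 (-y.1 + x.1) = xg hD F 7 (y.1 ^ 2 + -(x.1 ^ 2)) := by
        rw [← xg_add hD (by decide), ← xg_add hD (by decide), ← xg_inv, ← xg_inv, inv_mul_eq_iff_eq_mul, eq_comm,
          ← mul_assoc, mul_inv_eq_iff_eq_mul]
        exact e'.symm
      refine Subtype.ext (by_contra fun hne => ?_)
      exact absurd (ChevOrder.xg_eq_xg hD (by decide) (by decide)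
        (fun h0 => hne (by linear_combination h0)) e2) (by decide)
    exact Set.toFinite _
  have hg' : ∀ a, a ∈ C → P a a := fun a ha => by
    -- `a` is a second coordinate as `a ↦ a ^ 2` permutes `C`
    have hmaps : Set.MapsTo (fun y => y ^ 2) (C : Set F) C := fun y hy => hsnd _ _ (hdd y hy)
    obtain ⟨y, hy, e⟩ := ((hfin.injOn_iff_bijOn_of_mapsTo hmaps).1 fun a _ b _ e => by
      have e' : a ^ 2 = b ^ 2 := e
      have : (a - b) ^ 2 = 0 := by linear_combination e' + (b ^ 2 - a * b) * h2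
      exact sub_eq_zero.1 ((pow_eq_zero_iff two_ne_zero).1 this)).surjOn ha
    exact pbb _ _ (show P y a from (show y ^ 2 = a from e) ▸ hdd y hy)
  have hprod : ∀ a b, a ∈ C → b ∈ C → P (b * a) (b * a ^ 2) := fun a b ha hb =>
    comm a _ b b (rB _ _ (hdd a ha)) (rA _ _ (hg' b hb))
  have h1C : (1 : F) ∈ C := ⟨0, (hS' 1).1 (one_mem_params hD hone 6)⟩
  have hmulC : ∀ a ∈ C, ∀ b ∈ C, a * b ∈ C := fun a ha b hb => ⟨_, hprod b a hb ha⟩
  let k₀ := subfieldOf C hfin h1C hmulC
  have h11 : (1 : F) + 1 = 0 := by linear_combination h2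
  have hdbl : ∀ x : F, x + x = 0 := fun x => by linear_combination x * h2
  have hCL : L = C := by
    refine le_antisymm (fun b hb => hsnd 0 b ((hL' b).1 hb)) fun δ hδ => ?_
    have key : ∀ a b, a ∈ C → b ∈ C → b * (a + a ^ 2) ∈ L := fun a b ha hb => by
      have := padd _ _ _ _ (hg' (b * a) (hmulC b hb a ha)) (hprod a b ha hb)
      rw [hdbl, ← mul_add] at this
      exact (hL' _).2 this
    by_cases hex : ∃ a ∈ C, a + a ^ 2 ≠ 0
    · obtain ⟨a, ha, hne⟩ := hex
      have hz : a + a ^ 2 ∈ k₀ := add_mem (show a ∈ k₀ from ha) (pow_mem (show a ∈ k₀ from ha) 2)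
      have := key a (δ * (a + a ^ 2)⁻¹) ha (hmulC δ hδ _ (k₀.inv_mem hz))
      rwa [mul_assoc, inv_mul_cancel₀ hne, mul_one] at this
    · push Not at hex
      have h := hex δ hδ
      rcases mul_eq_zero.1 (show δ * (1 + δ) = 0 by linear_combination h) with h | h
      · rw [h]; exact L.zero_mem
      · rw [show δ = 1 by linear_combination h - h11]
        exact one_mem_params hD hone 7
  have hCS : S = C := by
    refine le_antisymm (fun a ha => ⟨0, (hS' a).1 ha⟩) fun a ha => (hS' a).2 ?_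
    have := padd _ _ _ _ (hg' a ha) ((hL' a).1 (hCL ▸ ha))
    rwa [add_zero, hdbl] at this
  refine ⟨hCS.trans hCL.symm, fun x hx y hy => ?_, fun a b h => ?_⟩
  · rw [hCL] at hx hy ⊢
    exact hmulC x hx y hy
  · rw [hCL]
    exact ⟨⟨b, h⟩, hsnd a b h⟩

theorem decided_B2 [Finite ↥G₀] : Decided DataB2.good G₀ 6 2 := by
  set hD := DataB2.good
  have n7 : (7 : ℕ) < chevB2.nroots := by decide
  obtain ⟨hSL, hmul⟩ : params hD G₀ 6 = params hD G₀ 7 ∧
      ∀ x ∈ params hD G₀ 7, ∀ y ∈ params hD G₀ 7, x * y ∈ params hD G₀ 7 := by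
    by_cases h2 : (2 : F) = 0
    · exact ⟨(b2_two hone h2).1, (b2_two hone h2).2.1⟩
    · exact b2_odd hone h2
  have hall : ∀ q < chevB2.nroots, params hD G₀ q = params hD G₀ 7 := fun q hq =>
    (cases_of_words hD rootsB2 hone wordsB2 hq).elim id fun e => e.trans hSL
  refine ⟨subfieldOf _ (finite_params hD n7) (one_mem_params hD hone _) hmul, finite_params hD n7,
    fun q hq t => ?_, fun h0 a b hab => ?_⟩
  · rw [← mem_params hD, hall q hq]; rfl
  · exact (b2_two hone (by exact_mod_cast h0)).2.2 a b hab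

end B2

/-! ### The seven types -/

/-- The special root and characteristic of each of the seven groups. -/
theorem decided {D : ChevalleyDatum} (hD : Good D)
    (hmem : D ∈ [chevG2, chevB2, chevD4, chevF4, chevE6, chevE7, chevE8])
    {G₀ : Subgroup (GL D.Idx F)} [Finite ↥G₀] (hone : ∀ r, xg hD F r 1 ∈ G₀) :
    (D = chevG2 ∧ Decided hD G₀ 9 3) ∨ (D = chevB2 ∧ Decided hD G₀ 6 2) ∨ (D = chevF4 ∧ Decided hD G₀ 44 2) ∨
      (D ∈ [chevD4, chevE6, chevE7, chevE8] ∧ Decided hD G₀ (D.nroots - 1) 1) := by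
  simp only [List.mem_cons, List.not_mem_nil, or_false] at hmem
  rcases hmem with rfl | rfl | rfl | rfl | rfl | rfl | rfl
  · exact Or.inl ⟨rfl, decided_G2 hone⟩
  · exact Or.inr (Or.inl ⟨rfl, decided_B2 hone⟩)
  · exact Or.inr (Or.inr (Or.inr ⟨by simp, decided_single hD rootsD4 hone wordsD4 (r := 14) (s := 22)
      (by decide) (by decide +kernel) (i := 1) (by decide)⟩))
  · exact Or.inr (Or.inr (Or.inl ⟨rfl, decided_F4 hone⟩))
  · exact Or.inr (Or.inr (Or.inr ⟨by simp, decided_single hD rootsE6 hone wordsE6 (r := 46) (s := 70)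
      (by decide) (by decide +kernel) (i := 1) (by decide)⟩))
  · exact Or.inr (Or.inr (Or.inr ⟨by simp, decided_single hD rootsE7 hone wordsE7 (r := 93) (s := 124)
      (by decide) (by decide +kernel) (i := 0) (by decide)⟩))
  · exact Or.inr (Or.inr (Or.inr ⟨by simp, decided_single hD rootsE8 hone wordsE8 (r := 120) (s := 238)
      (by decide) (by decide +kernel) (i := 7) (by decide)⟩))

end Cfsg.Agent.ChevOvergroup
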