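import Cfsg.Agent.Lib.Chev.SL2Hom
import Cfsg.Agent.Lib.ChevBN.Facts
import Cfsg.Agent.Lib.ChevBN.Parabolic
import Cfsg.Agent.Lib.ChevOrder.Weyl
import Cfsg.Agent.Lib.RankOne.GenFinite
import Cfsg.Agent.Lib.PSL2.Dihedral
import Mathlib.GroupTheory.SpecificGroups.Alternating
import Mathlib.FieldTheory.IntermediateField.Adjoin.Basic
import Mathlib.FieldTheory.IsAlgClosed.Basic

/-!
# Rank one groups

* `sl2Hom_injective`: `SL₂ → GL` of a positive root with some pairing equal to 1 is injective;
* `gen_cases`: a finite subgroup of `SL₂` over an algebraically closed field containing `x(k₀)` and `y(c)`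
  contains `x(c)`, unless `|k₀| = 3` and `c² = -1`.
-/

set_option autoImplicit false

namespace Cfsg.Agent.ChevOvergroup

open Cfsg.Lie Cfsg.Lie.ChevalleyDatum Cfsg.Agent.Chev Cfsg.Agent.ChevSt Cfsg.Agent.ChevBN Cfsg.Agent.Chev.RankOne
open Matrix
open scoped MatrixGroups

variable {D : ChevalleyDatum} {M : List (List ℤ)} {d : ℤ} {F : Type*} [Field F]

theorem sl2Hom_injective (hD : Good D) (hR : Roots D M d) {r s : ℕ} (hr : D.IsPosRoot r) (hs : s < D.nroots)
    (hp : D.pairing r s = 1) : Function.Injective (sl2Hom (F := F) hD hr.1) := by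
  rw [injective_iff_map_eq_one]
  intro g hg'
  have hdet := det_eq g
  have hneg : D.neg r < D.nroots := hD.neg_lt r hr.1
  have hxr : ∀ t : F, xg hD F r t = 1 → t = 0 := fun t h => by
    by_contra ht
    exact hD.neg_ne r hr.1 (ChevOrder.xg_eq_xg hD hr.1 hneg ht (b := 0) (by rw [h, xg_zero hD])).symm
  change phiE hD (r := r) (g.1 0 0) (g.1 0 1) (g.1 1 0) (g.1 1 1) = 1 at hg'
  by_cases hc : g.1 1 0 = 0
  · obtain ⟨ha, -⟩ := ne_zero_of_c g hc
    rw [hc, phiE_zero] at hg'
    set R := chevRGD hD hR F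
    have hU : xg hD F r (g.1 0 1 / g.1 0 0) ∈ D.posUnipotent F :=
      Subgroup.subset_closure ⟨r, _, hr, coe_xg hD _ _⟩
    have hH : hg hD F r (g.1 0 0) ∈ R.H := hg_mem_borel hD hr.1 ha
    have h1 : hg hD F r (g.1 0 0) ∈ R.Upos ⊓ R.H := Subgroup.mem_inf.2
      ⟨by rw [eq_inv_of_mul_eq_one_left hg', chev_Upos hD hR]; exact Subgroup.inv_mem _ hU, hH⟩
    rw [show R.Upos ⊓ R.H = ⊥ from R.U_inf_H, Subgroup.mem_bot] at h1
    rw [h1, one_mul] at hg'
    have hb : g.1 0 1 = 0 := by simpa [ha] using hxr _ hg'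
    have h2 := congrArg (fun x : GL D.Idx F => (x : Matrix D.Idx D.Idx F) *ᵥ ev D F s) h1
    simp only [coe_hg, hMat_ev hD hr.1 hs ha, hp, zpow_one, Units.val_one, Matrix.one_mulVec] at h2
    have ha1 : g.1 0 0 = 1 := by
      have h3 := congrFun h2 (Sum.inr ⟨s, hs⟩)
      simpa [ev, hs] using h3
    rw [hc, hb, ha1, mul_zero, sub_zero, one_mul] at hdet
    ext i j
    fin_cases i <;> fin_cases j <;> simp [hc, hb, ha1, hdet]
  · exfalso
    rw [phiE_ne hD _ _ hc] at hg'
    set u := g.1 0 0 / g.1 1 0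
    set v := -1 / g.1 1 0
    set w := g.1 1 1 / g.1 1 0
    have hv : v ≠ 0 := div_ne_zero (by simp) hc
    have e : xg hD F (D.neg r) (-v⁻¹) = xg hD F r (-u - w - v - v) := by
      rw [ng] at hg'
      calc xg hD F (D.neg r) (-v⁻¹)
          = (xg hD F r u * xg hD F r v)⁻¹ * (xg hD F r u * (xg hD F r v * xg hD F (D.neg r) (-v⁻¹) *
              xg hD F r v) * xg hD F r w) * (xg hD F r v * xg hD F r w)⁻¹ := by group
        _ = _ := by
          rw [hg', mul_one, xg_add hD hr.1, xg_add hD hr.1, xg_inv, xg_inv, xg_add hD hr.1]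
          congr 1
          ring
    exact hD.neg_ne r hr.1 (ChevOrder.xg_eq_xg hD hneg hr.1 (by simpa using hv) e)

/-- In `A₅` the image of `g` has order at most `5`, so the trace of `g` is restricted. -/
theorem trace_cases {L : Type*} [Field L] (h3 : (3 : L) = 0) {c : L}
    (n : ℕ) (hn : n = 2 ∨ n = 3 ∨ n = 5) {g : SL(2, L)}
    (hg : (g : Matrix (Fin 2) (Fin 2) L) = !![1 + c, 1; c, 1]) (hc : g ^ n ∈ Subgroup.center SL(2, L)) :
    (2 + c) ^ 3 = 2 + c ∨ (2 + c) ^ 4 = -1 := by
  obtain ⟨r, -, hr⟩ := Matrix.SpecialLinearGroup.mem_center_iff.1 hc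
  have h01 := congrFun (congrFun hr 0) 1
  rw [Matrix.SpecialLinearGroup.coe_pow, hg] at h01
  rcases hn with rfl | rfl | rfl <;>
    simp only [Matrix.scalar_apply, Matrix.diagonal_apply, pow_succ, pow_zero,
      Matrix.one_mul, Matrix.mul_fin_two, Matrix.of_apply, Matrix.cons_val', Matrix.cons_val_zero,
      Matrix.cons_val_one, Matrix.cons_val_fin_one, Matrix.empty_val', zero_ne_one, if_false] at h01
  · left; linear_combination -((2 + c) ^ 2 - 1) * h01
  · left; linear_combination -(2 + c) * h01
  · right; linear_combination -h01 + (2 + c) ^ 2 * h3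

open Cfsg.Agent.RankOne in
/-- A finite subgroup of `SL₂` containing `x(k₀)` and `y(k₀ c)` contains `x(c)`, unless `|k₀| = 3` and `c² = -1`. -/
theorem gen_cases {k : Type*} [Field k] (k₀ : Subfield k) [Finite k₀] (h2 : (2 : k) ≠ 0)
    (H : Subgroup SL(2, k)) [Finite H] (hx : ∀ t ∈ k₀, slX t ∈ H) {c : k} (hc : c ≠ 0)
    (hy : ∀ t ∈ k₀, slY (t * c) ∈ H) : slX c ∈ H ∨ (Nat.card k₀ = 3 ∧ c ^ 2 = -1) := by
  by_cases hck : c ∈ k₀
  · exact Or.inl (hx c hck)
  refine or_iff_not_imp_right.2 fun hex => ?_
  -- `c` is algebraic: an eigenvalue of `x(1) y(c)` is a root of unity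
  have hmem : slX 1 * slY c ∈ H := mul_mem (hx 1 k₀.one_mem) (by simpa using hy 1 k₀.one_mem)
  obtain ⟨n, hn, hgn⟩ := isOfFinOrder_iff_pow_eq_one.1 (isOfFinOrder_of_finite (⟨_, hmem⟩ : H))
  have hgn' : ((slX 1 * slY c : SL(2, k)) : Matrix (Fin 2) (Fin 2) k) ^ n = 1 := by
    simpa using congrArg (fun z : H => ((z : SL(2, k)) : Matrix (Fin 2) (Fin 2) k)) hgn
  have hint : IsIntegral k₀ c := by
    let K := AlgebraicClosure k
    let φ : k →+* K := algebraMap k K
    obtain ⟨lam, hlam⟩ := IsAlgClosed.exists_root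
      (Polynomial.X ^ 2 - Polynomial.C (2 + φ c) * Polynomial.X + Polynomial.C 1 : Polynomial K) (by
        rw [show (Polynomial.X ^ 2 - Polynomial.C (2 + φ c) * Polynomial.X + Polynomial.C 1 : Polynomial K).degree = 2 by
          compute_degree!]
        decide)
    simp only [Polynomial.IsRoot, Polynomial.eval_add, Polynomial.eval_sub, Polynomial.eval_mul, Polynomial.eval_pow,
      Polynomial.eval_C, Polynomial.eval_X] at hlam
    set A : Matrix (Fin 2) (Fin 2) K := ((slX 1 * slY c : SL(2, k)) : Matrix (Fin 2) (Fin 2) k).map φ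
    set w : Fin 2 → K := ![lam - 1, φ c]
    have hM : ((slX 1 * slY c : SL(2, k)) : Matrix (Fin 2) (Fin 2) k) = !![1 + c, 1; c, 1] := by
      show (slX (1 : k)).1 * (slY c).1 = _
      ext i j
      fin_cases i <;> fin_cases j <;> simp [slX, slY, Matrix.mul_apply, Fin.sum_univ_two]
    have hA : A *ᵥ w = lam • w := by
      ext i
      fin_cases i <;> simp [A, w, hM, Matrix.mulVec, dotProduct, Fin.sum_univ_two]
      · linear_combination -hlam
      · ring
    have hpow : ∀ m : ℕ, (A ^ m) *ᵥ w = lam ^ m • w := fun m => by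
      induction m with
      | zero => simp
      | succ m ih => rw [pow_succ', ← Matrix.mulVec_mulVec, ih, Matrix.mulVec_smul, hA, smul_smul, ← pow_succ]
    have hAn : A ^ n = 1 := by
      show (φ.mapMatrix _) ^ n = 1
      rw [← map_pow, hgn', map_one]
    have hl : lam ^ n = 1 := by
      have h := congrFun (hpow n) 1
      rw [hAn, Matrix.one_mulVec] at h
      have hφ : φ c ≠ 0 := by simpa using hc
      simpa [w, hφ] using h.symm
    have hli : IsIntegral k₀ lam := IsIntegral.of_pow hn (by rw [hl]; exact isIntegral_one)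
    have hl0 : lam ≠ 0 := fun h => by simp [h, zero_pow hn.ne'] at hl
    have e : φ c = lam + lam ^ (n - 1) - 2 := by
      have e1 : lam * lam ^ (n - 1) = 1 := by rw [← pow_succ', Nat.sub_add_cancel hn, hl]
      refine mul_left_cancel₀ hl0 ?_
      linear_combination -hlam - e1
    refine (isIntegral_algebraMap_iff φ.injective).1 (show IsIntegral k₀ (φ c) from ?_)
    rw [e]
    exact (hli.add (hli.pow _)).sub (by have h := isIntegral_algebraMap (R := k₀) (A := K) (x := (2 : k₀)); rwa [map_ofNat] at h)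
  set L := IntermediateField.adjoin k₀ ({c} : Set k)
  have := IntermediateField.adjoin.finiteDimensional hint
  have : Finite L := Module.finite_of_finite k₀
  let α : L := ⟨c, IntermediateField.mem_adjoin_simple_self k₀ c⟩
  have hk2 : ringChar k₀ ≠ 2 := fun e => h2 (by
    have h := ringChar.Nat.cast_ringChar (R := k₀)
    rw [e] at h
    have h' := congrArg (algebraMap k₀ k) h
    rw [map_natCast, map_zero] at h'
    exact_mod_cast h')
  let f : SL(2, L) →* SL(2, k) := Matrix.SpecialLinearGroup.map (L.val : L →+* k)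
  have hu : ∀ t : L, f (upSL t) = slX (t : k) := fun t => by
    apply Subtype.ext; ext i j
    fin_cases i <;> fin_cases j <;> simp [f, coe_upSL, slX]
  have hl : ∀ t : L, f (loSL t) = slY (t : k) := fun t => by
    apply Subtype.ext; ext i j
    fin_cases i <;> fin_cases j <;> simp [f, coe_loSL, slY]
  have hle : genPair k₀ α ≤ H.comap f := by
    rw [genPair, Subgroup.closure_le]
    rintro _ (⟨t, rfl⟩ | ⟨t, rfl⟩)
    · simp only [SetLike.mem_coe, Subgroup.mem_comap, hu]; exact hx _ t.2
    · simp only [SetLike.mem_coe, Subgroup.mem_comap, hl]; exact hy _ t.2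
  have hα0 : α ≠ 0 := fun e => hc (congrArg Subtype.val e)
  have htop : genPair k₀ α = ⊤ := by
    refine genPair_eq_top_of_finite_sixty hk2 (fun hcard => ⟨fun e => ?_⟩) hα0 fun R hR hc' => ?_
    · refine hex ⟨hcard, ?_⟩
      have h3 : (3 : L) = 0 := by
        have : Fintype k₀ := Fintype.ofFinite _
        have h := Nat.cast_card_eq_zero k₀
        rw [← Nat.card_eq_fintype_card, hcard] at h
        have h' := congrArg (algebraMap k₀ L) h
        rw [map_natCast, map_zero] at h'
        exact_mod_cast h'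
      have hv2 : ((2 : L) : k) = 2 := map_ofNat L.val 2
      have key : ∀ d : k₀, (2 + (algebraMap k₀ L d) * α) ^ 3 = 2 + (algebraMap k₀ L d) * α ∨
          (2 + (algebraMap k₀ L d) * α) ^ 4 = -1 := by
        intro d
        set g := upSL (algebraMap k₀ L 1) * loSL (algebraMap k₀ L d * α)
        have hgmem : g ∈ genPair k₀ α := mul_mem (upSL_mem_genPair α 1) (loSL_mem_genPair α d)
        have hg : (g : Matrix (Fin 2) (Fin 2) L) = !![1 + algebraMap k₀ L d * α, 1; algebraMap k₀ L d * α, 1] := by
          simp [g, coe_upSL, coe_loSL, Matrix.mul_fin_two]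
        set x : ↥((genPair k₀ α).map (QuotientGroup.mk' (Subgroup.center SL(2, L)))) :=
          ⟨_, Subgroup.mem_map_of_mem _ hgmem⟩
        have hn' : ∀ m : ℕ, e x ^ m = 1 → g ^ m ∈ Subgroup.center SL(2, L) := fun m hm => by
          rw [← map_pow, MulEquiv.map_eq_one_iff] at hm
          have h := congrArg Subtype.val hm
          simpa [x, ← QuotientGroup.eq_one_iff] using h
        rcases PSL2.altFive_orders (e x) with h | h | h
        · exact trace_cases h3 2 (by simp) hg (hn' 2 h)
        · exact trace_cases h3 3 (by simp) hg (hn' 3 h)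
        · exact trace_cases h3 5 (by simp) hg (hn' 5 h)
      have hcube : (c : k) ^ 3 ≠ c := fun h => hck (by
        have : c * (c - 1) * (c + 1) = 0 := by linear_combination h
        rcases mul_eq_zero.1 this with h' | h'
        · rcases mul_eq_zero.1 h' with h'' | h''
          · exact absurd h'' hc
          · rw [sub_eq_zero.1 h'']; exact k₀.one_mem
        · rw [eq_neg_of_add_eq_zero_left h']; exact neg_mem k₀.one_mem)
      have h1 := key 1
      have h1' := key (-1)
      simp only [map_one, map_neg, one_mul, neg_one_mul] at h1 h1'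
      have h1 : (2 + c) ^ 3 = 2 + c ∨ (2 + c) ^ 4 = -1 := by
        rcases h1 with h | h
        · exact Or.inl (by simpa [α, hv2] using congrArg Subtype.val h)
        · exact Or.inr (by simpa [α, hv2] using congrArg Subtype.val h)
      have h1' : (2 - c) ^ 3 = 2 - c ∨ (2 - c) ^ 4 = -1 := by
        rcases h1' with h | h
        · exact Or.inl (by simpa [α, hv2, ← sub_eq_add_neg] using congrArg Subtype.val h)
        · exact Or.inr (by simpa [α, hv2, ← sub_eq_add_neg] using congrArg Subtype.val h)
      have h3' : (3 : k) = 0 := (map_ofNat L.val 3).symm.trans ((congrArg L.val h3).trans (map_zero _))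
      have a1 := h1.resolve_left fun h => hcube (by linear_combination h - (2 * c ^ 2 + 4 * c + 2) * h3')
      have a2 := h1'.resolve_left fun h => hcube (by linear_combination -h + (2 * c ^ 2 - 4 * c + 2) * h3')
      refine mul_left_cancel₀ hc ?_
      linear_combination a1 - a2 - (5 * c ^ 3 + 21 * c) * h3'
    · refine eq_top_iff.2 fun x _ => ?_
      obtain ⟨x, hxL⟩ := x
      induction hxL using IntermediateField.adjoin_induction with
      | mem y hy => rw [Set.mem_singleton_iff] at hy; subst hy; exact hR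
      | algebraMap t => exact hc' t
      | add a b _ _ ha hb => exact add_mem (ha trivial) (hb trivial)
      | mul a b _ _ ha hb => exact mul_mem (ha trivial) (hb trivial)
      | inv a _ ha => exact inv_mem (ha trivial)
  have h := hle (htop.ge (Subgroup.mem_top (upSL α)))
  rw [Subgroup.mem_comap, hu] at h
  exact h

end Cfsg.Agent.ChevOvergroup
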