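import Cfsg.Agent.Lib.ChevOvergroup.Embedded
import Cfsg.Agent.Lib.ChevOvergroup.Coord
import Cfsg.Agent.Lib.ChevOvergroup.SLTwo
import Mathlib.RingTheory.IntegralDomain

/-!
# Odd characteristic: all elements of `G₀` are fixed

* `bad_form`: an unfixed element of `G₀` sends `X_θ` to an opposite root subgroup;
* `value_ok`: its coordinate at `-θ` is fixed, or squares to `-1` when three elements are fixed;
* `OddOK`, `all_fixed_odd`: moving along one simple root makes this impossible.
-/

set_option autoImplicit false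

namespace Cfsg.Agent.ChevOvergroup

open Cfsg.Lie Cfsg.Lie.ChevalleyDatum Cfsg.Agent.Chev Cfsg.Agent.ChevSt Cfsg.Agent.ChevBN Cfsg.Agent.ChevFixed
  Cfsg.Agent.ChevBlocks Cfsg.Agent.Chev.RankOne
open scoped Matrix MatrixGroups

/-- A string of length one through `-θ`, or one of length two with a second simple root fixing `-θ`. -/
def OddOK (D : ChevalleyDatum) (θ : ℕ) : Prop :=
  (∃ s < D.nroots, D.pairing θ s = 1) ∧
    ((∃ i τ M, ChainAt D i (D.neg θ) τ 0 M ∧ wN D i τ = D.neg θ) ∨
      ∃ i τ a₁ j a₂ M M₁ M₂, ChainAt D i (D.neg θ) τ 1 M ∧ wN D i τ = D.neg θ ∧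
        ChainAt D i (D.neg θ) a₁ 0 M₁ ∧ j < D.rank ∧ wN D j (D.neg θ) = D.neg θ ∧ wN D j a₂ = a₁ ∧
        RowFix D (D.neg (D.simple j)) (D.neg θ) ∧ RowOne D (D.neg (D.simple j)) a₁ a₂ M₂)

variable {D : ChevalleyDatum} {M : List (List ℤ)} {d : ℤ} {F : Type*} [Field F]

/-- The fixed field of `σ`. -/
def fixedField (σ : F →+* F) : Subfield F := σ.eqLocusField (RingHom.id F)

theorem mem_fixedField {σ : F →+* F} {t : F} : t ∈ fixedField σ ↔ σ t = t := Iff.rfl

variable (hD : Good D) (hR : Roots D M d)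

local notation "RR" => chevRGD hD hR F

include hD in
theorem fixedField_finite {σ : F →+* F} {G₀ : Subgroup (GL D.Idx F)} (hS : Setup hD σ G₀) {r : ℕ}
    (hr : r < D.nroots) : Finite ↥(fixedField σ) := by
  have := hS.fin
  refine Finite.of_injective (fun t : ↥(fixedField σ) => (⟨xg hD F r t.1, hS.gen (xg_mem_fixedGen hD σ r t.2)⟩ : G₀))
    fun a b h => Subtype.ext ?_
  have e : xg hD F r a.1 = xg hD F r b.1 := congrArg Subtype.val h
  by_contra hne
  have h1 : xg hD F r (a.1 - b.1) = xg hD F (D.neg r) 0 := by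
    rw [sub_eq_add_neg, ← xg_add hD hr, ← xg_inv, e, mul_inv_cancel, xg_zero]
  exact hD.neg_ne r hr (ChevOrder.xg_eq_xg hD hr (hD.neg_lt r hr) (sub_ne_zero.2 hne) h1).symm

variable {θ : Fin D.nroots} (hθ : D.IsPosRoot θ.val)
variable (hcent : ∀ q, D.IsPosRoot q → ∀ t u : F, xg hD F θ.val t * xg hD F q u = xg hD F q u * xg hD F θ.val t)
include hcent

theorem upos_commute {v : GL D.Idx F} (hv : v ∈ D.posUnipotent F) (t : F) :
    v * xg hD F θ.val t * v⁻¹ = xg hD F θ.val t := by
  have : v ∈ Subgroup.centralizer ({xg hD F θ.val t} : Set (GL D.Idx F)) := by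
    refine (Subgroup.closure_le _).2 ?_ hv
    rintro x ⟨r, u, hr, e⟩
    obtain rfl : x = xg hD F r u := Units.ext e
    exact Subgroup.mem_centralizer_singleton_iff.2 (hcent r hr t u).symm
  rw [Subgroup.mem_centralizer_singleton_iff.1 this, mul_inv_cancel_right]

variable (hCo : CorootOK D) {σ : F →+* F} {G₀ : Subgroup (GL D.Idx F)} (hS : Setup hD σ G₀)
variable (p : ℕ) [hp : Fact p.Prime] [CharP F p]
variable {o : ℕ → ℤ} (ho : OrdOK D o) (hmax : ∀ q < D.nroots, o q ≤ o θ.val)
include hR hθ hCo hS p ho hmax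

/-- An unfixed element sends `X_θ` to a conjugate of `X_{-θ}` under `U`. -/
theorem bad_form {g : GL D.Idx F} (hg : g ∈ G₀) (hgf : mapG D σ g ≠ g) :
    ∃ v ∈ D.posUnipotent F, ∃ c : F, c ≠ 0 ∧
      ((g : Matrix D.Idx D.Idx F) *ᵥ ev D F θ.val = c • ((v : Matrix D.Idx D.Idx F) *ᵥ ev D F (D.neg θ.val))) ∧
      ((g : Matrix D.Idx D.Idx F) *ᵥ ev D F θ.val) (Sum.inr ⟨D.neg θ.val, hD.neg_lt _ θ.isLt⟩) = c ∧
      ∀ t, g * xg hD F θ.val t * g⁻¹ = v * xg hD F (D.neg θ.val) (c * t) * v⁻¹ := by
  have hlin : IsLin D o := ⟨ho.add, ho.neg⟩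
  have hUT : ∀ x ∈ D.posUnipotent F, UTri D o (x : Matrix D.Idx D.Idx F) := fun x hx => by
    refine uTri_closure hD hlin (Subgroup.closure_mono ?_ hx)
    rintro y ⟨s, u, hs, e⟩
    exact ⟨s, u, hs.1, (ho.pos_iff s hs.1).1 hs, e⟩
  have hgG := hS.le hg
  rw [← chev_G hD hR] at hgG
  obtain ⟨b, hb, l, u, hu, e⟩ := (RR).exists_normalForm hgG
  have huU : u ∈ D.posUnipotent F := by rw [← chev_Upos hD hR]; exact (RR).Uminus_le_Upos l hu
  obtain ⟨v, hv, h, hh, rfl⟩ := (RR).exists_B hb
  rw [chev_Upos hD hR] at hv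
  obtain ⟨χ, hχ, hc⟩ := isToral_of_mem hD (show h ∈ D.diagonalSubgroup F from hh)
  obtain ⟨η, hη, hη1, hη2⟩ := nw_act hD hR (F := F) l θ
  set β := (RR).ww l θ with hβ
  have hconj : ∀ t, g * xg hD F θ.val t * g⁻¹ = v * xg hD F β.val ((χ β.val : F) * η * t) * v⁻¹ := fun t => by
    rw [e, show v * h * (RR).nw l * u * xg hD F θ.val t * (v * h * (RR).nw l * u)⁻¹ =
      v * h * ((RR).nw l * (u * xg hD F θ.val t * u⁻¹) * ((RR).nw l)⁻¹) * h⁻¹ * v⁻¹ by group,
      upos_commute hD hcent huU, hη2, mul_assoc v h, hc, mul_assoc, mul_assoc, mul_assoc]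
    group
  have hβeq : β.val = D.neg θ.val := by
    by_contra hne
    obtain ⟨f, hf, hf1, hf2⟩ : ∃ f, IsLin D f ∧ 0 < f θ.val ∧ 0 < f β.val := by
      by_cases h1 : β.val = θ.val
      · exact ⟨o, hlin, (ho.pos_iff _ θ.isLt).1 hθ, by rw [h1]; exact (ho.pos_iff _ θ.isLt).1 hθ⟩
      · exact exists_both_pos' hD hR θ.isLt β.isLt h1 hne
    refine not_pgroup hD hR p hCo hS (hS.gen (xg_mem_fixedGen hD σ θ.val (map_one σ))) (mapG_xg_one hD σ _)
      (x_one_ne_one hD θ.isLt)
      (mul_mem (mul_mem hg (hS.gen (xg_mem_fixedGen hD σ θ.val (map_one σ)))) (inv_mem hg))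
      (conj_not_fixed hD hR p hCo hS hθ hcent hg hgf) ?_
    refine ((isPGroup_of_pos hD p hf (K := Subgroup.closure {x : GL D.Idx F | ∃ (r : ℕ) (t : F),
      r < D.nroots ∧ 0 < f r ∧ (x : Matrix D.Idx D.Idx F) = D.x F r t}) le_rfl).map
        (MulAut.conj v).toMonoidHom).to_le ((Subgroup.closure_le _).2 ?_)
    rintro x (rfl | rfl)
    · refine ⟨xg hD F θ.val 1, Subgroup.subset_closure ⟨θ.val, 1, θ.isLt, hf1, coe_xg hD _ _⟩, ?_⟩
      exact upos_commute hD hcent hv 1
    · exact ⟨_, Subgroup.subset_closure ⟨β.val, _, β.isLt, hf2, coe_xg hD _ _⟩, (hconj 1).symm⟩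
  have hvec : (g : Matrix D.Idx D.Idx F) *ᵥ ev D F θ.val =
      ((χ β.val : F) * η) • ((v : Matrix D.Idx D.Idx F) *ᵥ ev D F (D.neg θ.val)) := by
    have h1 : (u : Matrix D.Idx D.Idx F) *ᵥ ev D F θ.val = ev D F θ.val := by
      rw [ev_of_lt D F θ.isLt, Matrix.mulVec_single_one]
      ext a
      by_cases ha : a = Sum.inr ⟨θ.val, θ.isLt⟩
      · subst ha; simp [(hUT u huU).2]
      · rw [Pi.single_eq_of_ne ha]
        by_contra h2
        rcases (hUT u huU).1 a _ h2 with h3 | h3
        · exact ha h3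
        · have hpos := (ho.pos_iff _ θ.isLt).1 hθ
          rcases a with i | q <;> simp [wt] at h3
          · omega
          · have := hmax q.val q.isLt; omega
    have h2 : (h : Matrix D.Idx D.Idx F) *ᵥ ev D F β.val = (χ β.val : F) • ev D F β.val := by
      rw [hχ, dg, ev_of_lt D F β.isLt]
      ext a
      simp [Matrix.mulVec_single_one, Matrix.diagonal_apply, Pi.single_apply]
    rw [e, Units.val_mul, ← Matrix.mulVec_mulVec, h1, Units.val_mul, ← Matrix.mulVec_mulVec, hη1, Units.val_mul,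
      Matrix.mulVec_smul, ← Matrix.mulVec_mulVec, h2, Matrix.mulVec_smul, smul_smul, mul_comm η, hβeq]
  refine ⟨v, hv, (χ β.val : F) * η, mul_ne_zero (Units.ne_zero _) hη, hvec, ?_, fun t => by rw [hconj, hβeq]⟩
  rw [hvec, Pi.smul_apply, ev_of_lt D F (hD.neg_lt _ θ.isLt), Matrix.mulVec_single_one]
  simp [(hUT v hv).2]

variable (hs : ∃ s < D.nroots, D.pairing θ.val s = 1) (h2 : (2 : F) ≠ 0)
include hs h2

/-- The coordinate at `-θ` of the translate of `e_θ` by an unfixed element. -/
theorem value_ok {g : GL D.Idx F} (hg : g ∈ G₀) (hgf : mapG D σ g ≠ g) {e : GL D.Idx F}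
    (he : e ∈ fixedGen hD σ) :
    let c := ((e : Matrix D.Idx D.Idx F) *ᵥ ((g : Matrix D.Idx D.Idx F) *ᵥ ev D F θ.val))
      (Sum.inr ⟨D.neg θ.val, hD.neg_lt _ θ.isLt⟩)
    c ≠ 0 ∧ (σ c = c ∨ (Nat.card ↥(fixedField σ) = 3 ∧ c ^ 2 = -1)) := by
  have hg' : e * g ∈ G₀ := mul_mem (hS.gen he) hg
  have hgf' : mapG D σ (e * g) ≠ e * g := fun h => hgf (by
    rwa [map_mul, fixedGen_fixed hD σ he, mul_right_inj] at h)
  obtain ⟨v, hv, c, hc, -, hcoord, hconj⟩ := bad_form hD hR hθ hcent hCo hS p ho hmax hg' hgf'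
  rw [Units.val_mul, ← Matrix.mulVec_mulVec] at hcoord
  simp only [hcoord]
  refine ⟨hc, ?_⟩
  have := hS.fin
  have := fixedField_finite hD hS θ.isLt
  obtain ⟨s, hs, hps⟩ := hs
  set φ := sl2Hom (F := F) hD hθ.1
  set H : Subgroup SL(2, F) := (G₀.comap (MulAut.conj v).toMonoidHom).comap φ
  have : Finite ↥H := by
    refine Finite.of_injective (fun y : H => (⟨MulAut.conj v (φ y.1), y.2⟩ : G₀)) fun a b h => Subtype.ext ?_
    exact sl2Hom_injective hD hR hθ hs hps ((MulAut.conj v).injective (congrArg Subtype.val h))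
  have hx : ∀ t ∈ fixedField σ, slX t ∈ H := fun t ht => by
    show v * φ (slX t) * v⁻¹ ∈ G₀
    rw [sl2Hom_slX, upos_commute hD hcent hv]
    exact hS.gen (xg_mem_fixedGen hD σ _ ht)
  have hy : ∀ t ∈ fixedField σ, slY (t * c) ∈ H := fun t ht => by
    show v * φ (slY (t * c)) * v⁻¹ ∈ G₀
    rw [sl2Hom_slY, mul_comm t, ← hconj]
    exact mul_mem (mul_mem hg' (hS.gen (xg_mem_fixedGen hD σ _ ht))) (inv_mem hg')
  rcases gen_cases (fixedField σ) h2 H hx hc hy with h | h
  · left
    have h1 : v * φ (slX c) * v⁻¹ ∈ G₀ := h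
    rw [sl2Hom_slX, upos_commute hD hcent hv] at h1
    have h3 := hS.pos _ h1 (Subgroup.subset_closure ⟨θ.val, c, hθ, coe_xg hD _ _⟩)
    rw [mapG_xg hD] at h3
    by_contra hne
    have h4 : xg hD F θ.val (σ c - c) = xg hD F (D.neg θ.val) 0 := by
      rw [sub_eq_add_neg, ← xg_add hD θ.isLt, ← xg_inv, h3, mul_inv_cancel, xg_zero]
    exact hD.neg_ne _ θ.isLt (ChevOrder.xg_eq_xg hD θ.isLt (hD.neg_lt _ θ.isLt) (sub_ne_zero.2 hne) h4).symm
  · exact Or.inr h

/-- A word in the Weyl representatives multiplies a coordinate by a fixed scalar. -/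
theorem fixed_coord (l : List (Fin D.rank)) (q : Fin D.nroots) :
    ∃ η : F, η ≠ 0 ∧ σ η = η ∧ ∀ w : D.Idx → F,
      (((RR).nw l : Matrix D.Idx D.Idx F) *ᵥ w) (Sum.inr ((RR).ww l q)) = η * w (Sum.inr q) := by
  obtain ⟨η, hη, h⟩ := nw_coord hD hR (F := F) l q
  refine ⟨η, hη, ?_, h⟩
  have h1 := h (ev D F q.val)
  rw [show ev D F q.val (Sum.inr q) = 1 by simp [ev], mul_one, ev_of_lt D F q.isLt, Matrix.mulVec_single_one] at h1
  have h2 := congrArg (fun x : GL D.Idx F => (x : Matrix D.Idx D.Idx F) (Sum.inr ((RR).ww l q)) (Sum.inr q))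
    (fixedGen_fixed hD σ (nw_mem_fixedGen hD hR σ l))
  simp only [coe_mapG, Matrix.map_apply] at h2
  rwa [show ((RR).nw l : Matrix D.Idx D.Idx F) (Sum.inr ((RR).ww l q)) (Sum.inr q) = η from h1] at h2

/-- With three fixed elements every admissible value has fourth power 1. -/
theorem pow_four {g : GL D.Idx F} (hg : g ∈ G₀) (hgf : mapG D σ g ≠ g) {e : GL D.Idx F}
    (he : e ∈ fixedGen hD σ) (h3 : Nat.card ↥(fixedField σ) = 3) :
    (((e : Matrix D.Idx D.Idx F) *ᵥ ((g : Matrix D.Idx D.Idx F) *ᵥ ev D F θ.val))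
      (Sum.inr ⟨D.neg θ.val, hD.neg_lt _ θ.isLt⟩)) ^ 4 = 1 := by
  obtain ⟨hne, h⟩ := value_ok hD hR hθ hcent hCo hS p ho hmax hs h2 hg hgf he
  rcases h with h | ⟨-, h⟩
  · have := fixedField_finite hD hS θ.isLt
    have := Fintype.ofFinite ↥(fixedField σ)
    have h4 := FiniteField.pow_card_sub_one_eq_one (⟨_, h⟩ : ↥(fixedField σ))
      (fun e => hne (congrArg Subtype.val e))
    rw [← Nat.card_eq_fintype_card, h3] at h4
    have h5 := congrArg (algebraMap ↥(fixedField σ) F) h4
    rw [map_pow, map_one] at h5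
    rw [pow_mul _ 2 2]
    exact (congrArg (· ^ 2) h5).trans (one_pow 2)
  · rw [pow_mul _ 2 2, h, neg_one_sq]

/-- In odd characteristic all elements of `G₀` are fixed. -/
theorem all_fixed_odd (hok : OddOK D θ.val) {g : GL D.Idx F} (hg : g ∈ G₀) : mapG D σ g = g := by
  classical
  obtain ⟨-, hok⟩ := hok
  have := fixedField_finite hD hS θ.isLt
  set k₀ := fixedField σ
  set nθ : Fin D.nroots := ⟨D.neg θ.val, hD.neg_lt _ θ.isLt⟩
  by_contra hgf
  have step : ∀ (g : GL D.Idx F), g ∈ G₀ → mapG D σ g ≠ g → ∀ (i : Fin D.rank), ∃ c s : F, c ≠ 0 ∧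
      (σ c = c ∨ Nat.card k₀ = 3) ∧ (Nat.card k₀ = 3 → c ^ 4 = 1) ∧
      ((g : Matrix D.Idx D.Idx F) *ᵥ ev D F θ.val) (Sum.inr nθ) = c ∧
      (∀ (a : Fin D.nroots) (m : ℤ), ChainAt D i.val nθ.val a.val 0 m →
        ((g : Matrix D.Idx D.Idx F) *ᵥ ev D F θ.val) (Sum.inr a) = c * ((m : F) * s)) ∧
      ∀ (τ : Fin D.nroots) (k : ℕ) (m : ℤ), ChainAt D i.val nθ.val τ.val k m → wN D i.val τ.val = nθ.val →
        ∀ t : F, σ t = t → (t + s) ≠ 0 ∧ (σ c = c → (Nat.card k₀ = 3 ∨ σ ((t + s) ^ (k + 1)) = (t + s) ^ (k + 1))) ∧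
          (Nat.card k₀ = 3 → ((t + s) ^ (k + 1)) ^ 4 = 1) := by
    intro g hg hgf i
    obtain ⟨v, hv, c, hc, hvec, hcoord, -⟩ := bad_form hD hR hθ hcent hCo hS p ho hmax hg hgf
    obtain ⟨s, hch⟩ := chain_coord hD hR (F := F) (i := i) (v := v) (by rw [chev_Upos hD hR]; exact hv)
    have hone : (((1 : GL D.Idx F)) : Matrix D.Idx D.Idx F) *ᵥ ((g : Matrix D.Idx D.Idx F) *ᵥ ev D F θ.val) =
        (g : Matrix D.Idx D.Idx F) *ᵥ ev D F θ.val := by rw [Units.val_one, Matrix.one_mulVec]
    have h1 := value_ok hD hR hθ hcent hCo hS p ho hmax hs h2 hg hgf (one_mem (fixedGen hD σ))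
    have h1' := pow_four hD hR hθ hcent hCo hS p ho hmax hs h2 hg hgf (one_mem (fixedGen hD σ))
    simp only [hone, hcoord] at h1 h1'
    refine ⟨c, s, hc, h1.2.imp id And.left, h1', hcoord, fun a m ha => ?_, fun τ k m hτ hw t ht => ?_⟩
    · have h := hch nθ a 0 m ha 0
      rw [xg_zero, one_mul, zero_add, pow_one] at h
      rw [hvec, Pi.smul_apply, h, smul_eq_mul]
    · obtain ⟨η, hη, hση, hn⟩ := fixed_coord hD hR hθ hcent hCo hS p ho hmax hs h2 [i] τ
      have hww : (RR).ww [i] τ = nθ := Fin.ext hw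
      rw [hww] at hn
      set e := (RR).nw [i] * xg hD F (D.simple i.val) t
      have he : e ∈ fixedGen hD σ := mul_mem (nw_mem_fixedGen hD hR σ _) (xg_mem_fixedGen hD σ _ ht)
      have hval : ((e : Matrix D.Idx D.Idx F) *ᵥ ((g : Matrix D.Idx D.Idx F) *ᵥ ev D F θ.val)) (Sum.inr nθ) =
          η * (c * ((m : F) * (t + s) ^ (k + 1))) := by
        rw [Units.val_mul, ← Matrix.mulVec_mulVec, hn, hvec, Matrix.mulVec_smul, Pi.smul_apply,
          Matrix.mulVec_mulVec, ← Units.val_mul, hch nθ τ k m hτ t, smul_eq_mul]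
      have hv1 := value_ok hD hR hθ hcent hCo hS p ho hmax hs h2 hg hgf he
      have hv2 := pow_four hD hR hθ hcent hCo hS p ho hmax hs h2 hg hgf he
      simp only [nθ] at hval
      simp only [hval] at hv1 hv2
      have hm : (m : F) * m = 1 := by exact_mod_cast congrArg (fun z : ℤ => (z : F)) hτ.2.2.2.2.2.2.1
      have hm0 : (m : F) ≠ 0 := left_ne_zero_of_mul_eq_one hm
      refine ⟨fun h0 => hv1.1 (by rw [h0, zero_pow (by omega), mul_zero, mul_zero, mul_zero]), fun hσc => ?_,
        fun h3 => ?_⟩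
      · rcases hv1.2 with h | ⟨h, -⟩
        · right
          rw [map_mul, hση, map_mul, hσc, map_mul, map_intCast] at h
          exact mul_left_cancel₀ hm0 (mul_left_cancel₀ hc (mul_left_cancel₀ hη h))
        · exact Or.inl h
      · have h4 := hv2 h3
        have e1 : η ^ 4 = 1 := by
          have := Fintype.ofFinite ↥k₀
          have h5 := congrArg (algebraMap ↥k₀ F) (FiniteField.pow_card_sub_one_eq_one (⟨η, hση⟩ : ↥k₀)
            (fun e => hη (congrArg Subtype.val e)))
          rw [← Nat.card_eq_fintype_card, h3, map_pow, map_one] at h5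
          rw [pow_mul _ 2 2]
          exact (congrArg (· ^ 2) h5).trans (one_pow 2)
        rwa [mul_pow, mul_pow, mul_pow, e1, h1' h3, show (m : F) ^ 4 = 1 by linear_combination ((m : F) * m + 1) * hm,
          one_mul, one_mul, one_mul] at h4
  have three : Nat.card k₀ = 3 → (3 : F) = 0 := fun h3 => by
    have := Fintype.ofFinite ↥k₀
    have h := congrArg (algebraMap ↥k₀ F) (Nat.cast_card_eq_zero ↥k₀)
    rw [← Nat.card_eq_fintype_card, h3, map_natCast, map_zero] at h
    exact_mod_cast h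
  rcases hok with ⟨i, τ, m, hch, hw⟩ | ⟨i, τ, a₁, j, a₂, m, m₁, m₂, hch, hw, hch₁, hj, hwj, hwja, hfix, hone⟩
  · obtain ⟨c, s, hc, hc1, hc4, -, -, hT⟩ := step g hg hgf ⟨i, hch.1⟩
    have hτ := hT ⟨τ, hch.2.2.1⟩ 0 m hch hw
    by_cases h3 : Nat.card k₀ = 3
    · have h3' := three h3
      have e0 := (hτ 0 (map_zero σ)).2.2 h3
      have e1 := (hτ 1 (map_one σ)).2.2 h3
      have e2 := (hτ (-1) (by simp)).2.2 h3
      simp only [zero_add, pow_one] at e0 e1 e2
      have hs0 : s ≠ 0 := fun h => by simp [h] at e0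
      have hsq : s ^ 2 = -1 := by
        refine mul_left_cancel₀ hs0 ?_
        linear_combination -(e1 - e2) + (3 * s ^ 3 + 3 * s) * h3'
      have key : (1 : F) + 1 = 0 := by
        linear_combination -e1 + (s ^ 2 + 4 * s + 5) * hsq + (-1) * h3'
      exact h2 (by linear_combination key)
    · have hσc := hc1.resolve_right h3
      have hs1 := ((hτ 0 (map_zero σ)).2.1 hσc).resolve_left h3
      simp only [zero_add, pow_one] at hs1
      exact (hτ (-s) (by rw [map_neg, hs1])).1 (neg_add_cancel s)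
  · obtain ⟨c, s, hc, hc1, hc4, -, -, hT⟩ := step g hg hgf ⟨i, hch.1⟩
    have hτ := hT ⟨τ, hch.2.2.1⟩ 1 m hch hw
    by_cases h3 : Nat.card k₀ = 3
    · -- the values `V a₁ / V (-θ)` along translates are eighth roots of unity different from `±1`
      let V : GL D.Idx F → D.Idx → F := fun e =>
        (e : Matrix D.Idx D.Idx F) *ᵥ ((g : Matrix D.Idx D.Idx F) *ᵥ ev D F θ.val)
      let A : Fin D.nroots := ⟨a₁, hch₁.2.2.1⟩
      let A₂ : Fin D.nroots := ⟨a₂, hone.2.2.1⟩
      set n₀ := ((g : Matrix D.Idx D.Idx F) *ᵥ ev D F θ.val) (Sum.inr nθ) with hn₀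
      have hm : ∀ m' : ℤ, m' * m' = 1 → ∀ x : F, ((m' : F) * x) = x ∨ (m' : F) * x = -x := fun m' h x => by
        rcases Int.eq_one_or_neg_one_of_mul_eq_one h with rfl | rfl <;> simp
      let S : Finset F := (Polynomial.nthRootsFinset 8 (1 : F)) \ {1, -1}
      have negS : ∀ x ∈ S, -x ∈ S := fun x hx => by
        simp only [S, Finset.mem_sdiff, Polynomial.mem_nthRootsFinset (show 0 < 8 by norm_num), Finset.mem_insert,
          Finset.mem_singleton] at hx ⊢
        exact ⟨by rw [← hx.1]; ring, fun h => hx.2 (h.elim (fun h => Or.inr (by rw [← h, neg_neg]))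
          (fun h => Or.inl (neg_injective h)))⟩
      have ratio : ∀ e ∈ fixedGen hD σ, V e (Sum.inr A) / V e (Sum.inr nθ) ∈ S := by
        intro e he
        have hgf' : mapG D σ (e * g) ≠ e * g := fun h => hgf (by
          rwa [map_mul, fixedGen_fixed hD σ he, mul_right_inj] at h)
        obtain ⟨c', s', hc', -, hc4', hn', hA', hT'⟩ := step _ (mul_mem (hS.gen he) hg) hgf' ⟨i, hch.1⟩
        rw [Units.val_mul, ← Matrix.mulVec_mulVec] at hn' hA'
        have hA'' := hA' A m₁ hch₁
        have hmem : s' ∈ S := by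
          simp only [S, Finset.mem_sdiff, Polynomial.mem_nthRootsFinset (show 0 < 8 by norm_num),
            Finset.mem_insert, Finset.mem_singleton]
          refine ⟨?_, ?_⟩
          · have h := ((hT' ⟨τ, hch.2.2.1⟩ 1 m hch hw) 0 (map_zero σ)).2.2 h3
            rw [zero_add] at h
            rw [← h]; ring
          · rintro (h | h)
            · exact ((hT' ⟨τ, hch.2.2.1⟩ 1 m hch hw) (-1) (by simp)).1 (by rw [h, neg_add_cancel])
            · exact ((hT' ⟨τ, hch.2.2.1⟩ 1 m hch hw) 1 (map_one σ)).1 (by rw [h, add_neg_cancel])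
        show _ / _ ∈ S
        simp only [V, hn', hA'', mul_div_cancel_left₀ _ hc']
        rcases hm m₁ hch₁.2.2.2.2.2.2.1 s' with h | h <;> rw [h]
        · exact hmem
        · exact negS _ hmem
      have hn0ne : n₀ ≠ 0 := by
        have := (value_ok hD hR hθ hcent hCo hS p ho hmax hs h2 hg hgf (one_mem (fixedGen hD σ))).1
        simpa using this
      set x₁ := ((g : Matrix D.Idx D.Idx F) *ᵥ ev D F θ.val) (Sum.inr A) / n₀ with hx₁
      set x₂ := ((g : Matrix D.Idx D.Idx F) *ᵥ ev D F θ.val) (Sum.inr A₂) / n₀ with hx₂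
      have r1 : x₁ ∈ S := by simpa [V, A, hx₁, hn₀] using ratio 1 (one_mem _)
      have r2 : x₂ ∈ S := by
        obtain ⟨η, hη, hση, hn⟩ := fixed_coord hD hR hθ hcent hCo hS p ho hmax hs h2 [⟨j, hj⟩] nθ
        obtain ⟨η', hη', hση', hn'⟩ := fixed_coord hD hR hθ hcent hCo hS p ho hmax hs h2 [⟨j, hj⟩] A₂
        rw [show (RR).ww [⟨j, hj⟩] nθ = nθ from Fin.ext hwj] at hn
        rw [show (RR).ww [⟨j, hj⟩] A₂ = A from Fin.ext hwja] at hn'
        have h := ratio _ (nw_mem_fixedGen hD hR σ [⟨j, hj⟩])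
        simp only [V, hn, hn'] at h
        rw [mul_div_mul_comm, ← hn₀, ← hx₂] at h
        have := Fintype.ofFinite ↥k₀
        have h5 := congrArg Subtype.val (FiniteField.pow_card_sub_one_eq_one (⟨η' / η, by
          rw [mem_fixedField, map_div₀, hση, hση']⟩ : ↥k₀) (fun e => div_ne_zero hη' hη (congrArg Subtype.val e)))
        rw [← Nat.card_eq_fintype_card, h3] at h5
        have h5' : (η' / η) ^ 2 = 1 := h5
        rcases sq_eq_one_iff.1 h5' with h6 | h6 <;> rw [h6] at h
        · rwa [one_mul] at h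
        · have := negS _ h; rwa [neg_one_mul, neg_neg] at this
      have r3 : ∀ t : F, σ t = t → x₁ + t * x₂ ∈ S := by
        intro t ht
        have hm₂ : (m₂ : F) * m₂ = 1 := by exact_mod_cast congrArg (fun z : ℤ => (z : F)) hone.2.2.2.2.2.2.2.1
        have hmt : σ ((m₂ : F) * t) = (m₂ : F) * t := by rw [map_mul, map_intCast, ht]
        have h := ratio _ (xg_mem_fixedGen hD σ (D.neg (D.simple j)) hmt)
        simp only [V] at h
        rw [show ((((xg hD F (D.neg (D.simple j)) ((m₂ : F) * t) : GL D.Idx F) : Matrix D.Idx D.Idx F) *ᵥ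
            ((g : Matrix D.Idx D.Idx F) *ᵥ ev D F θ.val)) (Sum.inr nθ)) = n₀ from row_fix hD hfix _ _,
          show ((((xg hD F (D.neg (D.simple j)) ((m₂ : F) * t) : GL D.Idx F) : Matrix D.Idx D.Idx F) *ᵥ
            ((g : Matrix D.Idx D.Idx F) *ᵥ ev D F θ.val)) (Sum.inr A)) = _ from row_one hD hone _ _] at h
        convert h using 1
        rw [hx₁, hx₂, ← mul_assoc, hm₂, one_mul]
        ring
      have r4 := r3 1 (map_one σ)
      have r5 := r3 (-1) (by simp)
      rw [one_mul] at r4
      rw [neg_one_mul] at r5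
      have h3' := three h3
      have hS0 : ∀ x ∈ S, x ≠ 0 := fun x hx h => by
        simp [S, h, Polynomial.mem_nthRootsFinset (show 0 < 8 by norm_num)] at hx
      let T : Finset F := {x₁, -x₁, x₂, -x₂, x₁ + x₂, -(x₁ + x₂), x₁ + -x₂, -(x₁ + -x₂)}
      have hTS : T ⊆ S := by
        intro x hx
        simp only [T, Finset.mem_insert, Finset.mem_singleton] at hx
        rcases hx with rfl | rfl | rfl | rfl | rfl | rfl | rfl | rfl <;>
          first | assumption | exact negS _ (by assumption)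
      have n1 := hS0 _ r1
      have n2 := hS0 _ r2
      have n4 := hS0 _ r4
      have n5 := hS0 _ r5
      have hTc : T.card = 8 := by
        have two : ∀ x : F, x + x = 0 → x = 0 := fun x h => by
          have : (2 : F) * x = 0 := by linear_combination h
          exact (mul_eq_zero.1 this).resolve_left h2
        rw [Finset.card_insert_of_notMem, Finset.card_insert_of_notMem, Finset.card_insert_of_notMem,
          Finset.card_insert_of_notMem, Finset.card_insert_of_notMem, Finset.card_insert_of_notMem,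
          Finset.card_insert_of_notMem, Finset.card_singleton] <;>
          simp only [Finset.mem_insert, Finset.mem_singleton, not_or]
        all_goals
          repeat' apply And.intro
        all_goals intro h
        all_goals first
          | exact n1 (by linear_combination h) | exact n1 (by linear_combination -h)
          | exact n2 (by linear_combination h) | exact n2 (by linear_combination -h)
          | exact n4 (by linear_combination h) | exact n4 (by linear_combination -h)
          | exact n5 (by linear_combination h) | exact n5 (by linear_combination -h)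
          | exact n1 (two _ (by linear_combination h)) | exact n1 (two _ (by linear_combination -h))
          | exact n2 (two _ (by linear_combination h)) | exact n2 (two _ (by linear_combination -h))
          | exact n4 (two _ (by linear_combination h)) | exact n4 (two _ (by linear_combination -h))
          | exact n5 (two _ (by linear_combination h)) | exact n5 (two _ (by linear_combination -h))
          | exact n1 (by linear_combination h + x₁ * h3') | exact n1 (by linear_combination -h + x₁ * h3')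
          | exact n2 (by linear_combination h + x₂ * h3') | exact n2 (by linear_combination -h + x₂ * h3')
          | exact n4 (by linear_combination h + (x₁ + x₂) * h3')
          | exact n4 (by linear_combination -h + (x₁ + x₂) * h3')
          | exact n4 (by linear_combination h + x₁ * h3') | exact n4 (by linear_combination -h + x₁ * h3')
          | exact n4 (by linear_combination h + x₂ * h3') | exact n4 (by linear_combination -h + x₂ * h3')
          | exact n5 (by linear_combination h + (x₁ - x₂) * h3')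
          | exact n5 (by linear_combination -h + (x₁ - x₂) * h3')
          | exact n5 (by linear_combination h + x₁ * h3') | exact n5 (by linear_combination -h + x₁ * h3')
          | exact n5 (by linear_combination h - x₂ * h3') | exact n5 (by linear_combination -h - x₂ * h3')
      have hS6 : S.card ≤ 6 := by
        have h8 : (Polynomial.nthRootsFinset 8 (1 : F)).card ≤ 8 := by
          rw [Polynomial.nthRootsFinset_def]
          exact (Multiset.toFinset_card_le _).trans (Polynomial.card_nthRoots 8 1)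
        have hne : (1 : F) ≠ -1 := fun h => h2 (by linear_combination h)
        rw [Finset.card_sdiff_of_subset (by
          intro x hx
          simp only [Finset.mem_insert, Finset.mem_singleton] at hx
          rcases hx with rfl | rfl <;> rw [Polynomial.mem_nthRootsFinset (show 0 < 8 by norm_num)] <;> norm_num),
          Finset.card_pair hne]
        omega
      have := Finset.card_le_card hTS
      omega
    · have hσc := hc1.resolve_right h3
      have q0 := ((hτ 0 (map_zero σ)).2.1 hσc).resolve_left h3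
      have q1 := ((hτ 1 (map_one σ)).2.1 hσc).resolve_left h3
      simp only [zero_add, map_pow, map_add, map_one] at q0 q1
      have hs1 : σ s = s := by
        refine mul_left_cancel₀ h2 ?_
        linear_combination q1 - q0
      exact (hτ (-s) (by rw [map_neg, hs1])).1 (neg_add_cancel s)

end Cfsg.Agent.ChevOvergroup
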