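import Cfsg.Agent.Lib.ChevOvergroup.Char2
import Cfsg.Agent.Lib.ChevOvergroup.OddChar
import Cfsg.Agent.Lib.ChevOvergroup.FieldParams
import Cfsg.Agent.Lib.ChevOvergroup.CentralTables
import Cfsg.Agent.Lib.ChevBN.Data
import Mathlib.FieldTheory.Finite.GaloisField
import Mathlib.FieldTheory.IsAlgClosed.Basic

/-!
# Finite overgroups of a Chevalley group over a finite subfield

* `exists_field_pow`: a finite subfield containing `{t | t ^ q = t}` is `{t | t ^ (q ^ r) = t}`;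
* `TypeData`: the table conditions of the seven groups;
* `overgroup_field`: a finite overgroup of the group over `q` elements lies between the points over `q ^ r`
  elements.
-/

set_option autoImplicit false
set_option maxRecDepth 100000
set_option synthInstance.maxSize 4000

namespace Cfsg.Agent.ChevOvergroup

open Cfsg.Lie Cfsg.Lie.ChevalleyDatum Cfsg.Agent.Chev Cfsg.Agent.ChevSt Cfsg.Agent.ChevBN Cfsg.Agent.ChevFixed
  Cfsg.Agent.ChevBlocks
open scoped Matrix

section Field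

variable {k : Type*} [Field k] [IsAlgClosed k] (p : ℕ) [hp : Fact p.Prime] [CharP k p]

theorem finite_pow_eq {m : ℕ} (hm : 1 < m) : {t : k | t ^ m = t}.Finite := by
  refine Set.Finite.subset (Polynomial.finite_setOf_isRoot (p := (Polynomial.X ^ m - Polynomial.X : Polynomial k)) ?_)
    fun t ht => ?_
  · exact FiniteField.X_pow_card_sub_X_ne_zero k hm
  · simpa [Polynomial.IsRoot, sub_eq_zero] using ht

theorem card_pow_eq {n : ℕ} (hn : 1 ≤ n) : Nat.card {t : k // t ^ (p ^ n) = t} = p ^ n := by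
  have hq1 : 1 < p ^ n := Nat.one_lt_pow (by omega) hp.out.one_lt
  set f : Polynomial k := Polynomial.X ^ (p ^ n) - Polynomial.X
  have hdeg : f.natDegree = p ^ n := FiniteField.X_pow_card_sub_X_natDegree_eq k hq1
  have hf0 : f ≠ 0 := FiniteField.X_pow_card_sub_X_ne_zero k hq1
  have hsep : f.Separable := galois_poly_separable p _ (dvd_pow_self p (by omega))
  have h := Polynomial.card_rootSet_eq_natDegree (K := k) hsep (by simpa using IsAlgClosed.splits f)
  rw [hdeg, ← Nat.card_eq_fintype_card] at h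
  refine Eq.trans ?_ h
  refine Nat.card_congr (Equiv.subtypeEquivRight fun t => ?_)
  rw [Polynomial.mem_rootSet_of_ne hf0]
  simp [f, sub_eq_zero]

theorem exists_field_pow (K₀ : Subfield k) [Finite K₀] {a : ℕ} (ha : 1 ≤ a)
    (hsub : ∀ t : k, t ^ (p ^ a) = t → t ∈ K₀) :
    ∃ r, 1 ≤ r ∧ ∀ t : k, t ∈ K₀ ↔ t ^ ((p ^ a) ^ r) = t := by
  have := Fintype.ofFinite K₀
  set q := p ^ a with hq
  have hq1 : 1 < q := Nat.one_lt_pow (by omega) hp.out.one_lt
  set K₁ : Subfield k := fixedField (iterateFrobenius k p a)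
  have hmem : ∀ t : k, t ∈ K₁ ↔ t ^ q = t := fun t => by
    rw [mem_fixedField, iterateFrobenius_def]
  have hle : K₁ ≤ K₀ := fun t ht => hsub t ((hmem t).1 ht)
  have : Finite K₁ := Finite.of_injective (Subfield.inclusion hle) (Subfield.inclusion hle).injective
  have := Fintype.ofFinite K₁
  have hK₁ : Fintype.card K₁ = q := by
    rw [← Nat.card_eq_fintype_card]
    exact (Nat.card_congr (Equiv.subtypeEquivRight hmem)).trans (card_pow_eq p ha)
  letI := (Subfield.inclusion hle).toAlgebra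
  refine ⟨Module.finrank K₁ K₀, Module.finrank_pos, fun t => ?_⟩
  have hcard : Fintype.card K₀ = q ^ Module.finrank K₁ K₀ := by
    rw [Module.card_eq_pow_finrank (K := K₁), hK₁]
  rw [← hcard]
  refine ⟨fun ht => ?_, fun ht => ?_⟩
  · exact congrArg Subtype.val (FiniteField.pow_card (⟨t, ht⟩ : K₀))
  · have h1 : 1 < Fintype.card K₀ := Fintype.one_lt_card
    have hfin := finite_pow_eq (k := k) h1
    have hsub' : (K₀ : Set k) ⊆ {t : k | t ^ Fintype.card K₀ = t} := fun x hx =>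
      congrArg Subtype.val (FiniteField.pow_card (⟨x, hx⟩ : K₀))
    have hle' : {t : k | t ^ Fintype.card K₀ = t}.ncard ≤ (K₀ : Set k).ncard := by
      rw [show (K₀ : Set k).ncard = Fintype.card K₀ by
        rw [← Nat.card_coe_set_eq, ← Nat.card_eq_fintype_card]; rfl]
      refine le_trans ?_ (le_of_eq (FiniteField.X_pow_card_sub_X_natDegree_eq k h1))
      refine le_trans ?_ (Polynomial.card_roots' _)
      classical
      refine le_trans ?_ (Multiset.toFinset_card_le _)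
      rw [Set.ncard_eq_toFinset_card _ hfin]
      refine Finset.card_le_card fun x hx => ?_
      rw [Set.Finite.mem_toFinset] at hx
      rw [Multiset.mem_toFinset, Polynomial.mem_roots (FiniteField.X_pow_card_sub_X_ne_zero k h1)]
      simpa [Polynomial.IsRoot, sub_eq_zero] using hx
    have := Set.eq_of_subset_of_ncard_le hsub' hle' hfin
    exact this.ge ht

theorem exists_sub_eq (n : ℕ) (τ : k) : ∃ t, iterateFrobenius k p (n + 1) t - t = τ := by
  have h1 : 1 < p ^ (n + 1) := Nat.one_lt_pow (by omega) hp.out.one_lt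
  obtain ⟨t, ht⟩ := IsAlgClosed.exists_root (Polynomial.X ^ p ^ (n + 1) - Polynomial.X - Polynomial.C τ : Polynomial k)
    (by
      rw [Polynomial.degree_sub_C (by
          rw [Polynomial.degree_eq_natDegree (FiniteField.X_pow_card_sub_X_ne_zero k h1),
            FiniteField.X_pow_card_sub_X_natDegree_eq k h1]
          exact_mod_cast zero_lt_one.trans h1),
        Polynomial.degree_eq_natDegree (FiniteField.X_pow_card_sub_X_ne_zero k h1),
        FiniteField.X_pow_card_sub_X_natDegree_eq k h1]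
      exact_mod_cast (zero_lt_one.trans h1).ne')
  refine ⟨t, sub_eq_zero.1 ?_⟩
  rw [iterateFrobenius_def]
  simpa [Polynomial.IsRoot] using ht

omit [IsAlgClosed k] in
theorem xg_inj {D : ChevalleyDatum} (hD : Good D) {s : ℕ} (hs : s < D.nroots) {b c : k}
    (h : xg hD k s b = xg hD k s c) : b = c := by
  by_contra hne
  have h1 : xg hD k s (b - c) = xg hD k (D.neg s) 0 := by
    rw [sub_eq_add_neg, ← xg_add hD hs, ← xg_inv, h, mul_inv_cancel, xg_zero]
  exact hD.neg_ne s hs (ChevOrder.xg_eq_xg hD hs (hD.neg_lt s hs) (sub_ne_zero.2 hne) h1).symm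

end Field

/-- The table conditions used in the proof. -/
structure TypeData (D : ChevalleyDatum) (s₀ p₀ : ℕ) : Prop where
  check : ZCheck D s₀ p₀
  simple_ne : ∀ i < D.rank, D.simple i ≠ s₀ ∧ D.simple i ≠ D.nroots - 1
  two : TwoOK D (D.nroots - 1)
  odd : OddOK D (D.nroots - 1)

theorem typeG2 : TypeData chevG2 9 3 :=
  ⟨zG2, by decide +kernel, Or.inl ⟨0, by decide, [0, 1, 5, 6, 10, 11], by decide +kernel⟩,
    ⟨⟨6, by decide +kernel⟩, Or.inl ⟨1, 1, -1, by decide +kernel⟩⟩⟩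

theorem typeB2 : TypeData chevB2 6 2 :=
  ⟨zB2, by decide +kernel, Or.inl ⟨0, by decide, [0, 3, 4, 7], by decide +kernel⟩,
    ⟨⟨6, by decide +kernel⟩, Or.inr ⟨0, 3, 1, 1, 2, -1, -1, -1, by decide +kernel⟩⟩⟩

theorem typeF4 : TypeData chevF4 44 2 :=
  ⟨zF4, by decide +kernel, Or.inr ⟨0, by decide, 2, by decide, by decide, by decide +kernel⟩,
    ⟨⟨24, by decide +kernel⟩, Or.inl ⟨3, 1, -1, by decide +kernel⟩⟩⟩

theorem typeD4 : TypeData chevD4 (chevD4.nroots - 1) 1 :=
  ⟨zD4, by decide +kernel, Or.inr ⟨0, by decide, 2, by decide, by decide, by decide +kernel⟩,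
    ⟨⟨14, by decide +kernel⟩, Or.inl ⟨1, 1, -1, by decide +kernel⟩⟩⟩

theorem typeE6 : TypeData chevE6 (chevE6.nroots - 1) 1 :=
  ⟨zE6, by decide +kernel, Or.inr ⟨0, by decide, 1, by decide, by decide, by decide +kernel⟩,
    ⟨⟨46, by decide +kernel⟩, Or.inl ⟨1, 1, -1, by decide +kernel⟩⟩⟩

theorem typeE7 : TypeData chevE7 (chevE7.nroots - 1) 1 :=
  ⟨zE7, by decide +kernel, Or.inr ⟨0, by decide, 1, by decide, by decide, by decide +kernel⟩,
    ⟨⟨93, by decide +kernel⟩, Or.inl ⟨0, 1, -1, by decide +kernel⟩⟩⟩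

theorem typeE8 : TypeData chevE8 (chevE8.nroots - 1) 1 :=
  ⟨zE8, by decide +kernel, Or.inr ⟨0, by decide, 1, by decide, by decide, by decide +kernel⟩,
    ⟨⟨120, by decide +kernel⟩, Or.inl ⟨7, 1, -1, by decide +kernel⟩⟩⟩

variable {k : Type*} [Field k] [IsAlgClosed k] (p : ℕ) [hp : Fact p.Prime] [CharP k p]

/-- A finite overgroup of the group over the field of `p ^ a` elements. -/
theorem overgroup_field {D : ChevalleyDatum}
    (hmem : D ∈ [chevG2, chevB2, chevD4, chevF4, chevE6, chevE7, chevE8]) {a : ℕ} (ha : 1 ≤ a)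
    {G₀ : Subgroup (GL D.Idx k)} [Finite ↥G₀] (hle : G₀ ≤ D.group k)
    (hsub : ∀ (s : ℕ) (t : k), t ^ (p ^ a) = t → xg (good_of_mem hmem) k s t ∈ G₀) :
    ∃ r, 1 ≤ r ∧ (∀ (s : ℕ) (t : k), t ^ ((p ^ a) ^ r) = t → xg (good_of_mem hmem) k s t ∈ G₀) ∧
      ∀ g ∈ G₀, ∀ i j : D.Idx, ((g : Matrix D.Idx D.Idx k) i j) ^ ((p ^ a) ^ r) = (g : Matrix D.Idx D.Idx k) i j := by
  set hD := good_of_mem hmem
  obtain ⟨M, d, hR⟩ := exists_roots D hmem
  obtain ⟨hCo, hA⟩ := tables_of_mem hmem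
  obtain ⟨-, ord, hord⟩ := conn_of_mem hmem
  have hone : ∀ r, xg hD k r 1 ∈ G₀ := fun r => hsub r 1 (one_pow _)
  obtain ⟨s₀, p₀, hT, k₀, hk₀, hiff, hspec⟩ : ∃ s₀ p₀, TypeData D s₀ p₀ ∧ Decided hD G₀ s₀ p₀ := by
    rcases decided hD hmem hone with ⟨rfl, h⟩ | ⟨rfl, h⟩ | ⟨rfl, h⟩ | ⟨hm, h⟩
    · exact ⟨_, _, typeG2, h⟩
    · exact ⟨_, _, typeB2, h⟩
    · exact ⟨_, _, typeF4, h⟩
    · simp only [List.mem_cons, List.not_mem_nil, or_false] at hm
      rcases hm with rfl | rfl | rfl | rfl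
      exacts [⟨_, _, typeD4, h⟩, ⟨_, _, typeE6, h⟩, ⟨_, _, typeE7, h⟩, ⟨_, _, typeE8, h⟩]
  obtain ⟨sp, hC, hsp⟩ := central_of_check hD hT.check (F := k)
  have h0 : 0 < D.nroots := Nat.lt_of_le_of_lt (Nat.zero_le _) hC.pos.1
  obtain ⟨o, ho, hmax, hθ, -⟩ := highest_facts hD h0
  have : Finite k₀ := hk₀.to_subtype
  obtain ⟨r, hr, hk⟩ := exists_field_pow p k₀ ha fun t ht => (hiff 0 h0 t).1 (hsub 0 t ht)
  obtain ⟨n, hn⟩ : ∃ n, a * r = n + 1 := Nat.exists_eq_succ_of_ne_zero (Nat.mul_ne_zero (by omega) (by omega))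
  set σ : k →+* k := iterateFrobenius k p (a * r) with hσ
  have hk' : ∀ t, σ t = t ↔ t ∈ k₀ := fun t => by
    rw [hk, hσ, iterateFrobenius_def, pow_mul]
  have hx : ∀ (s : ℕ) (t : k), t ∈ k₀ → xg hD k s t ∈ G₀ := fun s t ht => by
    by_cases hs : s < D.nroots
    · exact (hiff s hs t).2 ht
    · rw [xg_out hD hs]; exact one_mem _
  have hgen : fixedGen hD σ ≤ G₀ := by
    refine (Subgroup.closure_le _).2 ?_
    rintro _ ⟨s, t, ht, rfl⟩
    exact hx s t ((hk' t).1 ht)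
  have hAS : ∀ τ : k, ∃ t, σ t - t = τ := by
    rw [hσ, hn]; exact exists_sub_eq p n
  have hkill : ∀ b c, xg hD k sp b * xg hD k (D.nroots - 1) c ∈ G₀ →
      mapG D σ (xg hD k sp b * xg hD k (D.nroots - 1) c) = xg hD k sp b * xg hD k (D.nroots - 1) c := by
    intro b c hbc
    rcases hsp with rfl | ⟨rfl, hp0⟩
    · rw [xg_add hD hθ.1] at hbc ⊢
      rw [mapG_xg hD, (hk' _).2 ((hiff _ hθ.1 _).1 hbc)]
    · obtain ⟨hb, hc⟩ := hspec hp0 b c hbc
      rw [map_mul, mapG_xg hD, mapG_xg hD, (hk' _).2 hb, (hk' _).2 hc]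
  have hpos : ∀ u ∈ G₀, u ∈ D.posUnipotent k → mapG D σ u = u := fun u hu huU =>
    rational_pos hD σ hgen hC hAS hkill hu huU
  have hz : ∀ i < D.rank, D.simple i ≠ sp ∧ D.simple i ≠ D.nroots - 1 := fun i hi => by
    rcases hsp with rfl | ⟨rfl, -⟩
    · exact ⟨(hT.simple_ne i hi).2, (hT.simple_ne i hi).2⟩
    · exact hT.simple_ne i hi
  have hborel : ∀ b ∈ G₀, b ∈ D.borelSubgroup k → mapG D σ b = b := fun b hb hbB =>
    rational_borel hD σ hR hle hgen hpos hC hCo hz hb hbB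
  have hS : Setup hD σ G₀ := ⟨inferInstance, hle, hgen, hpos, hborel, fun J hJ g hg hgP =>
    rational_parabolic hD hR σ hA hCo hord hJ hle hgen hpos hborel hg hgP⟩
  have hcent : ∀ q, D.IsPosRoot q → ∀ t u : k,
      xg hD k (D.nroots - 1) t * xg hD k q u = xg hD k q u * xg hD k (D.nroots - 1) t := fun q hq =>
    highest_commute hD hθ.1 ho hmax hθ hq.1 hq
  have hfix : ∀ g ∈ G₀, mapG D σ g = g := by
    intro g hg
    by_cases hp2 : p = 2
    · subst hp2
      exact all_fixed_two hD hR hCo hS hθ hcent hT.two hg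
    · have h2 : (2 : k) ≠ 0 := fun h => hp2 (by
        have h' : ((2 : ℕ) : k) = 0 := by exact_mod_cast h
        exact (Nat.prime_dvd_prime_iff_eq hp.out Nat.prime_two).1 ((CharP.cast_eq_zero_iff k p 2).1 h'))
      exact all_fixed_odd hD hR (θ := ⟨D.nroots - 1, hθ.1⟩) hθ hcent hCo hS p ho hmax hT.odd.1 h2 hT.odd hg
  refine ⟨r, hr, fun s t ht => hx s t ((hk t).2 ht), fun g hg i j => ?_⟩
  have h := congrArg (fun x : GL D.Idx k => (x : Matrix D.Idx D.Idx k) i j) (hfix g hg)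
  simpa [coe_mapG, hσ, iterateFrobenius_def, pow_mul] using h

end Cfsg.Agent.ChevOvergroup
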