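import Cfsg.Agent.Lib.ChevOvergroup.Rational
import Cfsg.Agent.Lib.ChevParabolic.Constrained

/-!
# Fixed points in `M ∩ P_J`

* `exists_borel_mul`: if `σ g ∈ B g` then `g ∈ B e` with `e` generated by fixed root elements;
* `mem_borel_of_commute_radical`: an element of `P_J` commuting with the `x_r(1)` of the radical lies in `B`;
* `rational_parabolic`: `M ∩ P_J` is fixed by `σ` for a proper `J`.
-/

set_option autoImplicit false

namespace Cfsg.Agent.ChevOvergroup

open Cfsg.Lie Cfsg.Lie.ChevalleyDatum Cfsg.Agent.Chev Cfsg.Agent.ChevSt Cfsg.Agent.ChevBN Cfsg.Agent.ChevFixed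
  Cfsg.Agent.ChevBlocks Cfsg.Agent.ChevParabolic
open scoped Matrix

variable {D : ChevalleyDatum} {M : List (List ℤ)} {d : ℤ} {F : Type*} [Field F] (hD : Good D) (hR : Roots D M d)
  (σ : F →+* F)

local notation "RR" => chevRGD hD hR F

include hD

theorem mapG_parabolic (J : Set ℕ) {g : GL D.Idx F} (hg : g ∈ D.parabolicSubgroup F J) :
    mapG D σ g ∈ D.parabolicSubgroup F J := by
  have h : (D.parabolicSubgroup F J).map (mapG D σ) ≤ D.parabolicSubgroup F J := by
    rw [ChevalleyDatum.parabolicSubgroup, Subgroup.map_sup, MonoidHom.map_closure]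
    refine sup_le_sup ?_ ((Subgroup.closure_le _).2 ?_)
    · rintro _ ⟨x, hx, rfl⟩
      exact mapG_borel hD σ hx
    · rintro _ ⟨x, ⟨j, hjJ, hj, e⟩, rfl⟩
      obtain rfl : x = ng hD F (D.simple j) 1 := Units.ext (e.trans (coe_ng hD _ _).symm)
      rw [mapG_ng hD, map_one]
      exact Subgroup.subset_closure ⟨j, hjJ, hj, coe_ng hD _ _⟩
  exact h ⟨g, hg, rfl⟩

include hR

theorem nw_mem_fixedGen (l : List (Fin D.rank)) : (RR).nw l ∈ fixedGen hD σ :=
  list_prod_mem fun x hx => by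
    obtain ⟨i, -, rfl⟩ := List.mem_map.1 hx
    exact ng_mem_fixedGen hD σ _

theorem mapG_span_le (A : Set (Fin D.nroots)) {y : GL D.Idx F} (hy : y ∈ (RR).span A) :
    mapG D σ y ∈ (RR).span A := by
  have h : ((RR).span A).map (mapG D σ) ≤ (RR).span A := by
    rw [Subgroup.map_le_iff_le_comap]
    refine (RR).span_le fun r hr x hx => ?_
    obtain ⟨t, rfl⟩ := (mem_rootSubgroup hD _).1 hx
    rw [Subgroup.mem_comap, mapG_xg hD]
    exact (RR).U_le_span hr (xg_mem_rootSubgroup hD _ _)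
  exact h ⟨y, hy, rfl⟩

/-- `σ g ∈ B g` forces `g ∈ B · fixedGen`. -/
theorem exists_borel_mul {g β : GL D.Idx F} (hg : g ∈ D.group F) (hβ : β ∈ D.borelSubgroup F)
    (h : mapG D σ g = β * g) :
    ∃ b ∈ D.borelSubgroup F, ∃ e ∈ fixedGen hD σ, g = b * e := by
  rw [← chev_G hD hR] at hg
  obtain ⟨b, hb, l, u, hu, rfl⟩ := (RR).exists_normalForm hg
  have hn := nw_mem_fixedGen hD hR σ l
  rw [map_mul, map_mul, fixedGen_fixed hD σ hn, ← mul_assoc, ← mul_assoc] at h
  obtain ⟨-, huf⟩ := (RR).normalForm_unique (one_mem _) (one_mul _).symm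
    (show mapG D σ b ∈ (RR).B by
      rw [chev_B hD hR] at hb ⊢
      exact mapG_borel hD σ hb)
    (mul_mem (show β ∈ (RR).B by rw [chev_B hD hR]; exact hβ) hb) (mapG_span_le hD hR σ _ hu) hu h
  have huU : u ∈ D.posUnipotent F := chev_Upos hD hR (F := F) ▸ (RR).Uminus_le_Upos l hu
  exact ⟨b, chev_B hD hR (F := F) ▸ hb, _, mul_mem hn (fixed_pos_mem hD σ huU huf), by group⟩

variable (hA : AdjOK D) (hC : CorootOK D) {ord : List ℕ} (hord : ConnOK D ord)
  {J : Set ℕ} (hJ : ∃ i, i < D.rank ∧ i ∉ J)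
include hA hC hord hJ

omit σ in
/-- An element of `P_J` commuting with the unit root elements of the radical lies in `B`. -/
theorem mem_borel_of_commute_radical {g : GL D.Idx F} (hg : g ∈ D.parabolicSubgroup F J)
    (hc : ∀ r, D.IsPosRoot r → ¬ D.InRootSub J r → g * xg hD F r 1 = xg hD F r 1 * g) :
    g ∈ D.borelSubgroup F := by
  classical
  obtain ⟨o, ho⟩ := hD.order
  have hBP : D.borelSubgroup F ≤ D.parabolicSubgroup F J := le_sup_left
  have hgG : g ∈ (RR).G := by rw [chev_G hD hR]; exact parabolic_le_group hD hR J hg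
  obtain ⟨b, hb, l, u, hu, rfl⟩ := (RR).exists_normalForm hgG
  have hbB : b ∈ D.borelSubgroup F := chev_B hD hR (F := F) ▸ hb
  have huB : u ∈ D.borelSubgroup F := chev_B hD hR (F := F) ▸ (RR).Upos_le_B ((RR).Uminus_le_Upos l hu)
  have huU : u ∈ D.posUnipotent F := chev_Upos hD hR (F := F) ▸ (RR).Uminus_le_Upos l hu
  set rad := (Finset.univ : Finset (Fin D.nroots)).filter fun q => D.IsPosRoot q.val ∧ ¬ D.InRootSub J q.val
  have hq : ∀ r ∈ rad, (RR).ww l.reverse r ∈ rad ∧ o r.val ≤ o ((RR).ww l.reverse r).val := by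
    intro r hr
    obtain ⟨hr1, hr2⟩ := (Finset.mem_filter.1 hr).2
    set q := (RR).ww l.reverse r
    have hwq : (RR).ww l q = r := (RR).ww_ww_reverse l r
    set Y := u * xg hD F r.val 1 * u⁻¹ with hY
    have e : (RR).nw l * Y * ((RR).nw l)⁻¹ = b⁻¹ * xg hD F r.val 1 * b := by
      calc (RR).nw l * Y * ((RR).nw l)⁻¹
          = b⁻¹ * (b * (RR).nw l * u * xg hD F r.val 1) * (b * (RR).nw l * u)⁻¹ * b := by rw [hY]; group
        _ = _ := by rw [hc r.val hr1 hr2]; group
    obtain ⟨v, hv, h, hh, eb⟩ := (RR).exists_B (inv_mem hb)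
    have hvU : v ∈ D.posUnipotent F := chev_Upos hD hR (F := F) ▸ hv
    obtain ⟨χ, -, hconj⟩ := isToral_of_mem hD (show h ∈ D.diagonalSubgroup F from hh)
    have e2 : b⁻¹ * xg hD F r.val 1 * b = v * xg hD F r.val ((χ r.val : F) * 1) * v⁻¹ := by
      rw [show b⁻¹ * xg hD F r.val 1 * b = b⁻¹ * xg hD F r.val 1 * b⁻¹⁻¹ by group, eb,
        show v * h * xg hD F r.val 1 * (v * h)⁻¹ = v * (h * xg hD F r.val 1 * h⁻¹) * v⁻¹ by group, hconj,
        mul_inv_cancel_right]
    obtain ⟨i, hi, hne⟩ := coroot_ne_zero hC hr1.1 F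
    have h1 := lead_entry hD hR hvU hr1 ((χ r.val : F) * 1) ⟨i, hi⟩
    rw [← e2, ← e] at h1
    have hne' : (((D.coroot.getD r.val #[]).getD i 0 : ℤ) : F) * ((χ r.val : F) * 1) ≠ 0 :=
      mul_ne_zero hne (by simp)
    rw [← h1] at hne'
    obtain ⟨j, hj⟩ := entry_conj hD hR l Y q ⟨i, hi⟩ (by
      have e3 : (⟨D.neg ((RR).ww l q).val, hD.neg_lt _ (Fin.isLt _)⟩ : Fin D.nroots) =
          ⟨D.neg r.val, hD.neg_lt r.val r.isLt⟩ := Fin.ext (by simp only [hwq])
      rw [e3]
      exact hne')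
    refine ⟨?_, jump_conj hD ho huU hr1 1 j q hj⟩
    have hYR : Y ∈ D.unipotentRadical F J :=
      (Subgroup.mem_normalizer_iff.1 (parabolic_le_normalizer hD hR J (hBP huB)) _).1
        (Subgroup.subset_closure ⟨r.val, 1, hr1, hr2, coe_xg hD _ _⟩)
    have hYt : UTri D (outside D M J) (Y : Matrix D.Idx D.Idx F) := by
      refine uTri_closure hD (isLin_outside hD J) (Subgroup.closure_mono ?_ hYR)
      rintro y ⟨s, t, hs, hsJ, es⟩
      exact ⟨s, t, hs.1, outside_pos hD hR hs hsJ, es⟩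
    have hpos : 0 < outside D M J q.val := by
      rcases hYt.1 _ _ hj with e | e
      · simp at e
      · simp [wt, (isLin_outside hD J (M := M)).neg q.val q.isLt] at e
        exact e
    exact Finset.mem_filter.2 ⟨Finset.mem_univ _, pos_of_outside hD hR q.isLt hpos⟩
  have hinj : Function.Injective ((RR).ww l.reverse) :=
    Function.LeftInverse.injective (g := (RR).ww l) ((RR).ww_ww_reverse l)
  have himg : rad.image ((RR).ww l.reverse) = rad :=
    Finset.eq_of_subset_of_card_le (Finset.image_subset_iff.2 fun r hr => (hq r hr).1)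
      (Finset.card_image_of_injective _ hinj).ge
  have hsum : ∑ r ∈ rad, o r.val = ∑ r ∈ rad, o ((RR).ww l.reverse r).val := by
    conv_lhs => rw [← himg, Finset.sum_image fun _ _ _ _ h => hinj h]
  have heq : ∀ r ∈ rad, (RR).ww l r = r := by
    intro r hr
    have h1 : o r.val = o ((RR).ww l.reverse r).val :=
      (Finset.sum_eq_sum_iff_of_le fun r hr => (hq r hr).2).1 hsum r hr
    have h2 : r.val = ((RR).ww l.reverse r).val := by
      rcases Nat.lt_trichotomy r.val ((RR).ww l.reverse r).val with h | h | h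
      · have := ho.mono _ r.isLt _ ((RR).ww l.reverse r).isLt h; omega
      · exact h
      · have := ho.mono _ ((RR).ww l.reverse r).isLt _ r.isLt h; omega
    conv_lhs => rw [Fin.ext h2]
    exact (RR).ww_ww_reverse l r
  have hnH := nw_mem_H_of_fix hD hR hA hord hJ l fun q hq' hqJ =>
    heq q (Finset.mem_filter.2 ⟨Finset.mem_univ _, hq', hqJ⟩)
  exact mul_mem (mul_mem hbB (Subgroup.mem_sup_right hnH)) huB

/-- `M ∩ P_J` is fixed. -/
theorem rational_parabolic {Mg : Subgroup (GL D.Idx F)} (hMG : Mg ≤ D.group F) (hgen : fixedGen hD σ ≤ Mg)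
    (hU : ∀ u ∈ Mg, u ∈ D.posUnipotent F → mapG D σ u = u)
    (hB : ∀ b ∈ Mg, b ∈ D.borelSubgroup F → mapG D σ b = b)
    {g : GL D.Idx F} (hg : g ∈ Mg) (hgP : g ∈ D.parabolicSubgroup F J) : mapG D σ g = g := by
  have hc : g⁻¹ * mapG D σ g ∈ D.borelSubgroup F := by
    refine mem_borel_of_commute_radical hD hR hA hC hord hJ
      (mul_mem (inv_mem hgP) (mapG_parabolic hD σ J hgP)) fun r hr hrJ => ?_
    refine commute_of_conj_eq hD σ (mapG_xg_one hD σ r) (hU _ (mul_mem (mul_mem hg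
      (hgen (xg_mem_fixedGen hD σ r (map_one σ)))) (inv_mem hg)) ?_)
    refine (?_ : D.unipotentRadical F J ≤ D.posUnipotent F)
      ((Subgroup.mem_normalizer_iff.1 (parabolic_le_normalizer hD hR J hgP) _).1
        (Subgroup.subset_closure ⟨r, 1, hr, hrJ, coe_xg hD _ _⟩))
    refine (Subgroup.closure_le _).2 ?_
    rintro y ⟨q, t, hq, -, e⟩
    exact Subgroup.subset_closure ⟨q, t, hq, e⟩
  obtain ⟨b, hb, e, he, eg⟩ := exists_borel_mul hD hR σ (inv_mem (hMG hg)) (inv_mem hc) (by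
    rw [map_inv]; group)
  have hbM : b ∈ Mg := by
    rw [show b = g⁻¹ * e⁻¹ by rw [eg]; group]
    exact mul_mem (inv_mem hg) (inv_mem (hgen he))
  refine mapG_inv_fixed σ ?_
  rw [eg, map_mul, hB b hbM hb, fixedGen_fixed hD σ he]

end Cfsg.Agent.ChevOvergroup
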