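import Cfsg.Agent.Lib.ChevBN.Facts
import Cfsg.Agent.Lib.ChevOrder.CardU
import Cfsg.Agent.Lib.ChevOrder.Weyl
import Mathlib.Data.Set.Card

/-!
# The parameters of the root elements in a subgroup

For a subgroup `G₀` containing all `x_r(1)`:

* `params`: the additive group of `t` with `x_r(t) ∈ G₀`; invariant under reflections and negation;
* `word_mem`: commutator words of parameters lie in `G₀`;
* `subfieldOf`: a finite additive group containing 1 closed under products is a subfield.
-/

set_option autoImplicit false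

namespace Cfsg.Agent.ChevOvergroup

open Cfsg.Lie Cfsg.Lie.ChevalleyDatum Cfsg.Agent.Chev Cfsg.Agent.ChevSt Cfsg.Agent.ChevBN

variable {D : ChevalleyDatum} (hD : Good D) {F : Type*} [Field F] (G₀ : Subgroup (GL D.Idx F))

/-- The parameters of `x_r` inside `G₀`. -/
def params (r : ℕ) : AddSubgroup F where
  carrier := {t | xg hD F r t ∈ G₀}
  zero_mem' := by simp [xg_zero hD]
  add_mem' {a b} ha hb := by
    simp only [Set.mem_setOf_eq] at ha hb ⊢
    by_cases hr : r < D.nroots
    · rw [← xg_add hD hr]; exact mul_mem ha hb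
    · rw [xg_out hD hr]; exact one_mem _
  neg_mem' {a} ha := by
    simp only [Set.mem_setOf_eq] at ha ⊢
    rw [← xg_inv]; exact inv_mem ha

variable {G₀}

theorem mem_params {r : ℕ} {t : F} : t ∈ params hD G₀ r ↔ xg hD F r t ∈ G₀ := Iff.rfl

theorem finite_params [Finite ↥G₀] {r : ℕ} (hr : r < D.nroots) : (params hD G₀ r : Set F).Finite := by
  have : Finite ↥(params hD G₀ r) := Finite.of_injective
    (fun t : ↥(params hD G₀ r) => (⟨xg hD F r t.1, t.2⟩ : ↥G₀)) fun a b e => by
      have e' := congrArg Subtype.val e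
      simp only at e'
      have h : xg hD F r (a.1 + -b.1) = 1 := by rw [← xg_add hD hr, e', xg_add hD hr, add_neg_cancel, xg_zero]
      exact Subtype.ext (by linear_combination xg_eq_one hD hr h)
  exact Set.toFinite _

variable (hone : ∀ r, xg hD F r 1 ∈ G₀)
include hone

theorem one_mem_params (r : ℕ) : (1 : F) ∈ params hD G₀ r := hone r

theorem ng_one_mem (r : ℕ) : ng hD F r 1 ∈ G₀ := by
  rw [ng, inv_one]
  exact mul_mem (mul_mem (hone r) (by rw [← xg_inv]; exact inv_mem (hone _))) (hone r)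

theorem params_wN {i r : ℕ} (hi : i < D.rank) (hr : r < D.nroots) :
    params hD G₀ (wN D i r) = params hD G₀ r := by
  have key : ∀ s, s < D.nroots → params hD G₀ s ≤ params hD G₀ (wN D i s) := by
    intro s hs t ht
    have hn := ng_one_mem hD hone (D.simple i)
    have h : xg hD F (wN D i s) ((nSign D (D.simple i) s : F) * t) ∈ G₀ := by
      rw [← ng_conj_xg hD hi hs]
      exact mul_mem (mul_mem hn ht) (inv_mem hn)
    rcases (nSign_cases hD (hD.simple_lt i hi) hs).1 with e | e <;> rw [e] at h <;> push_cast at h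
    · rwa [one_mul] at h
    · rw [neg_one_mul, ← xg_inv] at h
      exact (mem_params hD).2 ((Subgroup.inv_mem_iff _).1 h)
  refine le_antisymm ?_ (key r hr)
  have h : params hD G₀ (wN D i r) ≤ params hD G₀ (wN D i (wN D i r)) :=
    key _ (refl_lt hD (hD.simple_lt i hi) hr)
  rw [show wN D i (wN D i r) = r from refl_refl hD (hD.simple_lt i hi) hr] at h
  exact h

theorem params_foldr {src : ℕ} (hsrc : src < D.nroots) :
    ∀ l : List ℕ, (∀ i ∈ l, i < D.rank) →
      l.foldr (wN D) src < D.nroots ∧ params hD G₀ (l.foldr (wN D) src) = params hD G₀ src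
  | [], _ => ⟨hsrc, rfl⟩
  | i :: l, h => by
    obtain ⟨h1, h2⟩ := params_foldr hsrc l fun j hj => h j (List.mem_cons_of_mem _ hj)
    have hi := h i List.mem_cons_self
    exact ⟨refl_lt hD (hD.simple_lt i hi) h1, by rw [List.foldr_cons, params_wN hD hone hi h1, h2]⟩

/-- Read off an equality of parameters from a word. -/
theorem params_eq_of_word {src r : ℕ} (l : List ℕ)
    (h : src < D.nroots ∧ (∀ i ∈ l, i < D.rank) ∧ l.foldr (wN D) src = r) :
    params hD G₀ r = params hD G₀ src := by
  rw [← h.2.2]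
  exact (params_foldr hD hone h.1 l h.2.1).2

variable {M : List (List ℤ)} {d : ℤ} (hR : Roots D M d)
include hR

theorem params_neg {r : ℕ} (hr : r < D.nroots) : params hD G₀ (D.neg r) = params hD G₀ r := by
  have key : ∀ q, q < D.nroots → D.IsPosRoot q → params hD G₀ (D.neg q) = params hD G₀ q := by
    intro q hq hqp
    refine (hR.pos_induction hD (P := fun q => q < D.nroots ∧ params hD G₀ (D.neg q) = params hD G₀ q)
      (fun i hi => ⟨hD.simple_lt i hi, ?_⟩) (fun i hi p hp ih => ?_) hq hqp).2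
    · rw [← params_wN hD hone hi (hD.simple_lt i hi), show wN D i (D.simple i) = D.neg (D.simple i) by
        simp [wN, Chev.refl]]
    · refine ⟨refl_lt hD (hD.simple_lt i hi) hp, ?_⟩
      rw [← hR.refl_neg hD hi hp, params_wN hD hone hi (hD.neg_lt p hp), params_wN hD hone hi hp, ih.2]
  by_cases hp : D.IsPosRoot r
  · exact key r hr hp
  · have := key _ (hD.neg_lt r hr) ((pos_or_neg hD hr).2 hp)
    rw [hD.neg_neg r hr] at this
    exact this.symm

/-- Two classes suffice. -/
theorem params_cases {a b : ℕ}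
    (h : ∀ i < D.rank, params hD G₀ (D.simple i) = params hD G₀ a ∨ params hD G₀ (D.simple i) = params hD G₀ b)
    {r : ℕ} (hr : r < D.nroots) :
    params hD G₀ r = params hD G₀ a ∨ params hD G₀ r = params hD G₀ b := by
  have key : ∀ q, q < D.nroots → D.IsPosRoot q →
      params hD G₀ q = params hD G₀ a ∨ params hD G₀ q = params hD G₀ b := by
    intro q hq hqp
    refine (hR.pos_induction hD (P := fun q => q < D.nroots ∧
      (params hD G₀ q = params hD G₀ a ∨ params hD G₀ q = params hD G₀ b))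
      (fun i hi => ⟨hD.simple_lt i hi, h i hi⟩) (fun i hi p hp ih => ?_) hq hqp).2
    exact ⟨refl_lt hD (hD.simple_lt i hi) hp, by rw [params_wN hD hone hi hp]; exact ih.2⟩
  by_cases hp : D.IsPosRoot r
  · exact key r hr hp
  · rw [← params_neg hD hone hR hr]
    exact key _ (hD.neg_lt r hr) ((pos_or_neg hD hr).2 hp)

omit hR

omit hone in
/-- A commutator word of parameters lies in `G₀`. -/
theorem word_mem {r s : ℕ} (h : r < D.nroots ∧ s < D.nroots ∧ s ≠ r ∧ s ≠ D.neg r) {t u : F}
    (ht : t ∈ params hD G₀ r) (hu : u ∈ params hD G₀ s) :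
    ((D.commWord F r s t u).map fun p => xg hD F p.1 p.2).prod ∈ G₀ := by
  have e := (ChevOrder.matSys D hD F).comm r s h.1 h.2.1 h.2.2.1 h.2.2.2 t u
  change xg hD F s u * xg hD F r t = xg hD F r t * xg hD F s u * _ at e
  rw [show ((D.commWord F r s t u).map fun p => xg hD F p.1 p.2).prod =
    (xg hD F r t * xg hD F s u)⁻¹ * (xg hD F s u * xg hD F r t) by rw [e]; exact (inv_mul_cancel_left _ _).symm]
  exact mul_mem (inv_mem (mul_mem ht hu)) (mul_mem hu ht)

omit hone in
theorem commute_of_terms {r s : ℕ} (h : r < D.nroots ∧ s < D.nroots ∧ s ≠ r ∧ s ≠ D.neg r)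
    (hT : D.commTerms r s = []) (t u : F) :
    xg hD F r t * xg hD F s u = xg hD F s u * xg hD F r t := by
  have e := (ChevOrder.matSys D hD F).comm r s h.1 h.2.1 h.2.2.1 h.2.2.2 t u
  simp only [ChevalleyDatum.commWord, hT, List.map_nil, List.prod_nil, mul_one] at e
  exact e.symm

/-- The torus carries the parameters of a long root into those of a root with pairing 1. -/
theorem torus_mem {l s : ℕ} (hs : s < D.nroots) (hl : l < D.nroots) (hp : D.pairing l s = 1) {c : F}
    (h1 : c ∈ params hD G₀ l) (h2 : -c⁻¹ ∈ params hD G₀ (D.neg l)) : c ∈ params hD G₀ s := by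
  by_cases hc : c = 0
  · rw [hc]; exact zero_mem _
  have hh : hg hD F l c ∈ G₀ := by
    have e : hg hD F l c = (xg hD F l c * xg hD F (D.neg l) (-c⁻¹) * xg hD F l c) * (ng hD F l 1)⁻¹ := by
      rw [ng_inv]; rfl
    rw [e]
    exact mul_mem (mul_mem (mul_mem h1 h2) h1) (inv_mem (ng_one_mem hD hone l))
  have := mul_mem (mul_mem hh (hone s)) (inv_mem hh)
  rw [hg_conj hD hl hc 1, hp, zpow_one, mul_one, mul_inv_cancel_right] at this
  exact this

omit hone in
/-- A finite additive subgroup containing 1 and closed under products, as a subfield. -/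
def subfieldOf (A : AddSubgroup F) (hfin : (A : Set F).Finite) (h1 : (1 : F) ∈ A)
    (hmul : ∀ x ∈ A, ∀ y ∈ A, x * y ∈ A) : Subfield F where
  carrier := A
  zero_mem' := A.zero_mem
  add_mem' := A.add_mem
  neg_mem' := A.neg_mem
  one_mem' := h1
  mul_mem' {x y} hx hy := hmul x hx y hy
  inv_mem' x hx := by
    by_cases h0 : x = 0
    · rw [h0, inv_zero]; exact A.zero_mem
    have hmaps : Set.MapsTo (fun y => x * y) (A : Set F) A := fun y hy => hmul x hx y hy
    have hsurj := (hfin.injOn_iff_bijOn_of_mapsTo hmaps).1 (fun a _ b _ e => mul_left_cancel₀ h0 e)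
    obtain ⟨y, hy, e⟩ := hsurj.surjOn h1
    rw [show x⁻¹ = y from inv_eq_of_mul_eq_one_right e]
    exact hy

omit hone in
/-- A finite set mapped injectively into a finite subset is that subset. -/
theorem eq_of_maps {S L : AddSubgroup F} (hS : (S : Set F).Finite) (hL : (L : Set F).Finite) (hle : L ≤ S)
    (f : F → F) (hf : ∀ t ∈ S, f t ∈ L) (hinj : Function.Injective f) : L = S := by
  refine le_antisymm hle fun x hx => ?_
  have h1 : (S : Set F).ncard ≤ (L : Set F).ncard :=
    Set.ncard_le_ncard_of_injOn f hf (fun a _ b _ e => hinj e) hL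
  have h2 : (L : Set F) = (S : Set F) := Set.eq_of_subset_of_ncard_le hle h1 hS
  exact (h2 ▸ (show x ∈ (S : Set F) from hx) : x ∈ (L : Set F))

omit hone in
/-- Squares in the smaller group force equality. -/
theorem eq_of_sq {S L : AddSubgroup F} (hS : (S : Set F).Finite) (hL : (L : Set F).Finite) (hle : L ≤ S)
    (h1 : (1 : F) ∈ S) (hmul : ∀ x ∈ L, ∀ y ∈ L, x * y ∈ L) (hsq : ∀ t ∈ S, t ^ 2 ∈ L) : L = S := by
  by_cases h2 : (2 : F) = 0
  · refine eq_of_maps hS hL hle (fun t => t ^ 2) hsq fun a b e => ?_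
    have e' : a ^ 2 = b ^ 2 := e
    have h : (a - b) ^ 2 = 0 := by linear_combination e' + (b ^ 2 - a * b) * h2
    exact sub_eq_zero.1 (pow_eq_zero_iff (two_ne_zero) |>.1 h)
  refine le_antisymm hle fun t ht => ?_
  have hL1 : (1 : F) ∈ L := by simpa using hsq 1 h1
  have h2L : (2 : F) ∈ L := by rw [← one_add_one_eq_two]; exact add_mem hL1 hL1
  have hd : 2 * t ∈ L := by
    rw [show 2 * t = (t + 1) ^ 2 - t ^ 2 - 1 by ring]
    exact sub_mem (sub_mem (hsq _ (add_mem ht h1)) (hsq t ht)) hL1
  have hinv : (2 : F)⁻¹ ∈ L := (subfieldOf L hL hL1 hmul).inv_mem h2L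
  rw [show t = (2 : F)⁻¹ * (2 * t) by rw [← mul_assoc, inv_mul_cancel₀ h2, one_mul]]
  exact hmul _ hinv _ hd

end Cfsg.Agent.ChevOvergroup
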