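import Cfsg.Agent.Lib.ChevOvergroup.Upper
import Cfsg.Agent.Lib.ChevOvergroup.Action

/-!
# Fixed points in `M ∩ U` and `M ∩ B`

Let `M` contain the fixed root elements of `σ`, every root element in `M` being fixed.

* `rational_pos`: `M ∩ U` is fixed by `σ`;
* `rational_borel`: `M ∩ B` is fixed by `σ`.
-/

set_option autoImplicit false

namespace Cfsg.Agent.ChevOvergroup

open Cfsg.Lie Cfsg.Lie.ChevalleyDatum Cfsg.Agent.Chev Cfsg.Agent.ChevSt Cfsg.Agent.ChevSt.Sys Cfsg.Agent.ChevOrder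
  Cfsg.Agent.ChevBN Cfsg.Agent.ChevFixed Cfsg.Agent.ChevBlocks Cfsg.Agent.Chev.UProd

variable {D : ChevalleyDatum} {F : Type*} [Field F] (hD : Good D) (σ : F →+* F)

include hD

/-- If `σ g` and `g` conjugate a fixed element to the same element then `g⁻¹ σ g` commutes with it. -/
theorem commute_of_conj_eq {g x : GL D.Idx F} (hx : mapG D σ x = x)
    (h : mapG D σ (g * x * g⁻¹) = g * x * g⁻¹) : g⁻¹ * mapG D σ g * x = x * (g⁻¹ * mapG D σ g) := by
  rw [map_mul, map_mul, map_inv, hx] at h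
  calc g⁻¹ * mapG D σ g * x = g⁻¹ * (mapG D σ g * x * (mapG D σ g)⁻¹) * mapG D σ g := by group
    _ = _ := by rw [h]; group

omit hD in
theorem mapG_inv_fixed {g : GL D.Idx F} (h : mapG D σ g⁻¹ = g⁻¹) : mapG D σ g = g := by
  rw [map_inv] at h
  exact inv_injective h

theorem mapG_xg_one (r : ℕ) : mapG D σ (xg hD F r 1) = xg hD F r 1 := by rw [mapG_xg hD, map_one]

theorem fixedGen_fixed {e : GL D.Idx F} (he : e ∈ fixedGen hD σ) : mapG D σ e = e := by
  induction he using Subgroup.closure_induction with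
  | mem x hx => obtain ⟨r, t, ht, rfl⟩ := hx; rw [mapG_xg hD, ht]
  | one => exact map_one _
  | mul x y _ _ hx hy => rw [map_mul, hx, hy]
  | inv x _ hx => rw [map_inv, hx]

theorem toral_val_fixed {h : GL D.Idx F} {χ : ℕ → Fˣ} (hχ : (h : Matrix D.Idx D.Idx F) = dg χ)
    (hf : mapG D σ h = h) {r : ℕ} (hr : r < D.nroots) : σ (χ r : F) = (χ r : F) := by
  have h2 := congrArg (fun g : GL D.Idx F => (g : Matrix D.Idx D.Idx F) (Sum.inr ⟨r, hr⟩) (Sum.inr ⟨r, hr⟩)) hf
  simpa [coe_mapG, hχ, dg] using h2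

/-- `M ∩ U` is fixed. -/
theorem rational_pos {Mg : Subgroup (GL D.Idx F)} (hgen : fixedGen hD σ ≤ Mg) {sp : ℕ} (hC : Central D F sp)
    (hAS : ∀ τ : F, ∃ t, σ t - t = τ)
    (hkill : ∀ a b, xg hD F sp a * xg hD F (D.nroots - 1) b ∈ Mg →
      mapG D σ (xg hD F sp a * xg hD F (D.nroots - 1) b) = xg hD F sp a * xg hD F (D.nroots - 1) b)
    {u : GL D.Idx F} (hu : u ∈ Mg) (huU : u ∈ D.posUnipotent F) : mapG D σ u = u := by
  have h0 : 0 < D.nroots := Nat.lt_of_le_of_lt (Nat.zero_le _) hC.pos.1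
  obtain ⟨o, ho, hmax, hθ, -⟩ := highest_facts hD h0
  set θ := D.nroots - 1
  set S := matSys D hD F
  have key : ∀ L : List ℕ, Seg D o L → ∀ u ∈ Mg, u ∈ S.genBy {q | q ∈ L} → mapG D σ u = u := by
    intro L
    induction L with
    | nil =>
      intro _ u _ hu
      have : u = 1 := by simpa [Sys.genBy] using hu
      rw [this, map_one]
    | cons k L ih =>
      intro hL u hu huL
      obtain ⟨hk, hk0⟩ := hL.2.1 k List.mem_cons_self
      have hsub : S.genBy {q | q ∈ k :: L} ≤ upper hD o F (o k - 1) := by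
        refine Subgroup.closure_mono ?_
        rintro y ⟨q, hq, v, rfl⟩
        refine ⟨q, ⟨(hL.2.1 q hq).1, ?_⟩, v, rfl⟩
        rcases List.mem_cons.1 hq with rfl | hq
        · omega
        · have := (List.pairwise_cons.1 hL.1).1 q hq; omega
      have huU : u ∈ D.posUnipotent F := upper_le_pos hD ho (by omega) (hsub huL)
      set d := mapG D σ u * u⁻¹ with hd
      have hdc : ∀ q, D.IsPosRoot q → d * xg hD F q 1 = xg hD F q 1 * d := by
        intro q hq
        have hw := comm_upper hD ho (by omega) (hsub huL) hq (1 : F)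
        have hwL : u⁻¹ * (xg hD F q 1)⁻¹ * u * xg hD F q 1 ∈ S.genBy {q | q ∈ L} := by
          refine (?_ : upper hD o F (o k) ≤ _) (upper_mono hD (by have := (ho.pos_iff q hq.1).1 hq; omega) hw)
          refine Subgroup.closure_mono ?_
          rintro y ⟨r, hr, v, rfl⟩
          refine ⟨r, ?_, v, rfl⟩
          rcases List.mem_cons.1 (hL.2.2 k List.mem_cons_self r hr.1 hr.2) with rfl | h
          · exact absurd hr.2 (lt_irrefl _)
          · exact h
        have hx : xg hD F q 1 ∈ Mg := hgen (xg_mem_fixedGen hD σ q (map_one σ))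
        have e := ih hL.tail _ (mul_mem (mul_mem (mul_mem (inv_mem hu) (inv_mem hx)) hu) hx) hwL
        rw [map_mul, map_mul, map_mul, map_inv, map_inv, mapG_xg_one hD] at e
        have e2 : (mapG D σ u)⁻¹ * (xg hD F q 1)⁻¹ * mapG D σ u = u⁻¹ * (xg hD F q 1)⁻¹ * u :=
          mul_right_cancel e
        have e3 := congrArg (fun z => (z : GL D.Idx F)⁻¹) e2
        simp only [_root_.mul_inv_rev, inv_inv] at e3
        calc d * xg hD F q 1 = mapG D σ u * (u⁻¹ * (xg hD F q 1 * u)) * u⁻¹ := by rw [hd]; group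
          _ = _ := by rw [← e3, hd]; group
      obtain ⟨a, b, hab⟩ := mem_of_commute hD ho hC
        (mul_mem (mapG_pos hD σ huU) (inv_mem huU)) hdc
      obtain ⟨a', ha'⟩ := hAS a
      obtain ⟨b', hb'⟩ := hAS b
      have hzc : ∀ a b : F, ∀ y ∈ D.posUnipotent F,
          xg hD F sp a * xg hD F θ b * y = y * (xg hD F sp a * xg hD F θ b) := by
        intro a b y hy
        induction hy using Subgroup.closure_induction with
        | mem y hy =>
          obtain ⟨r, t, hr, e⟩ := hy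
          obtain rfl : y = xg hD F r t := Units.ext e
          rw [mul_assoc, highest_commute hD hθ.1 ho hmax hθ hr.1 hr, ← mul_assoc, xg_sp_commute hD hC hr,
            mul_assoc]
        | one => simp
        | mul x y _ _ hx hy => rw [← mul_assoc, hx, mul_assoc, hy, mul_assoc]
        | inv x _ hx =>
          calc _ = x⁻¹ * (x * (xg hD F sp a * xg hD F θ b)) * x⁻¹ := by group
            _ = _ := by rw [← hx]; group
      set z := xg hD F sp a' * xg hD F θ b' with hz
      have hzU : z ∈ D.posUnipotent F :=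
        mul_mem (Subgroup.subset_closure ⟨sp, a', hC.pos, coe_xg hD _ _⟩)
          (Subgroup.subset_closure ⟨θ, b', hθ, coe_xg hD _ _⟩)
      rw [← hd] at hab
      have hdz : mapG D σ z = z * d := by
        rw [hz, map_mul, mapG_xg hD, mapG_xg hD, show σ a' = a' + a by rw [← ha']; ring,
          show σ b' = b' + b by rw [← hb']; ring, ← xg_add hD hC.pos.1, ← xg_add hD hθ.1, hab, mul_assoc,
          mul_assoc, ← mul_assoc (xg hD F sp a), xg_sp_commute hD hC hθ a b']
        group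
        all_goals rfl
      have hfix : mapG D σ (u * z⁻¹) = u * z⁻¹ := by
        have hdu : d * u = u * d := by rw [hab]; exact hzc a b u huU
        rw [map_mul, map_inv, hdz, _root_.mul_inv_rev, show mapG D σ u = d * u by rw [hd]; group, hdu]
        group
      have hzM : z ∈ Mg := by
        have h1 : u * z⁻¹ ∈ Mg := hgen (fixed_pos_mem hD σ (mul_mem huU (inv_mem hzU)) hfix)
        rw [show z = (u * z⁻¹)⁻¹ * u by group]
        exact mul_mem (inv_mem h1) hu
      rw [show u = u * z⁻¹ * z by group, map_mul, hfix, hkill a' b' hzM]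
  refine key _ (seg_posRoots ho) u hu (Subgroup.closure_mono ?_ huU)
  rintro y ⟨r, t, hr, e⟩
  exact ⟨r, by simp [posRoots, hr, hr.1], t, Units.ext e⟩

variable {M : List (List ℤ)} {d : ℤ} (hR : Roots D M d)

local notation "RR" => chevRGD hD hR F

include hR in
/-- `M ∩ B` is fixed. -/
theorem rational_borel {Mg : Subgroup (GL D.Idx F)} (hMG : Mg ≤ D.group F) (hgen : fixedGen hD σ ≤ Mg)
    (hU : ∀ u ∈ Mg, u ∈ D.posUnipotent F → mapG D σ u = u) {sp : ℕ} (hC : Central D F sp) (hCo : CorootOK D)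
    (hz : ∀ i < D.rank, D.simple i ≠ sp ∧ D.simple i ≠ D.nroots - 1)
    {g : GL D.Idx F} (hg : g ∈ Mg) (hgB : g ∈ D.borelSubgroup F) : mapG D σ g = g := by
  have h0 : 0 < D.nroots := Nat.lt_of_le_of_lt (Nat.zero_le _) hC.pos.1
  obtain ⟨o, ho, -, hθ, -⟩ := highest_facts hD h0
  have hxM : ∀ r, xg hD F r 1 ∈ Mg := fun r => hgen (xg_mem_fixedGen hD σ r (map_one σ))
  set d := g⁻¹ * mapG D σ g with hdd
  have hdB : d ∈ D.borelSubgroup F := mul_mem (inv_mem hgB) (mapG_borel hD σ hgB)
  have hpos : ∀ q, D.IsPosRoot q → d * xg hD F q 1 = xg hD F q 1 * d := fun q hq =>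
    commute_of_conj_eq hD σ (mapG_xg_one hD σ q) (hU _ (mul_mem (mul_mem hg (hxM q)) (inv_mem hg))
      (posUnipotent_conj hD hR hgB (Subgroup.subset_closure ⟨q, 1, hq, coe_xg hD q 1⟩)))
  -- the toral part of `d` is trivial
  obtain ⟨u', hu', h', hh', e'⟩ := (RR).exists_B (show d ∈ (RR).B by rw [chev_B hD hR]; exact hdB)
  have hu'U : u' ∈ D.posUnipotent F := chev_Upos hD hR (F := F) ▸ hu'
  have hh1 : h' = 1 := eq_one_of_commute_pos hD hR hh' fun q hq => by
    refine toral_fix hD hR hCo hu'U hq hh' ?_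
    have := hpos q hq
    rw [e'] at this
    calc u' * (h' * xg hD F q 1 * h'⁻¹) * u'⁻¹ = u' * h' * xg hD F q 1 * (u' * h')⁻¹ := by group
      _ = _ := by rw [this]; group
  rw [hh1, mul_one] at e'
  subst e'
  obtain ⟨u, hu, h, hh, eg⟩ := (RR).exists_B (show g ∈ (RR).B by rw [chev_B hD hR]; exact hgB)
  have huU : u ∈ D.posUnipotent F := chev_Upos hD hR (F := F) ▸ hu
  have hσg : mapG D σ g = g * d := by rw [hdd]; group
  have hhd : h * d * h⁻¹ ∈ D.posUnipotent F := posUnipotent_conj hD hR (Subgroup.mem_sup_right hh) hu'U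
  have hσh : mapG D σ h = h := by
    have e1 : mapG D σ h * h⁻¹ = (mapG D σ u)⁻¹ * (u * (h * d * h⁻¹)) := by
      calc mapG D σ h * h⁻¹ = (mapG D σ u)⁻¹ * mapG D σ (u * h) * h⁻¹ := by rw [map_mul]; group
        _ = _ := by rw [← eg, hσg, eg]; group
    have h1 : mapG D σ h * h⁻¹ = 1 := by
      rw [← Subgroup.mem_bot, ← (RR).U_inf_H]
      have hH : mapG D σ h * h⁻¹ ∈ D.diagonalSubgroup F :=
        mul_mem (mapG_diag hD σ hh) (inv_mem (show h ∈ D.diagonalSubgroup F from hh))
      have hUp : mapG D σ h * h⁻¹ ∈ (RR).Upos := by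
        rw [e1, chev_Upos hD hR]
        exact mul_mem (inv_mem (mapG_pos hD σ huU)) (mul_mem huU hhd)
      exact Subgroup.mem_inf.2 ⟨hUp, hH⟩
    exact mul_inv_eq_one.1 h1
  obtain ⟨χ, hχ, hconj⟩ := isToral_of_mem hD hh
  obtain ⟨a, b, hab⟩ := mem_of_commute hD ho hC hu'U hpos
  -- `d` commutes with the negative simple root elements
  have hneg : ∀ i (hi : i < D.rank), d * xg hD F (D.neg (D.simple i)) 1 = xg hD F (D.neg (D.simple i)) 1 * d := by
    intro i hi
    set j : Fin D.rank := ⟨i, hi⟩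
    have hs := hD.simple_lt i hi
    obtain ⟨k, hk, x, hx, eu⟩ := (RR).exists_Upos (i := j) (inv_mem hu)
    obtain ⟨t, rfl⟩ := (mem_rootSubgroup hD _).1 hx
    have hσDel : ∀ y ∈ (RR).Udel j, mapG D σ y ∈ (RR).Udel j := by
      have hle : ((RR).Udel j).map (mapG D σ) ≤ (RR).Udel j := by
        rw [Subgroup.map_le_iff_le_comap]
        refine (RR).span_le fun r hr y hy => ?_
        obtain ⟨v, rfl⟩ := (mem_rootSubgroup hD _).1 hy
        rw [Subgroup.mem_comap, mapG_xg hD]
        exact (RR).U_le_span hr (xg_mem_rootSubgroup hD _ _)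
      exact fun y hy => hle ⟨y, hy, rfl⟩
    have hin : ∀ q (hq : D.IsPosRoot q), q ≠ D.simple i → ∀ v, xg hD F q v ∈ (RR).Udel j := fun q hq hne v =>
      (RR).U_le_span (A := {s | (RR).pos s ∧ s ≠ (RR).simple j}) (r := ⟨q, hq.1⟩)
        ⟨hq, fun e => hne (congrArg Fin.val e)⟩ (xg_mem_rootSubgroup hD q v)
    have hdD : h * d * h⁻¹ ∈ (RR).Udel j := by
      refine (RR).H_conj_span _ hh _ ?_
      rw [hab]
      exact mul_mem (hin sp hC.pos (hz i hi).1.symm a) (hin _ hθ (hz i hi).2.symm b)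
    have ht : σ t = t := by
      have e1 : (xg hD F (D.simple i) (σ t))⁻¹ * (mapG D σ k)⁻¹ =
          (xg hD F (D.simple i) t)⁻¹ * k⁻¹ * (h * d * h⁻¹) := by
        have e2 : u = (xg hD F (D.simple i) t)⁻¹ * k⁻¹ := by
          rw [← inv_inv u, eu, _root_.mul_inv_rev]
          rfl
        calc (xg hD F (D.simple i) (σ t))⁻¹ * (mapG D σ k)⁻¹ = mapG D σ u := by
              rw [e2, map_mul, map_inv, map_inv, mapG_xg hD]
          _ = mapG D σ (u * h) * h⁻¹ := by rw [map_mul, hσh]; group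
          _ = _ := by rw [← eg, hσg, eg, e2]; group
      have hmem : xg hD F (D.simple i) (t + -σ t) ∈ (RR).Udel j := by
        rw [← xg_add hD hs, ← xg_inv]
        have : xg hD F (D.simple i) t * (xg hD F (D.simple i) (σ t))⁻¹ =
            k⁻¹ * (h * d * h⁻¹) * mapG D σ k := by
          calc xg hD F (D.simple i) t * (xg hD F (D.simple i) (σ t))⁻¹
              = xg hD F (D.simple i) t * ((xg hD F (D.simple i) (σ t))⁻¹ * (mapG D σ k)⁻¹) * mapG D σ k := by
                group
            _ = _ := by rw [e1]; group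
        rw [this]
        exact mul_mem (mul_mem (inv_mem hk) hdD) (hσDel k hk)
      have h2 := (RR).n_conj_Udel j _ hmem
      change ng hD F (D.simple i) 1 * _ * (ng hD F (D.simple i) 1)⁻¹ ∈ _ at h2
      rw [ng_conj_xg hD hi hs, show wN D i (D.simple i) = D.neg (D.simple i) by simp [wN, Chev.refl]] at h2
      have h3 : xg hD F (D.neg (D.simple i)) ((nSign D (D.simple i) (D.simple i) : F) * (t + -σ t)) = 1 := by
        rw [← Subgroup.mem_bot, ← borel_inf_neg hD hR]
        refine ⟨(chev_B hD hR (F := F)) ▸ (RR).Upos_le_B ((RR).Udel_le_Upos j h2), Subgroup.subset_closure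
          ⟨_, _, (isNeg_iff hD (hD.neg_lt _ hs)).2
            (fun h => (pos_or_neg hD hs).1 h (hR.pos_simple hD hi)), coe_xg hD _ _⟩⟩
      have h4 := xg_eq_one hD (hD.neg_lt _ hs) h3
      rcases mul_eq_zero.1 h4 with h5 | h5
      · rcases (nSign_cases hD hs hs).1 with h6 | h6 <;> simp [h6] at h5
      · linear_combination -h5
    set g' := xg hD F (D.simple i) t * g with hg'
    have hxt : xg hD F (D.simple i) t ∈ fixedGen hD σ := xg_mem_fixedGen hD σ _ ht
    have hg'M : g' ∈ Mg := mul_mem (hgen hxt) hg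
    have eg' : g' = k⁻¹ * h := by
      rw [hg', eg, ← inv_inv u, eu, _root_.mul_inv_rev]
      show xg hD F (D.simple i) t * ((xg hD F (D.simple i) t)⁻¹ * k⁻¹ * h) = _
      group
    set x1 := xg hD F (D.neg (D.simple i)) 1
    set v := (χ (D.neg (D.simple i)) : F) with hvd
    have hv : σ v = v := toral_val_fixed hD σ hχ hσh (hD.neg_lt _ hs)
    set xv := xg hD F (D.neg (D.simple i)) v
    have econj : g' * x1 * g'⁻¹ = xv * (xv⁻¹ * k⁻¹ * xv * k) := by
      rw [eg', show k⁻¹ * h * x1 * (k⁻¹ * h)⁻¹ = k⁻¹ * (h * x1 * h⁻¹) * k by group, hconj, mul_inv_cancel_right, mul_one,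
        ← hvd]
      simp only [xv]
      group
    have hnorm : ∀ y ∈ (RR).Udel j, xv⁻¹ * y * xv ∈ (RR).Udel j := by
      intro y hy
      obtain ⟨w, hw, ew⟩ := (RGD.RootData.mem_map_conj _).1
        (show xv⁻¹ ∈ ((RR).U ((RR).simple j)).map (MulAut.conj ((RR).n j)).toMonoidHom by
          rw [(RR).map_conj_n, (RR).w_simple]
          exact inv_mem (xg_mem_rootSubgroup hD _ _)) |>
          fun h => (⟨_, h, rfl⟩ : ∃ w, w ∈ (RR).U ((RR).simple j) ∧ w = ((RR).n j)⁻¹ * xv⁻¹ * (RR).n j)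
      have h1 := (RR).Udel_conj_n' j hy
      have h2 := (RR).U_conj_Udel j hw _ h1
      have h3 := (RR).n_conj_Udel j _ h2
      rw [ew] at h3
      convert h3 using 1
      group
    have hfix : mapG D σ (g' * x1 * g'⁻¹) = g' * x1 * g'⁻¹ := by
      have hxv : xv ∈ fixedGen hD σ := xg_mem_fixedGen hD σ _ hv
      have hy : xv⁻¹ * k⁻¹ * xv * k ∈ Mg := by
        rw [show xv⁻¹ * k⁻¹ * xv * k = xv⁻¹ * (xv * (xv⁻¹ * k⁻¹ * xv * k)) by group, ← econj]
        exact mul_mem (inv_mem (hgen hxv)) (mul_mem (mul_mem hg'M (hxM _)) (inv_mem hg'M))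
      rw [econj, map_mul, fixedGen_fixed hD σ hxv, hU _ hy
        (chev_Upos hD hR (F := F) ▸ (RR).Udel_le_Upos j (mul_mem (hnorm _ (inv_mem hk)) hk))]
    have h := commute_of_conj_eq hD σ (mapG_xg_one hD σ _) hfix
    rw [hg', map_mul, fixedGen_fixed hD σ hxt,
      show (xg hD F (D.simple i) t * g)⁻¹ * (xg hD F (D.simple i) t * mapG D σ g) = d by rw [hdd]; group] at h
    exact h
  have hinv : ∀ x, d * x = x * d → d * x⁻¹ = x⁻¹ * d := fun x hx => by
    calc d * x⁻¹ = x⁻¹ * (x * d) * x⁻¹ := by group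
      _ = _ := by rw [← hx]; group
  have hn : ∀ i < D.rank, d * ng hD F (D.simple i) 1 = ng hD F (D.simple i) 1 * d := by
    intro i hi
    have h1 := hpos _ (hR.pos_simple hD hi)
    have h2 := hinv _ (hneg i hi)
    rw [ng, inv_one, ← xg_inv]
    rw [← mul_assoc, ← mul_assoc, h1, mul_assoc (xg hD F (D.simple i) 1) d, h2, ← mul_assoc,
      mul_assoc _ d, h1, ← mul_assoc]
  have hall : ∀ q, D.IsPosRoot q → d * xg hD F (D.neg q) 1 = xg hD F (D.neg q) 1 * d := by
    intro q hq
    refine hR.pos_induction hD (P := fun q => d * xg hD F (D.neg q) 1 = xg hD F (D.neg q) 1 * d)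
      hneg (fun i hi p hp ih => ?_) hq.1 hq
    set n := ng hD F (D.simple i) 1 with hnd
    set x := xg hD F (D.neg p) 1
    have e : d * (n * x * n⁻¹) = n * x * n⁻¹ * d := by
      have hnn : d * n = n * d := hn i hi
      have h3 := hinv _ hnn
      calc d * (n * x * n⁻¹) = d * n * x * n⁻¹ := by group
        _ = n * (d * x) * n⁻¹ := by rw [hnn]; group
        _ = n * x * (d * n⁻¹) := by rw [ih]; group
        _ = _ := by rw [h3]; group
    rw [hnd, ng_conj_xg hD hi (hD.neg_lt p hp), hR.refl_neg hD hi hp, mul_one] at e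
    rcases (nSign_cases hD (hD.simple_lt i hi) (hD.neg_lt p hp)).1 with h | h <;> rw [h] at e <;> push_cast at e
    · exact e
    · have := hinv _ e
      rwa [xg_inv, _root_.neg_neg] at this
  have hd1 : d = 1 := by
    refine centralizer_eq_one hD hR ?_ fun r => ?_
    · exact borel_le_group hD hR hdB
    · by_cases hr : r < D.nroots
      · by_cases hp : D.IsPosRoot r
        · exact hpos r hp
        · have := hall _ ((pos_or_neg hD hr).2 hp)
          rwa [hD.neg_neg r hr] at this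
      · rw [xg_out hD hr, mul_one, one_mul]
  rw [hσg, hd1, mul_one]

end Cfsg.Agent.ChevOvergroup
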