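import Cfsg.Agent.Lib.ChevBN.Subfield
import Cfsg.Agent.Lib.ChevBN.HighestPair
import Cfsg.Agent.Lib.Chev.UniqueProduct

/-!
# The height filtration of `U`

* `upper hD o m`: generated by the root elements of height above `m`; `comm_upper`, `lead_comm`;
* `Central D F sp`: apart from the highest root and `sp`, every positive root has a partner with a nonzero
  structure constant, and `x_sp` is central in `U`;
* `mem_of_commute`: an element of `U` commuting with all positive `x_s(1)` is `x_sp(a) x_θ(b)`.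
-/

set_option autoImplicit false

namespace Cfsg.Agent.ChevOvergroup

open Cfsg.Lie Cfsg.Lie.ChevalleyDatum Cfsg.Agent.Chev Cfsg.Agent.ChevSt Cfsg.Agent.ChevSt.Sys Cfsg.Agent.ChevOrder
  Cfsg.Agent.ChevBN Cfsg.Agent.Chev.UProd

/-- The first commutator term is the one at `r + s`; the others have `i + j ≥ 3`. -/
theorem commTerms_head {D : ChevalleyDatum} {k s τ : ℕ} (hτ : D.chainRoot k s 1 = some τ) :
    ∃ rest, D.commTerms k s = (τ, D.chainM k s 1, 1, 1) :: rest ∧ ∀ x ∈ rest, 3 ≤ x.2.2.1 + x.2.2.2 := by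
  have e : ∀ (x : ℕ × ℤ × ℕ × ℕ) (L : List (Option ℕ × ℤ × ℕ × ℕ)),
      (((some x.1, x.2) :: L).filterMap fun c => c.1.map fun q => (q, c.2)) =
        x :: L.filterMap fun c => c.1.map fun q => (q, c.2) := fun x L => by simp
  refine ⟨_, by unfold ChevalleyDatum.commTerms; simp only [hτ]; exact e (τ, _) _, fun x hx => ?_⟩
  simp only [List.mem_filterMap, List.mem_cons, List.not_mem_nil, or_false] at hx
  obtain ⟨c, hc', hx⟩ := hx
  rcases hc' with rfl | rfl | rfl | rfl | rfl | rfl <;>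
    simp only [Option.map_eq_some_iff] at hx <;> obtain ⟨q, _, rfl⟩ := hx <;> simp

variable {D : ChevalleyDatum} (hD : Good D) {o : ℕ → ℤ} (ho : OrdOK D o) {F : Type*} [Field F]

variable (o F) in
/-- Generated by the root elements of height above `m`. -/
def upper (m : ℤ) : Subgroup (GL D.Idx F) := (matSys D hD F).genBy {q | q < D.nroots ∧ m < o q}

include hD

theorem upper_mono {a b : ℤ} (h : a ≤ b) : upper hD o F b ≤ upper hD o F a := by
  refine Subgroup.closure_mono ?_
  rintro g ⟨q, hq, t, rfl⟩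
  exact ⟨q, ⟨hq.1, lt_of_le_of_lt h hq.2⟩, t, rfl⟩

theorem xg_mem_upper {m : ℤ} {q : ℕ} (hq : q < D.nroots) (h : m < o q) (t : F) :
    xg hD F q t ∈ upper hD o F m :=
  (matSys D hD F).x_mem_genBy (T := {q | q < D.nroots ∧ m < o q}) ⟨hq, h⟩ t

include ho

theorem upper_le_pos {m : ℤ} (hm : 0 ≤ m) : upper hD o F m ≤ D.posUnipotent F := by
  refine (Subgroup.closure_le _).2 ?_
  rintro g ⟨q, hq, t, rfl⟩
  exact Subgroup.subset_closure ⟨q, t, (ho.pos_iff q hq.1).2 (lt_of_le_of_lt hm hq.2), coe_xg hD q t⟩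

theorem terms_above {r s : ℕ} (hr : r < D.nroots) (hs : s < D.nroots) (h₁ : s ≠ r) (hr0 : 0 < o r)
    (hs0 : 0 < o s) {τ : ℕ × ℤ × ℕ × ℕ} (hτ : τ ∈ D.commTerms r s) :
    τ.1 < D.nroots ∧ o r + o s ≤ o τ.1 := by
  have h₂ : s ≠ D.neg r := by rintro rfl; rw [ho.neg r hr] at hs0; omega
  obtain ⟨h1, h2, h3, h4⟩ := (show IsLin D o from ⟨ho.add, ho.neg⟩).commTerms hD hr hs h₁ h₂ hτ
  refine ⟨h1, ?_⟩
  have e1 : o r ≤ (τ.2.2.1 : ℤ) * o r := le_mul_of_one_le_left (by omega) (by exact_mod_cast h2)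
  have e2 : o s ≤ (τ.2.2.2 : ℤ) * o s := le_mul_of_one_le_left (by omega) (by exact_mod_cast h3)
  omega

theorem pos_le_normalizer_upper {m : ℤ} (hm : 0 ≤ m) :
    D.posUnipotent F ≤ Subgroup.normalizer (upper hD o F m : Set (GL D.Idx F)) := by
  refine (Subgroup.closure_le _).2 ?_
  rintro g ⟨r, t, hr, e⟩
  obtain rfl : g = xg hD F r t := Units.ext e
  have hr0 := (ho.pos_iff r hr.1).1 hr
  by_cases h : m < o r
  · exact Subgroup.le_normalizer (xg_mem_upper hD hr.1 h t)
  refine (matSys D hD F).x_mem_normalizer_genBy hr.1 (fun s hs => hs.1) (fun s hs => ⟨?_, ?_⟩) (fun s hs τ hτ => ?_) t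
  · rintro rfl; exact h hs.2
  · rintro rfl; have := hs.2; rw [ho.neg r hr.1] at this; omega
  · obtain ⟨h1, h2⟩ := terms_above hD ho hr.1 hs.1 (fun e => h (e ▸ hs.2)) hr0 (by have := hs.2; omega) hτ
    exact ⟨h1, by have := hs.2; omega⟩

theorem comm_upper {a : ℤ} (ha : 0 ≤ a) {g : GL D.Idx F} (hg : g ∈ upper hD o F a) {s : ℕ}
    (hs : D.IsPosRoot s) (u : F) :
    g⁻¹ * (xg hD F s u)⁻¹ * g * xg hD F s u ∈ upper hD o F (a + o s) := by
  have hs0 := (ho.pos_iff s hs.1).1 hs
  have hN : ∀ y ∈ D.posUnipotent F, ∀ x ∈ upper hD o F (a + o s), y * x * y⁻¹ ∈ upper hD o F (a + o s) :=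
    fun y hy x hx =>
      (Subgroup.mem_normalizer_iff.1 (pos_le_normalizer_upper hD ho (by omega) hy) x).1 hx
  induction hg using Subgroup.closure_induction with
  | mem g hg =>
    obtain ⟨q, ⟨hq, hqa⟩, t, rfl⟩ := hg
    show (xg hD F q t)⁻¹ * (xg hD F s u)⁻¹ * xg hD F q t * xg hD F s u ∈ _
    by_cases h1 : q = s
    · subst h1
      rw [show (xg hD F q t)⁻¹ * (xg hD F q u)⁻¹ * xg hD F q t * xg hD F q u = 1 by
        rw [xg_inv, xg_inv, xg_add hD hq, xg_add hD hq, xg_add hD hq, show -t + -u + t + u = 0 by ring, xg_zero]]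
      exact one_mem _
    have h2 : q ≠ D.neg s := by rintro rfl; rw [ho.neg s hs.1] at hqa; omega
    have e := (matSys D hD F).comm s q hs.1 hq h1 h2 u t
    change xg hD F q t * xg hD F s u = xg hD F s u * xg hD F q t * _ at e
    rw [show (xg hD F q t)⁻¹ * (xg hD F s u)⁻¹ * xg hD F q t * xg hD F s u =
      (xg hD F q t)⁻¹ * (xg hD F s u)⁻¹ * (xg hD F q t * xg hD F s u) by group, e]
    rw [show ∀ W : GL D.Idx F, (xg hD F q t)⁻¹ * (xg hD F s u)⁻¹ * (xg hD F s u * xg hD F q t * W) = W from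
      fun W => by group]
    refine (matSys D hD F).word_mem (T := {q | q < D.nroots ∧ a + o s < o q}) u t fun τ hτ => ?_
    obtain ⟨h3, h4⟩ := terms_above hD ho hs.1 hq h1 hs0 (by omega) hτ
    exact ⟨h3, by omega⟩
  | one => simp [one_mem]
  | mul x y hx hy ihx ihy =>
    have := mul_mem (hN y⁻¹ (inv_mem (upper_le_pos hD ho ha hy)) _ ihx) ihy
    convert this using 1
    group
  | inv x hx ihx =>
    have := hN x (upper_le_pos hD ho ha hx) _ (inv_mem ihx)
    convert this using 1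
    group

/-- The first term of a commutator. -/
theorem lead_comm {k s τ : ℕ} (hk : D.IsPosRoot k) (hs : D.IsPosRoot s) (hne : s ≠ k)
    (hτ : D.chainRoot k s 1 = some τ) {g : GL D.Idx F} (hg : g ∈ upper hD o F (o k)) {t : F}
    (hc : xg hD F k t * g * xg hD F s 1 = xg hD F s 1 * (xg hD F k t * g)) :
    ((D.chainM k s 1 : ℤ) : F) * t = 0 := by
  have hk0 := (ho.pos_iff k hk.1).1 hk
  have hs0 := (ho.pos_iff s hs.1).1 hs
  have h2 : s ≠ D.neg k := by rintro rfl; rw [ho.neg k hk.1] at hs0; omega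
  have hτv := ho.add k hk.1 s hs.1 τ hτ
  have hτlt := (hD.cartan_add k hk.1 s hs.1 τ hτ).1
  set m := o k + o s with hm
  set S := matSys D hD F
  -- split the word
  obtain ⟨rest, hrest, hmem⟩ := commTerms_head hτ
  have e := S.comm k s hk.1 hs.1 hne h2 t 1
  change xg hD F s 1 * xg hD F k t = xg hD F k t * xg hD F s 1 *
    ((D.commWord F k s t 1).map fun p => xg hD F p.1 p.2).prod at e
  simp only [ChevalleyDatum.commWord, hrest, List.map_cons, List.prod_cons, pow_one, mul_one] at e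
  set W := (List.map (fun p : ℕ × F => xg hD F p.1 p.2)
    (List.map (fun c : ℕ × ℤ × ℕ × ℕ => (c.1, (c.2.1 : F) * (-t) ^ c.2.2.1 * 1 ^ c.2.2.2)) rest)).prod with hW
  have hWm : W ∈ upper hD o F m := by
    refine list_prod_mem fun y hy => ?_
    simp only [List.map_map, List.mem_map, Function.comp_apply] at hy
    obtain ⟨x, hx, rfl⟩ := hy
    have hx' : x ∈ D.commTerms k s := hrest ▸ List.mem_cons_of_mem _ hx
    obtain ⟨h3, h4, h5, h6⟩ := (show IsLin D o from ⟨ho.add, ho.neg⟩).commTerms hD hk.1 hs.1 hne h2 hx'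
    refine xg_mem_upper hD h3 ?_ _
    rw [h6, hm]
    have := hmem x hx
    rcases Nat.lt_or_ge x.2.2.1 2 with h | h
    · have h' : x.2.2.1 = 1 := by omega
      have : (2 : ℤ) ≤ (x.2.2.2 : ℤ) := by omega
      rw [h']
      push_cast
      nlinarith
    · have e2 : (2 : ℤ) ≤ (x.2.2.1 : ℤ) := by exact_mod_cast h
      have e3 : (1 : ℤ) ≤ (x.2.2.2 : ℤ) := by exact_mod_cast h5
      nlinarith
  have hg' := comm_upper hD ho hk0.le hg hs (1 : F)
  have hgU : g ∈ D.posUnipotent F := upper_le_pos hD ho hk0.le hg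
  have hx : xg hD F τ (((D.chainM k s 1 : ℤ) : F) * -t) ∈ upper hD o F m := by
    have h3 := (Subgroup.mem_normalizer_iff.1 (pos_le_normalizer_upper hD ho (m := m) (by omega) hgU) _).1 hg'
    have e2 : g * (g⁻¹ * (xg hD F s 1)⁻¹ * g * xg hD F s 1) * g⁻¹ =
        xg hD F τ (((D.chainM k s 1 : ℤ) : F) * -t) * W := by
      refine mul_left_cancel (a := xg hD F k t * xg hD F s 1) ?_
      rw [← e]
      calc xg hD F k t * xg hD F s 1 * (g * (g⁻¹ * (xg hD F s 1)⁻¹ * g * xg hD F s 1) * g⁻¹)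
          = (xg hD F k t * g * xg hD F s 1) * g⁻¹ := by group
        _ = _ := by rw [hc]; group
    rw [e2] at h3
    exact (Subgroup.mul_mem_cancel_right _ hWm).1 h3
  set T := (Finset.range D.nroots).filter fun q => m ≤ o q
  have h0 : ((D.chainM k s 1 : ℤ) : F) * -t = 0 := by
    refine eq_zero_of_mul_genBy S hD (f := o) ⟨ho.add, ho.neg⟩ (T := T) hτlt (by omega)
      (fun q hq => ?_) (fun q hq => ?_) (g' := (xg hD F τ (((D.chainM k s 1 : ℤ) : F) * -t))⁻¹) ?_ ?_
    · simp only [T, Finset.mem_filter, Finset.mem_range] at hq; exact ⟨hq.1, by omega⟩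
    · simp only [T, Finset.mem_filter, Finset.mem_range] at hq; omega
    · refine inv_mem ((?_ : upper hD o F m ≤ _) hx)
      refine Subgroup.closure_mono ?_
      rintro y ⟨q, ⟨hq, hqm⟩, v, rfl⟩
      refine ⟨q, ?_, v, rfl⟩
      simp only [Finset.coe_erase, Set.mem_diff, Set.mem_singleton_iff, Finset.mem_coe, T, Finset.mem_filter,
        Finset.mem_range]
      exact ⟨⟨hq, hqm.le⟩, by rintro rfl; omega⟩
    · show xg hD F τ _ * _ = 1
      exact mul_inv_cancel _
  rwa [mul_neg, neg_eq_zero] at h0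

omit hD ho in
/-- Apart from `θ` and `sp` every positive root has a partner with a nonzero structure constant, and
`x_sp` is central in `U`. -/
structure Central (D : ChevalleyDatum) (F : Type*) [Field F] (sp : ℕ) : Prop where
  pos : D.IsPosRoot sp
  nz : ∀ k, D.IsPosRoot k → k ≠ D.nroots - 1 → k ≠ sp →
    ∃ s, D.IsPosRoot s ∧ s ≠ k ∧ ((D.chainM k s 1 : ℤ) : F) ≠ 0
  comm : ∀ s, D.IsPosRoot s → s ≠ sp → ∀ τ ∈ D.commTerms sp s, ((τ.2.1 : ℤ) : F) = 0

omit ho in
theorem xg_sp_commute {sp : ℕ} (hC : Central D F sp) {s : ℕ} (hs : D.IsPosRoot s) (t u : F) :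
    xg hD F sp t * xg hD F s u = xg hD F s u * xg hD F sp t := by
  by_cases h : s = sp
  · subst h; rw [xg_add hD hs.1, xg_add hD hs.1, add_comm]
  have h2 : s ≠ D.neg sp := by
    rintro rfl
    exact (pos_or_neg hD hC.pos.1).1 hs hC.pos
  have e := (matSys D hD F).comm sp s hC.pos.1 hs.1 h h2 t u
  have h1 : ((D.commWord F sp s t u).map fun p => (matSys D hD F).x p.1 p.2).prod = 1 := by
    refine List.prod_eq_one fun y hy => ?_
    simp only [ChevalleyDatum.commWord, List.map_map, List.mem_map, Function.comp_apply] at hy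
    obtain ⟨τ, hτ, rfl⟩ := hy
    simp [hC.comm s hs h τ hτ, Sys.x_zero]
  rw [h1, mul_one] at e
  exact e.symm

/-- An element of `U` commuting with all positive `x_s(1)`. -/
theorem mem_of_commute {sp : ℕ} (hC : Central D F sp) {d : GL D.Idx F} (hd : d ∈ D.posUnipotent F)
    (hc : ∀ s, D.IsPosRoot s → d * xg hD F s 1 = xg hD F s 1 * d) :
    ∃ a b : F, d = xg hD F sp a * xg hD F (D.nroots - 1) b := by
  have h0 : 0 < D.nroots := Nat.lt_of_le_of_lt (Nat.zero_le _) hC.pos.1
  obtain ⟨o', ho', hmax, hθ, -⟩ := highest_facts hD h0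
  set θ := D.nroots - 1 with hθdef
  set S := matSys D hD F
  have hθc : ∀ s, D.IsPosRoot s → ∀ t u : F,
      xg hD F θ t * xg hD F s u = xg hD F s u * xg hD F θ t :=
    fun s hs t u => highest_commute hD hθ.1 ho' hmax hθ hs.1 hs t u
  have key : ∀ L : List ℕ, Seg D o L → ∀ g ∈ S.genBy {q | q ∈ L},
      (∀ s, D.IsPosRoot s → g * xg hD F s 1 = xg hD F s 1 * g) →
      g ∈ S.genBy {q | q = sp ∨ q = θ} := by
    intro L
    induction L with
    | nil =>
      intro _ g hg _
      refine (?_ : S.genBy {q | q ∈ ([] : List ℕ)} ≤ _) hg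
      exact Subgroup.closure_mono fun y ⟨q, hq, _⟩ => absurd hq List.not_mem_nil
    | cons k L ih =>
      intro hL g hg hc
      obtain ⟨tv, -, rfl⟩ := exists_prod hD ho (k :: L) hL g hg
      rw [List.map_cons, List.prod_cons] at hc ⊢
      set g' := (L.map fun r => S.x r (tv r)).prod with hg'
      have hg'L : g' ∈ S.genBy {q | q ∈ L} := prod_mem hD L tv
      obtain ⟨hk, hk0⟩ := hL.2.1 k List.mem_cons_self
      have hkp : D.IsPosRoot k := (ho.pos_iff k hk).2 hk0
      by_cases hz : k = sp ∨ k = θ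
      · refine mul_mem (S.x_mem_genBy (T := {q | q = sp ∨ q = θ}) hz _) (ih hL.tail g' hg'L fun s hs => ?_)
        have hkc : xg hD F k (tv k) * xg hD F s 1 = xg hD F s 1 * xg hD F k (tv k) := by
          rcases hz with rfl | rfl
          · exact xg_sp_commute hD hC hs _ _
          · exact hθc s hs _ _
        have h := hc s hs
        change xg hD F k (tv k) * g' * xg hD F s 1 = xg hD F s 1 * (xg hD F k (tv k) * g') at h
        rw [← mul_assoc (xg hD F s 1), ← hkc, mul_assoc, mul_assoc] at h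
        exact mul_left_cancel h
      · push Not at hz
        obtain ⟨s, hs, hsk, hne⟩ := hC.nz k hkp hz.2 hz.1
        obtain ⟨τ, hτ⟩ : ∃ τ, D.chainRoot k s 1 = some τ := by
          rcases h : D.chainRoot k s 1 with _ | τ
          · exfalso
            simp only [ChevalleyDatum.chainRoot, Option.map_eq_none_iff] at h
            apply hne
            simp only [ChevalleyDatum.chainM, h, Option.map_none, Option.getD_none, Int.cast_zero]
          · exact ⟨τ, rfl⟩
        have hup : g' ∈ upper hD o F (o k) := by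
          refine (?_ : S.genBy {q | q ∈ L} ≤ _) hg'L
          refine Subgroup.closure_mono ?_
          rintro y ⟨q, hq, v, rfl⟩
          exact ⟨q, ⟨(hL.2.1 q (List.mem_cons_of_mem _ hq)).1, (List.pairwise_cons.1 hL.1).1 q hq⟩, v, rfl⟩
        have ht := (mul_eq_zero.1 (lead_comm hD ho hkp hs hsk hτ hup (hc s hs))).resolve_left hne
        rw [show S.x k (tv k) * g' = g' by rw [ht, S.x_zero, one_mul]] at hc ⊢
        exact ih hL.tail g' hg'L hc
  have hgen : d ∈ S.genBy {q | q ∈ D.posRoots} := by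
    refine Subgroup.closure_mono ?_ hd
    rintro y ⟨r, t, hr, e⟩
    exact ⟨r, by simp [posRoots, hr, hr.1], t, Units.ext e⟩
  have h := key _ (seg_posRoots ho) d hgen hc
  clear hgen hc hd
  induction h using Subgroup.closure_induction with
  | mem y hy =>
    obtain ⟨q, rfl | rfl, t, rfl⟩ := hy
    · exact ⟨t, 0, by rw [xg_zero, mul_one]; rfl⟩
    · exact ⟨0, t, by rw [xg_zero, one_mul]; rfl⟩
  | one => exact ⟨0, 0, by rw [xg_zero, xg_zero, one_mul]⟩
  | mul x y _ _ hx hy =>
    obtain ⟨a, b, rfl⟩ := hx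
    obtain ⟨a', b', rfl⟩ := hy
    refine ⟨a + a', b + b', ?_⟩
    rw [← xg_add hD hC.pos.1, ← xg_add hD hθ.1, mul_assoc, ← mul_assoc (xg hD F θ b), ← xg_sp_commute hD hC hθ]
    group
  | inv x _ hx =>
    obtain ⟨a, b, rfl⟩ := hx
    refine ⟨-a, -b, ?_⟩
    rw [_root_.mul_inv_rev, xg_inv, xg_inv, xg_sp_commute hD hC hθ]

end Cfsg.Agent.ChevOvergroup
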